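import Groth.Prelude.Def_EGA41
import Groth.Agent.S3441
import Mathlib.RingTheory.AdicCompletion.AsTensorProduct
import Mathlib.RingTheory.Kaehler.Basic

/-!
# Extending derivations with values in finite modules to completions
-/

set_option autoImplicit false
set_option linter.style.haveILetI false

universe u

open scoped TensorProduct

namespace Groth.Agent.H19.EGA.CompDerivation

variable {A₀ A : Type u} [CommRing A₀] [CommRing A] [Algebra A₀ A]

theorem map_pow_succ {M : Type u} [AddCommGroup M] [Module A M] [Module A₀ M] (I : Ideal A)
    (d : Derivation A₀ A M) :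
    ∀ (n : ℕ) {b : A}, b ∈ I ^ (n + 1) → d b ∈ (I ^ n • ⊤ : Submodule A M) := by
  intro n
  induction n with
  | zero => exact fun _ => by simp
  | succ n ih =>
    intro b hb
    rw [pow_succ'] at hb
    refine Submodule.mul_induction_on hb (fun x hx y hy => ?_) fun x y hx hy => ?_
    · rw [Derivation.leibniz]
      refine Submodule.add_mem _ ?_ ?_
      · rw [pow_succ', Submodule.mul_smul]
        exact Submodule.smul_mem_smul hx (ih hy)
      · exact Submodule.smul_mem_smul hy Submodule.mem_top
    · rw [map_add]
      exact Submodule.add_mem _ hx hy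

/-- A derivation into a finite module extends to the completion. -/
theorem exists_extension [IsNoetherianRing A] (I : Ideal A) (M : Type u) [AddCommGroup M]
    [Module A M] [Module A₀ M] [IsScalarTower A₀ A M] [Module.Finite A M]
    (d : Derivation A₀ A M) :
    ∃ D : Derivation A₀ (AdicCompletion I A) (AdicCompletion I A ⊗[A] M),
      ∀ a : A, D (algebraMap A (AdicCompletion I A) a) = 1 ⊗ₜ d a := by
  let C := AdicCompletion I A
  choose rep hrep using fun (x : C) (n : ℕ) =>
    Submodule.Quotient.mk_surjective (I ^ n • ⊤ : Submodule A A) (x.val n)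
  have hle : ∀ n, (I ^ n • ⊤ : Submodule A A) = I ^ n := fun n => by simp
  have hcong : ∀ (n : ℕ) {a b : A},
      a - b ∈ I ^ (n + 1) → d a - d b ∈ (I ^ n • ⊤ : Submodule A M) := fun n a b h => by
    rw [← map_sub]
    exact map_pow_succ I d n h
  have hval : ∀ (x : C) {m n : ℕ}, m ≤ n → rep x n - rep x m ∈ I ^ m := fun x m n hmn => by
    have h1 : AdicCompletion.transitionMap I A hmn (x.val n) = x.val m := x.property hmn
    rw [← hrep x n, ← hrep x m] at h1
    have h2 := (Submodule.Quotient.eq _).1 h1
    rwa [hle] at h2
  let seq : C → AdicCompletion.AdicCauchySequence I M := fun x =>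
    AdicCompletion.AdicCauchySequence.mk I M (fun n => d (rep x (n + 1))) fun n => by
      rw [SModEq.sub_mem]
      exact neg_sub (d (rep x (n + 1 + 1))) (d (rep x (n + 1))) ▸
        Submodule.neg_mem _ (hcong n (hval x (Nat.le_succ (n + 1))))
  let F : C → AdicCompletion I M := fun x => AdicCompletion.mk I M (seq x)
  have key : ∀ (x : C) (n : ℕ) (a : A), x.val (n + 1) = Submodule.Quotient.mk a →
      (F x).val n = Submodule.Quotient.mk (d a) := fun x n a ha => by
    refine (Submodule.Quotient.eq _).2 (hcong n ?_)
    have h2 := (Submodule.Quotient.eq _).1 ((hrep x (n + 1)).trans ha)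
    rwa [hle] at h2
  have key' : ∀ (x : C) (n : ℕ), x.val n = Submodule.Quotient.mk (rep x (n + 1)) := fun x n => by
    rw [← hrep x n]
    refine (Submodule.Quotient.eq _).2 ?_
    rw [hle, ← neg_sub]
    exact neg_mem (hval x (Nat.le_succ n))
  let Fl : C →ₗ[A₀] AdicCompletion I M :=
    { toFun := F
      map_add' := fun x y => AdicCompletion.ext fun n => by
        rw [AdicCompletion.val_add_apply, key x n _ (hrep x (n + 1)).symm,
          key y n _ (hrep y (n + 1)).symm,
          key (x + y) n (rep x (n + 1) + rep y (n + 1))
            (by rw [AdicCompletion.val_add_apply, ← hrep x, ← hrep y]; rfl), map_add]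
        rfl
      map_smul' := fun r x => AdicCompletion.ext fun n => by
        have h1 : ((r • x : C)).val (n + 1) = Submodule.Quotient.mk (r • rep x (n + 1)) := by
          rw [Submodule.Quotient.mk_smul, hrep]
          rfl
        rw [key (r • x) n _ h1, d.map_smul, Submodule.Quotient.mk_smul,
          ← key x n _ (hrep x (n + 1)).symm]
        rfl }
  let D₀ : Derivation A₀ C (AdicCompletion I M) := Derivation.mk' Fl fun x y =>
    AdicCompletion.ext fun n => by
      change (F (x * y)).val n = (x • F y + y • F x).val n
      rw [AdicCompletion.val_add_apply, AdicCompletion.smul_eval, AdicCompletion.smul_eval,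
        key x n _ (hrep x (n + 1)).symm, key y n _ (hrep y (n + 1)).symm, key' x n, key' y n,
        key (x * y) n (rep x (n + 1) * rep y (n + 1))
          (by rw [AdicCompletion.val_mul, ← hrep x, ← hrep y]; rfl), Derivation.leibniz]
      rfl
  haveI : IsScalarTower A₀ (AdicCompletion I A) (AdicCompletion I M) := ⟨fun r c m => by
    rw [← algebraMap_smul A r c, ← algebraMap_smul A r (c • m), smul_assoc]⟩
  let e := AdicCompletion.ofTensorProductEquivOfFiniteNoetherian I M
  refine ⟨e.symm.toLinearMap.compDer D₀, fun a => ?_⟩
  change e.symm (F (algebraMap A C a)) = _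
  rw [← AdicCompletion.ofTensorProductEquivOfFiniteNoetherian_symm_of]
  congr 1
  exact AdicCompletion.ext fun n => key _ n a rfl

/-- Completions are formally smooth relative to any base over which the differentials are finite. -/
theorem isFormallySmoothRel_completion [IsNoetherianRing A] [Module.Finite A (Ω[A⁄A₀])]
    (I : Ideal A) : EGA41.IsFormallySmoothRel A₀ A (AdicCompletion I A) := by
  refine (Groth.Agent.S3441.result A₀ A (AdicCompletion I A)).1 ?_
  obtain ⟨D, hD⟩ := exists_extension I (Ω[A⁄A₀]) (KaehlerDifferential.D A₀ A)
  refine ⟨D.liftKaehlerDifferential, LinearMap.ext fun z => ?_⟩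
  induction z using TensorProduct.induction_on with
  | zero => simp
  | add x y hx hy => simp only [map_add, LinearMap.id_apply] at hx hy ⊢; rw [hx, hy]
  | tmul c w =>
    have hw : w ∈ Submodule.span A (Set.range (KaehlerDifferential.D A₀ A)) := by
      rw [KaehlerDifferential.span_range_derivation]; trivial
    rw [LinearMap.comp_apply, KaehlerDifferential.mapBaseChange_tmul, LinearMap.map_smul,
      LinearMap.id_apply]
    suffices h : D.liftKaehlerDifferential
        (KaehlerDifferential.map A₀ A₀ A (AdicCompletion I A) w) = 1 ⊗ₜ w by
      rw [h, TensorProduct.smul_tmul', smul_eq_mul, mul_one]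
    induction hw using Submodule.span_induction with
    | mem x hx =>
      obtain ⟨a, rfl⟩ := hx
      rw [KaehlerDifferential.map_D, Derivation.liftKaehlerDifferential_comp_D, hD]
    | zero => simp
    | add x y _ _ hx hy => rw [map_add, map_add, hx, hy, TensorProduct.tmul_add]
    | smul a x _ hx =>
      rw [LinearMap.map_smul, ← algebraMap_smul (AdicCompletion I A) a, LinearMap.map_smul, hx,
        algebraMap_smul, ← TensorProduct.tmul_smul]

end Groth.Agent.H19.EGA.CompDerivation
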