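import Groth.Prelude.Def_CAlgX
import Groth.Prelude.Def_EGA41
import Groth.Agent.Lib.SymGr.RegularField
import Groth.Agent.Lib.PBasis.Cartier
import Groth.Agent.Lib.Adic.Complete
import Mathlib.Algebra.TrivSqZeroExt.Basic
import Mathlib.RingTheory.AdicCompletion.Functoriality
import Mathlib.RingTheory.OrzechProperty
import Mathlib.RingTheory.Length
import Mathlib.RingTheory.RegularLocalRing.Defs

/-!
# Completed differentials of a formally smooth complete local algebra
-/

set_option autoImplicit false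

universe u

open IsLocalRing TensorProduct TrivSqZeroExt
open Groth.Agent.Lib

namespace Groth.Agent.H19.EGA.CompKaehler

variable {k A : Type u} [Field k] [CommRing A] [IsLocalRing A] [Algebra k A]

/-- Derivations into residue vector spaces lift along thickenings. -/
theorem exists_lift (hfs : CAlgX.IsAdicFormallySmooth k A (maximalIdeal A)) {r : ℕ}
    (g : Ω[A⁄k] →ₗ[A] (Fin r → A ⧸ maximalIdeal A)) (n : ℕ) :
    ∃ G : Ω[A⁄k] →ₗ[A] (Fin r → A ⧸ maximalIdeal A ^ (n + 1)), ∀ ω i,
      Ideal.Quotient.factor (Ideal.pow_le_self n.succ_ne_zero) (G ω i) = g ω i := by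
  classical
  let Q := A ⧸ maximalIdeal A ^ (n + 1)
  let φ : Q →+* A ⧸ maximalIdeal A := Ideal.Quotient.factor (Ideal.pow_le_self n.succ_ne_zero)
  letI : Algebra Q (A ⧸ maximalIdeal A) := φ.toAlgebra
  haveI : IsScalarTower A Q (A ⧸ maximalIdeal A) :=
    IsScalarTower.of_algebraMap_eq fun a ↦ rfl
  letI : Module Qᵐᵒᵖ (A ⧸ maximalIdeal A) :=
    Module.compHom _ ((RingHom.id Q).fromOpposite fun x y ↦ mul_comm x y)
  haveI : IsCentralScalar Q (A ⧸ maximalIdeal A) := ⟨fun q x ↦ rfl⟩
  haveI : IsScalarTower k Q (A ⧸ maximalIdeal A) := IsScalarTower.of_algebraMap_eq fun c ↦ rfl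
  haveI : IsScalarTower k Qᵐᵒᵖ (A ⧸ maximalIdeal A) := ⟨fun c q x ↦ by
    show (c • q.unop) • x = c • q.unop • x
    exact smul_assoc c q.unop x⟩
  haveI : IsScalarTower A Qᵐᵒᵖ (A ⧸ maximalIdeal A) := ⟨fun c q x ↦ by
    show (c • q.unop) • x = c • q.unop • x
    exact smul_assoc c q.unop x⟩
  let π : (Fin r → Q) →ₗ[Q] (Fin r → A ⧸ maximalIdeal A) :=
    LinearMap.pi fun i ↦ (Algebra.linearMap Q (A ⧸ maximalIdeal A)).comp (LinearMap.proj i)
  have hπ : Function.Surjective π := fun w ↦ by
    choose q hq using fun i ↦ Ideal.Quotient.factor_surjective (Ideal.pow_le_self n.succ_ne_zero) (w i)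
    exact ⟨q, funext hq⟩
  let F : TrivSqZeroExt Q (Fin r → Q) →ₐ[k] TrivSqZeroExt Q (Fin r → A ⧸ maximalIdeal A) :=
    (TrivSqZeroExt.map π).restrictScalars k
  have hF1 : ∀ x, (F x).fst = x.fst := fun x ↦ TrivSqZeroExt.fst_map _ _
  have hF2 : ∀ x, (F x).snd = π x.snd := fun x ↦ TrivSqZeroExt.snd_map _ _
  have hF : Function.Surjective F := fun y ↦ by
    obtain ⟨q, hq⟩ := hπ y.snd
    exact ⟨inl y.fst + inr q, TrivSqZeroExt.ext (by simp [hF1]) (by simp [hF2, hq])⟩
  have hJ : RingHom.ker F ^ 2 = ⊥ := by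
    rw [eq_bot_iff, pow_two, Ideal.mul_le]
    intro x hx y hy
    have hx1 : x.fst = 0 := by rw [← hF1]; exact (congrArg TrivSqZeroExt.fst hx).trans fst_zero
    have hy1 : y.fst = 0 := by rw [← hF1]; exact (congrArg TrivSqZeroExt.fst hy).trans fst_zero
    refine Ideal.mem_bot.2 (TrivSqZeroExt.ext ?_ ?_)
    · rw [fst_mul, hx1, zero_mul, fst_zero]
    · rw [snd_mul, hx1, hy1]; simp
  let D := g.compDer (KaehlerDifferential.D k A)
  let ψ₀ : A →ₐ[k] TrivSqZeroExt Q (Fin r → A ⧸ maximalIdeal A) :=
    { toFun := fun a ↦ inl (Ideal.Quotient.mk _ a) + inr (D a)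
      map_one' := by
        refine TrivSqZeroExt.ext ?_ ?_ <;> simp
      map_mul' := fun a b ↦ by
        refine TrivSqZeroExt.ext ?_ ?_
        · simp
        · simp only [snd_add, snd_inl, snd_inr, zero_add, snd_mul, fst_add, fst_inl, fst_inr,
            add_zero, op_smul_eq_smul, Derivation.leibniz]
          funext i
          simp only [Pi.add_apply, Pi.smul_apply]
          rw [← algebraMap_smul Q a, ← algebraMap_smul Q b]
          rfl
      map_zero' := by simp
      map_add' := fun a b ↦ by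
        refine TrivSqZeroExt.ext ?_ ?_ <;> simp
      commutes' := fun c ↦ by
        refine TrivSqZeroExt.ext ?_ ?_
        · simp only [fst_add, fst_inl, fst_inr, add_zero]
          rfl
        · simp only [snd_add, snd_inl, snd_inr, zero_add, Derivation.map_algebraMap]
          rfl }
  let e := Ideal.quotientKerAlgEquivOfSurjective hF
  obtain ⟨χ, hχ⟩ := hfs (TrivSqZeroExt Q (Fin r → Q)) (RingHom.ker F) hJ
    (e.symm.toAlgHom.comp ψ₀) ⟨n + 2, fun x hx ↦ by
      have h0 : ψ₀ x = 0 := by
        refine TrivSqZeroExt.ext ?_ ?_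
        · show Ideal.Quotient.mk _ x + (0 : Q) = 0
          rw [add_zero, Ideal.Quotient.eq_zero_iff_mem]
          exact Ideal.pow_le_pow_right (by omega) hx
        · show (0 : Fin r → A ⧸ maximalIdeal A) + D x = 0
          rw [zero_add]
          have hx2 : x ∈ maximalIdeal A * maximalIdeal A := by
            rw [← pow_two]; exact Ideal.pow_le_pow_right (by omega) hx
          clear hx
          induction hx2 using Submodule.mul_induction_on' with
          | mem_mul_mem a ha b hb =>
            rw [Derivation.leibniz]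
            funext i
            have h1 : ∀ (c : A), c ∈ maximalIdeal A → ∀ z : A ⧸ maximalIdeal A, c • z = 0 := fun c hc z ↦ by
              rw [Algebra.smul_def, Ideal.Quotient.algebraMap_eq, Ideal.Quotient.eq_zero_iff_mem.2 hc,
                zero_mul]
            rw [Pi.add_apply, Pi.smul_apply, Pi.smul_apply, h1 a ha, h1 b hb, add_zero]
            rfl
          | add a ha b hb iha ihb =>
            rw [map_add, iha, ihb, add_zero]
      rw [AlgHom.comp_apply, h0, map_zero]⟩
  have hlift : ∀ a, F (χ a) = ψ₀ a := fun a ↦ by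
    have h1 := congrArg e (AlgHom.congr_fun hχ a)
    simp only [AlgHom.comp_apply, AlgEquiv.toAlgHom_eq_coe, AlgEquiv.coe_toAlgHom,
      AlgEquiv.apply_symm_apply] at h1
    exact h1
  have hfst : ∀ a, (χ a).fst = Ideal.Quotient.mk _ a := fun a ↦ by
    rw [← hF1, hlift a]
    show Ideal.Quotient.mk _ a + (0 : Q) = _
    rw [add_zero]
  let D' : Derivation k A (Fin r → Q) := Derivation.mk'
    { toFun := fun a ↦ (χ a).snd
      map_add' := fun a b ↦ by rw [map_add, snd_add]
      map_smul' := fun c a ↦ by rw [map_smul, snd_smul]; rfl } fun a b ↦ by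
    show (χ (a * b)).snd = a • (χ b).snd + b • (χ a).snd
    rw [map_mul, snd_mul, hfst, hfst, op_smul_eq_smul]
    funext i
    simp only [Pi.add_apply, Pi.smul_apply]
    rw [← algebraMap_smul Q a, ← algebraMap_smul Q b]
    rfl
  refine ⟨D'.liftKaehlerDifferential, fun ω i ↦ ?_⟩
  have hω : ω ∈ Submodule.span A (Set.range (KaehlerDifferential.D k A)) := by
    rw [KaehlerDifferential.span_range_derivation]; trivial
  induction hω using Submodule.span_induction with
  | mem z hz =>
    obtain ⟨a, rfl⟩ := hz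
    rw [Derivation.liftKaehlerDifferential_comp_D]
    have h1 := congrFun ((hF2 (χ a)).symm.trans (congrArg TrivSqZeroExt.snd (hlift a))) i
    refine h1.trans ?_
    show ((0 : Fin r → A ⧸ maximalIdeal A) + D a) i = _
    rw [zero_add]
    rfl
  | zero => simp
  | add a b _ _ ha hb => simp only [map_add, Pi.add_apply, ha, hb]
  | smul c a _ ha =>
    simp only [map_smul, Pi.smul_apply]
    rw [Algebra.smul_def, map_mul, ha, Algebra.smul_def]
    rfl

variable [IsNoetherianRing A]

/-- The fibre of the differentials: lengths. -/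
theorem length_fibre [hK : Algebra.EssFiniteType k (ResidueField A)] [IsRegularLocalRing A]
    (hinj : Function.Injective ((KaehlerDifferential.mapBaseChange ℤ k A).lTensor (ResidueField A)))
    (d : ℕ) (hd : ringKrullDim A = d) :
    ∃ r : ℕ, r = d + Cardinal.toNat (Algebra.trdeg k (ResidueField A)) ∧
      Nonempty (Module.Basis (Fin r) (A ⧸ maximalIdeal A) ((A ⧸ maximalIdeal A) ⊗[A] Ω[A⁄k])) := by
  classical
  let K := A ⧸ maximalIdeal A
  letI : Field K := Ideal.Quotient.field _
  haveI : Algebra.EssFiniteType k K := hK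
  have hAK : Function.Surjective (algebraMap A K) := Ideal.Quotient.mk_surjective
  obtain ⟨hfin, hυfin, hυ⟩ := PBasis.Cartier.hasIndex_iff.1
    (PBasis.Cartier.hasIndex_trdeg (K := k) (L := K))
  let I := RingHom.ker (algebraMap A K)
  let δk : I.Cotangent →ₗ[A] K ⊗[A] Ω[A⁄k] := KaehlerDifferential.kerCotangentToTensor k A K
  let δz : I.Cotangent →ₗ[A] K ⊗[A] Ω[A⁄ℤ] := KaehlerDifferential.kerCotangentToTensor ℤ A K
  let π : K ⊗[A] Ω[A⁄ℤ] →ₗ[A] K ⊗[A] Ω[A⁄k] := (KaehlerDifferential.map ℤ k A A).lTensor K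
  let β : K ⊗[k] Ω[k⁄ℤ] →ₗ[A] K ⊗[A] Ω[A⁄ℤ] := ((KaehlerDifferential.mapBaseChange ℤ k A).lTensor K) ∘ₗ
    ((AlgebraTensorModule.cancelBaseChange k A A K Ω[k⁄ℤ]).symm.toLinearMap)
  have hβ : Function.Injective β := hinj.comp (LinearEquiv.injective _)
  have hπδ : ∀ x, π (δz x) = δk x := fun x ↦ by
    obtain ⟨x, rfl⟩ := I.toCotangent_surjective x
    show (KaehlerDifferential.map ℤ k A A).lTensor K ((1 : K) ⊗ₜ[A] KaehlerDifferential.D ℤ A x.1) =
      (1 : K) ⊗ₜ[A] KaehlerDifferential.D k A x.1
    rw [LinearMap.lTensor_tmul, KaehlerDifferential.map_D]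
    rfl
  have hexβ : Function.Exact β π := by
    have h := lTensor_exact K (KaehlerDifferential.exact_mapBaseChange_map ℤ k A)
      (KaehlerDifferential.map_surjective ℤ k A)
    intro y
    rw [h y]
    constructor
    · rintro ⟨z, rfl⟩
      exact ⟨AlgebraTensorModule.cancelBaseChange k A A K Ω[k⁄ℤ] z, by simp [β]⟩
    · rintro ⟨z, rfl⟩
      exact ⟨_, rfl⟩
  have hcomp : ∀ z, KaehlerDifferential.mapBaseChange ℤ A K (β z) =
      KaehlerDifferential.mapBaseChange ℤ k K z := fun z ↦ by
    induction z with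
    | zero => simp
    | add x y hx hy => simp only [map_add, hx, hy]
    | tmul c ω =>
      have hω : ω ∈ Submodule.span k (Set.range (KaehlerDifferential.D ℤ k)) := by
        rw [KaehlerDifferential.span_range_derivation]; trivial
      induction hω using Submodule.span_induction generalizing c with
      | mem w hw =>
        obtain ⟨a, rfl⟩ := hw
        simp only [β, LinearMap.comp_apply, LinearEquiv.coe_coe,
          AlgebraTensorModule.cancelBaseChange_symm_tmul, LinearMap.lTensor_tmul,
          KaehlerDifferential.mapBaseChange_tmul, one_smul, KaehlerDifferential.map_D]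
        rfl
      | zero => simp
      | add a b _ _ ha hb => simp only [tmul_add, map_add, ha, hb]
      | smul r a _ ha => rw [← smul_tmul]; exact ha _
  have hexz := KaehlerDifferential.exact_kerCotangentToTensor_mapBaseChange ℤ A K hAK
  have hexk := KaehlerDifferential.exact_kerCotangentToTensor_mapBaseChange k A K hAK
  -- the residue field has a coefficient field modulo the square
  have hδz : Function.Injective δz := by
    haveI : Algebra.FormallySmooth (⊥ : Subfield k) K := SymGr.OverField.formallySmooth_bot _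
    let g : (A ⧸ maximalIdeal A ^ 2) →ₐ[(⊥ : Subfield k)] K :=
      Ideal.Quotient.factorₐ (⊥ : Subfield k) (show maximalIdeal A ^ 2 ≤ maximalIdeal A from Ideal.pow_le_self two_ne_zero)
    have hg : Function.Surjective g := Ideal.Quotient.factor_surjective (Ideal.pow_le_self two_ne_zero)
    have hgnil : IsNilpotent (RingHom.ker (g : (A ⧸ maximalIdeal A ^ 2) →+* K)) := by
      refine ⟨2, ?_⟩
      rw [show RingHom.ker (g : (A ⧸ maximalIdeal A ^ 2) →+* K) =
        (maximalIdeal A).map (Ideal.Quotient.mk _) from Ideal.Quotient.factor_ker (Ideal.pow_le_self two_ne_zero),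
        ← Ideal.map_pow, Ideal.map_quotient_self, Ideal.zero_eq_bot]
    let s := Algebra.FormallySmooth.liftOfSurjective (AlgHom.id (⊥ : Subfield k) K) g hg hgnil
    have hs : ∀ c, g (s c) = c := Algebra.FormallySmooth.liftOfSurjective_apply _ g hg hgnil
    have hzero : ∀ a ∈ maximalIdeal A, ∀ b : A ⧸ maximalIdeal A ^ 2,
        g b = 0 → a • b = 0 := fun a ha b hb ↦ by
      obtain ⟨b, rfl⟩ := Ideal.Quotient.mk_surjective b
      exact Ideal.Quotient.eq_zero_iff_mem.2 (by
        rw [pow_two]; exact Ideal.mul_mem_mul ha (Ideal.Quotient.eq_zero_iff_mem.1 hb))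
    let W : Submodule A (A ⧸ maximalIdeal A ^ 2) :=
      ((maximalIdeal A).map (Ideal.Quotient.mk (maximalIdeal A ^ 2))).restrictScalars A
    let τ : A → W := fun a ↦ ⟨Ideal.Quotient.mk _ a - s (Ideal.Quotient.mk _ a), by
      show _ ∈ (maximalIdeal A).map _
      rw [← Ideal.Quotient.factor_ker (Ideal.pow_le_self two_ne_zero), RingHom.mem_ker, map_sub]
      show Ideal.Quotient.mk _ a - g (s _) = 0
      rw [hs, sub_self]⟩
    let Dτ : Derivation ℤ A W := Derivation.mk'
      ({ toFun := τ
         map_zero' := Subtype.ext (by simp [τ])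
         map_add' := fun a b ↦ Subtype.ext (by simp [τ]; ring) } : A →+ W).toIntLinearMap fun a b ↦ by
        refine Subtype.ext ?_
        show Ideal.Quotient.mk _ (a * b) - s (Ideal.Quotient.mk _ (a * b)) =
          a • (Ideal.Quotient.mk _ b - s (Ideal.Quotient.mk _ b)) +
            b • (Ideal.Quotient.mk _ a - s (Ideal.Quotient.mk _ a))
        obtain ⟨u, hu⟩ := Ideal.Quotient.mk_surjective (s (Ideal.Quotient.mk (maximalIdeal A) a))
        obtain ⟨v, hv⟩ := Ideal.Quotient.mk_surjective (s (Ideal.Quotient.mk (maximalIdeal A) b))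
        rw [map_mul, map_mul, map_mul, ← hu, ← hv]
        simp only [Algebra.smul_def, Ideal.Quotient.algebraMap_eq, ← map_mul, ← map_sub, ← map_add,
          Ideal.Quotient.eq]
        rw [show a * b - u * v - (a * (b - v) + b * (a - u)) = -((a - u) * (b - v)) by ring, pow_two]
        refine neg_mem (Ideal.mul_mem_mul ?_ ?_) <;> rw [← Ideal.Quotient.eq]
        · exact (hs _).symm.trans (congrArg g hu.symm)
        · exact (hs _).symm.trans (congrArg g hv.symm)
    let lz : Ω[A⁄ℤ] →ₗ[A] W := Dτ.liftKaehlerDifferential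
    have hlz : (maximalIdeal A • ⊤ : Submodule A Ω[A⁄ℤ]) ≤ LinearMap.ker lz :=
      Submodule.smul_le.2 fun a ha ω _ ↦ by
        rw [LinearMap.mem_ker, map_smul]
        refine Subtype.ext ?_
        show a • ((lz ω : W) : A ⧸ maximalIdeal A ^ 2) = 0
        refine hzero a ha _ ?_
        have : ((lz ω : W) : A ⧸ maximalIdeal A ^ 2) ∈
            RingHom.ker (g : (A ⧸ maximalIdeal A ^ 2) →+* K) := by
          rw [show RingHom.ker (g : (A ⧸ maximalIdeal A ^ 2) →+* K) =
            (maximalIdeal A).map (Ideal.Quotient.mk _) from Ideal.Quotient.factor_ker (Ideal.pow_le_self two_ne_zero)]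
          exact (lz ω).2
        exact this
    let L := (Submodule.liftQ _ lz hlz).comp
      (TensorProduct.quotTensorEquivQuotSMul Ω[A⁄ℤ] (maximalIdeal A)).toLinearMap
    have hL : ∀ ω, L ((1 : K) ⊗ₜ[A] ω) = lz ω := fun ω ↦ by
      show Submodule.liftQ _ lz hlz (TensorProduct.quotTensorEquivQuotSMul Ω[A⁄ℤ] (maximalIdeal A)
        ((Ideal.Quotient.mk (maximalIdeal A) 1) ⊗ₜ[A] ω)) = lz ω
      rw [TensorProduct.quotTensorEquivQuotSMul_mk_tmul, one_smul]
      rfl
    rw [injective_iff_map_eq_zero]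
    intro x hx
    obtain ⟨⟨x, hxI⟩, rfl⟩ := I.toCotangent_surjective x
    have hxm : x ∈ maximalIdeal A := Ideal.Quotient.eq_zero_iff_mem.1 hxI
    have h1 := congrArg (fun z ↦ (L z : A ⧸ maximalIdeal A ^ 2)) hx
    have h2 : (L ((1 : K) ⊗ₜ[A] KaehlerDifferential.D ℤ A x) : W).1 = (L 0).1 := h1
    rw [hL, map_zero, Derivation.liftKaehlerDifferential_comp_D] at h2
    replace h2 : Ideal.Quotient.mk _ x - s (Ideal.Quotient.mk _ x) = 0 := h2
    rw [Ideal.Quotient.eq_zero_iff_mem.2 hxm, map_zero, sub_zero, Ideal.Quotient.eq_zero_iff_mem] at h2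
    rw [Ideal.toCotangent_eq_zero]
    show x ∈ I ^ 2
    rw [show I = maximalIdeal A from Ideal.mk_ker]
    exact h2
  -- the kernel over `k` is the imperfection module
  let Υ := (EGA41.imperfection ℤ k K).restrictScalars A
  have h1 : (LinearMap.ker δk).map δz = Υ.map β := by
    refine le_antisymm ?_ ?_
    · rintro _ ⟨x, hx, rfl⟩
      obtain ⟨z, hz⟩ := (hexβ _).1 ((hπδ x).trans hx)
      refine ⟨z, ?_, hz⟩
      show KaehlerDifferential.mapBaseChange ℤ k K z = 0
      rw [← hcomp, hz]
      exact (hexz _).2 ⟨x, rfl⟩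
    · rintro _ ⟨z, hz, rfl⟩
      obtain ⟨x, hx⟩ := (hexz (β z)).1 ((hcomp z).trans hz)
      refine ⟨x, ?_, hx⟩
      show δk x = 0
      rw [← hπδ, show δz x = β z from hx]
      exact (hexβ _).2 ⟨z, rfl⟩
  have hker : Module.length A (LinearMap.ker δk) = Module.finrank K (EGA41.imperfection ℤ k K) := by
    have e1 : LinearMap.ker δk ≃ₗ[A] ((LinearMap.ker δk).map δz : Submodule A _) :=
      Submodule.equivMapOfInjective δz hδz (LinearMap.ker δk)
    have e2 : Υ ≃ₗ[A] (Υ.map β : Submodule A _) := Submodule.equivMapOfInjective β hβ Υ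
    have l1 := LinearEquiv.length_eq (R := A) (M := LinearMap.ker δk)
      (N := ((LinearMap.ker δk).map δz : Submodule A _)) e1
    have l2 := LinearEquiv.length_eq (R := A) (M := Υ) (N := (Υ.map β : Submodule A _)) e2
    rw [l1, h1, ← l2, Module.length_eq_of_surjective (R := K) hAK]
    haveI : Module.Finite K Υ := hfin
    rw [Module.length_eq_finrank]
    rfl
  have hI : Module.length A I.Cotangent = d := by
    rw [show I = maximalIdeal A from Ideal.mk_ker]
    have : Module.length A (CotangentSpace A) = (d : ℕ∞) := by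
      rw [Module.length_eq_of_surjective (R := ResidueField A) Ideal.Quotient.mk_surjective,
        Module.length_eq_finrank, ← IsLocalRing.spanFinrank_maximalIdeal_eq_finrank_cotangentSpace_of_fg
          (IsNoetherian.noetherian _)]
      have := IsRegularLocalRing.spanFinrank_maximalIdeal (R := A)
      rw [hd] at this
      exact_mod_cast congrArg (fun n : ℕ ↦ n) (Nat.cast_injective this)
    exact this
  let δr : I.Cotangent →ₗ[A] LinearMap.range δk := δk.codRestrict _ fun x ↦ ⟨x, rfl⟩
  have hcot := Module.length_eq_add_of_exact (R := A) (N := LinearMap.ker δk) (M := I.Cotangent)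
    (P := LinearMap.range δk) (LinearMap.ker δk).subtype δr
    (Submodule.injective_subtype _) (fun y ↦ by
      obtain ⟨x, hx⟩ := y.2
      exact ⟨x, Subtype.ext hx⟩)
    (LinearMap.exact_iff.2 (by rw [LinearMap.ker_codRestrict, Submodule.range_subtype]))
  rw [hI, hker] at hcot
  have htot := Module.length_eq_add_of_exact (R := A) (N := LinearMap.range δk) (M := K ⊗[A] Ω[A⁄k])
    (P := Ω[K⁄k]) (LinearMap.range δk).subtype
    ((KaehlerDifferential.mapBaseChange k A K).restrictScalars A) (Submodule.injective_subtype _)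
    (KaehlerDifferential.mapBaseChange_surjective k A K hAK) (fun y ↦ by
      rw [Submodule.coe_subtype, Subtype.range_coe]
      exact hexk y)
  rw [Module.length_eq_of_surjective (M := Ω[K⁄k]) hAK, Module.length_eq_finrank K (Ω[K⁄k])] at htot
  obtain ⟨l, hl⟩ := ENat.ne_top_iff_exists.1
    (show Module.length A (LinearMap.range δk) ≠ ⊤ from fun h ↦ by
      rw [h, add_top] at hcot; exact ENat.coe_ne_top d hcot)
  rw [← hl, ← Nat.cast_add, Nat.cast_inj] at hcot
  rw [← hl, ← Nat.cast_add, Module.length_eq_of_surjective hAK] at htot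
  have hfinT : Module.Finite K (K ⊗[A] Ω[A⁄k]) := by
    have h := Module.length_ne_top_iff.1 (htot ▸ ENat.coe_ne_top _ : Module.length K (K ⊗[A] Ω[A⁄k]) ≠ ⊤)
    have := (isFiniteLength_iff_isNoetherian_isArtinian.1 h).1
    infer_instance
  rw [Module.length_eq_finrank, Nat.cast_inj] at htot
  refine ⟨Module.finrank K (K ⊗[A] Ω[A⁄k]), ?_, ⟨Module.finBasis K _⟩⟩
  have htr : Algebra.trdeg k (ResidueField A) = Algebra.trdeg k K := rfl
  rw [htr]
  have hυ' : (Module.finrank K (EGA41.imperfection ℤ k K) : ℤ) - Module.finrank K Ω[K⁄k] =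
      -(Cardinal.toNat (Algebra.trdeg k K) : ℤ) := hυ
  omega

/-- The completed differentials are free of rank dimension plus transcendence degree. -/
theorem main [IsAdicComplete (maximalIdeal A) A]
    (hfs : CAlgX.IsAdicFormallySmooth k A (maximalIdeal A))
    [Algebra.EssFiniteType k (ResidueField A)] :
    Module.Finite A (AdicCompletion (maximalIdeal A) (Ω[A⁄k])) ∧
    Module.Free A (AdicCompletion (maximalIdeal A) (Ω[A⁄k])) ∧
      (Module.finrank A (AdicCompletion (maximalIdeal A) (Ω[A⁄k])) : WithBot ℕ∞) =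
        ringKrullDim A + (Cardinal.toNat (Algebra.trdeg k (ResidueField A)) : WithBot ℕ∞) := by
  classical
  obtain ⟨hreg, hinj⟩ := SymGr.RegularField.iff_regular_and_injective_int.1 hfs
  obtain ⟨d, hd⟩ : ∃ d : ℕ, ringKrullDim A = d :=
    ⟨_, (IsRegularLocalRing.spanFinrank_maximalIdeal (R := A)).symm⟩
  obtain ⟨r, hr, ⟨b⟩⟩ := length_fibre hinj d hd
  let K := A ⧸ maximalIdeal A
  let m := maximalIdeal A
  let g : Ω[A⁄k] →ₗ[A] (Fin r → K) :=
    (b.equivFun.toLinearMap.restrictScalars A).comp (TensorProduct.mk A K Ω[A⁄k] 1)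
  have hone : ∀ t : K ⊗[A] Ω[A⁄k], ∃ ω, (1 : K) ⊗ₜ[A] ω = t :=
    TensorProduct.mk_surjective A Ω[A⁄k] K Ideal.Quotient.mk_surjective
  choose e he using fun i ↦ hone (b i)
  let f : (Fin r → A) →ₗ[A] Ω[A⁄k] := Fintype.linearCombination A e
  have hgf : ∀ x i, g (f x) i = Ideal.Quotient.mk m (x i) := fun x i ↦ by
    simp only [g, f, Fintype.linearCombination_apply, map_sum, map_smul, LinearMap.comp_apply,
      TensorProduct.mk_apply, he, LinearMap.restrictScalars_apply, LinearEquiv.coe_coe,
      Module.Basis.equivFun_self, Finset.sum_apply, Pi.smul_apply]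
    rw [Finset.sum_eq_single i (fun j _ hj ↦ by rw [if_neg hj, smul_zero])
      (fun h ↦ absurd (Finset.mem_univ i) h), if_pos rfl, Algebra.smul_def, mul_one]
    rfl
  have hsurj : Function.Surjective (Submodule.mkQ (m • ⊤) ∘ₗ f) := fun z ↦ by
    obtain ⟨y, rfl⟩ := Submodule.mkQ_surjective _ z
    choose x hx using fun i ↦ Ideal.Quotient.mk_surjective (I := m) (g y i)
    refine ⟨x, ?_⟩
    have h1 : (1 : K) ⊗ₜ[A] f x = (1 : K) ⊗ₜ[A] y :=
      b.equivFun.injective (funext fun i ↦ (hgf x i).trans (hx i))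
    have h2 := congrArg (TensorProduct.quotTensorEquivQuotSMul Ω[A⁄k] m) h1
    rw [show (1 : K) = Ideal.Quotient.mk m 1 from rfl, TensorProduct.quotTensorEquivQuotSMul_mk_tmul,
      TensorProduct.quotTensorEquivQuotSMul_mk_tmul, one_smul, one_smul] at h2
    exact h2
  have hkey : ∀ (n : ℕ) (x : Fin r → A), f x ∈ (m ^ (n + 1) • ⊤ : Submodule A Ω[A⁄k]) →
      ∀ i, x i ∈ m ^ (n + 1) := by
    intro n x hx
    obtain ⟨G, hG⟩ := exists_lift hfs g n
    let Q := A ⧸ m ^ (n + 1)
    let M : (Fin r → Q) →ₗ[Q] (Fin r → Q) := Fintype.linearCombination Q fun i ↦ G (e i)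
    have hM : ∀ y : Fin r → A, M (fun i ↦ Ideal.Quotient.mk _ (y i)) = G (f y) := fun y ↦ by
      simp only [M, f, Fintype.linearCombination_apply, map_sum, map_smul]
      exact Finset.sum_congr rfl fun i _ ↦ algebraMap_smul Q (y i) (G (e i))
    have hMs : Function.Surjective M := by
      have hle : (⊤ : Submodule A (Fin r → Q)) ≤ LinearMap.range (G ∘ₗ f) := by
        refine Submodule.le_of_le_smul_of_le_jacobson_bot (I := m) Module.Finite.fg_top
          (IsLocalRing.maximalIdeal_le_jacobson _) fun y _ ↦ ?_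
        choose y' hy' using fun i ↦ Ideal.Quotient.mk_surjective (y i)
        refine Submodule.mem_sup.2 ⟨G (f y'), ⟨y', rfl⟩, y - G (f y'), ?_, add_sub_cancel _ _⟩
        choose c hc using fun i ↦ Ideal.Quotient.mk_surjective ((y - G (f y')) i)
        have hcm : ∀ i, c i ∈ m := fun i ↦ by
          rw [← Ideal.Quotient.eq_zero_iff_mem]
          have := congrArg (Ideal.Quotient.factor (Ideal.pow_le_self n.succ_ne_zero)) (hc i)
          simpa [hG, hgf, ← hy' i] using this
        rw [show y - G (f y') = ∑ i, c i • Pi.single (M := fun _ ↦ Q) i 1 from funext fun i ↦ by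
          rw [Finset.sum_apply, Finset.sum_eq_single i (fun j _ hj ↦ by
              rw [Pi.smul_apply, Pi.single_eq_of_ne hj.symm, smul_zero])
            (fun h ↦ absurd (Finset.mem_univ i) h), Pi.smul_apply, Pi.single_eq_same, ← hc i,
            Algebra.smul_def, mul_one]
          rfl]
        exact sum_mem fun i _ ↦ Submodule.smul_mem_smul (hcm i) Submodule.mem_top
      intro y
      obtain ⟨x, hx⟩ := hle (Submodule.mem_top (x := y))
      exact ⟨_, (hM x).trans hx⟩
    have h0 : G (f x) = 0 := by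
      have h := Submodule.mem_map_of_mem (f := G) hx
      rw [Submodule.map_smul''] at h
      refine (Submodule.mem_bot A).1 (Submodule.smul_le.2 (fun a ha w _ ↦ ?_) h)
      rw [Submodule.mem_bot]
      funext i
      rw [Pi.smul_apply, Algebra.smul_def, Ideal.Quotient.algebraMap_eq,
        Ideal.Quotient.eq_zero_iff_mem.2 ha, zero_mul]
      rfl
    intro i
    have := OrzechProperty.injective_of_surjective_endomorphism M hMs
      (((hM x).trans h0).trans (map_zero M).symm)
    exact Ideal.Quotient.eq_zero_iff_mem.1 (congrFun this i)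
  haveI : IsAdicComplete m A := ‹_›
  haveI : IsAdicComplete m (Fin r → A) := Adic.Complete.isAdicComplete_of_finite
  let F : (Fin r → A) →ₗ[A] AdicCompletion m (Ω[A⁄k]) :=
    ((AdicCompletion.map m f).restrictScalars A) ∘ₗ (AdicCompletion.ofLinearEquiv m (Fin r → A)).toLinearMap
  have hFof : ∀ x, F x = AdicCompletion.of m _ (f x) := fun x ↦ AdicCompletion.map_of m f x
  have hF : Function.Bijective F := by
    refine ⟨(injective_iff_map_eq_zero _).2 fun x hx ↦ funext fun i ↦ ?_,
      (AdicCompletion.map_surjective_of_mkQ_comp_surjective hsurj).comp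
        (AdicCompletion.ofLinearEquiv m _).surjective⟩
    refine IsHausdorff.haus (inferInstance : IsHausdorff m A) (x i) fun n ↦ ?_
    rw [SModEq.zero, smul_eq_mul, Ideal.mul_top]
    refine Ideal.pow_le_pow_right n.le_succ (hkey n x ?_ i)
    have := congrArg (AdicCompletion.eval m _ (n + 1)) (hFof x ▸ hx)
    rw [AdicCompletion.eval_of, map_zero, Submodule.mkQ_apply, Submodule.Quotient.mk_eq_zero] at this
    exact this
  let E := LinearEquiv.ofBijective F hF
  refine ⟨Module.Finite.equiv E, Module.Free.of_equiv E, ?_⟩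
  rw [← E.finrank_eq, Module.finrank_fin_fun, hr, hd]
  exact_mod_cast rfl

end Groth.Agent.H19.EGA.CompKaehler
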