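import Groth.Agent.H19.EGA.JacobianSmooth
import Groth.Agent.Lib.JacCrit.FlatRegular
import Groth.Agent.Lib.SymGr.RegularField
import Mathlib.RingTheory.RegularLocalRing.Polynomial
import Mathlib.RingTheory.Smooth.Kaehler
import Mathlib.Algebra.MvPolynomial.PDeriv
import Mathlib.LinearAlgebra.TensorProduct.Basis

/-!
# Flatness over a polynomial ring on elements with independent differentials
-/

set_option autoImplicit false
set_option linter.style.haveILetI false

universe u

open IsLocalRing
open scoped TensorProduct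

namespace Groth.Agent.H19.EGA.DiffBasisFlat

open MvPolynomial (pderiv)

variable {k₀ k : Type u} [Field k₀] [Field k] [Algebra k₀ k] {m : ℕ}

/-- The part of the differential coming from the coefficients. -/
noncomputable def coeffPart (Q : Type u) [CommRing Q] [Algebra k Q] [Algebra (MvPolynomial (Fin m) k) Q]
    (f : MvPolynomial (Fin m) k) : Q ⊗[k] Ω[k⁄k₀] :=
  ∑ a ∈ f.support, algebraMap (MvPolynomial (Fin m) k) Q (MvPolynomial.monomial a 1) ⊗ₜ[k]
    KaehlerDifferential.D k₀ k (f.coeff a)

/-- A differential of a polynomial whose partial derivatives vanish. -/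
theorem expand {Q W : Type u} [CommRing Q] [Algebra k Q] [AddCommGroup W] [Module Q W]
    [Algebra (MvPolynomial (Fin m) k) Q] [IsScalarTower k (MvPolynomial (Fin m) k) Q]
    [Module (MvPolynomial (Fin m) k) W] [IsScalarTower (MvPolynomial (Fin m) k) Q W] [Module k₀ W]
    (Δ : Derivation k₀ (MvPolynomial (Fin m) k) W) (α : Q ⊗[k] Ω[k⁄k₀] →ₗ[Q] W)
    (hα : ∀ c, α (1 ⊗ₜ KaehlerDifferential.D k₀ k c) = Δ (MvPolynomial.C c))
    (f : MvPolynomial (Fin m) k)
    (hf : ∀ j, algebraMap (MvPolynomial (Fin m) k) Q (pderiv j f) = 0) :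
    Δ f = α (coeffPart Q f) := by
  classical
  have hmon : ∀ a : Fin m →₀ ℕ, Δ (MvPolynomial.monomial a 1) =
      ∑ j, pderiv j (MvPolynomial.monomial a (1 : k)) • Δ (MvPolynomial.X j) := by
    intro a
    induction a using Finsupp.induction with
    | zero => simp
    | single_add i e a _ _ ih =>
      rw [show MvPolynomial.monomial (Finsupp.single i e + a) (1 : k) =
        MvPolynomial.X i ^ e * MvPolynomial.monomial a 1 by
          rw [MvPolynomial.monomial_single_add]]
      have hX : Δ ((MvPolynomial.X i : MvPolynomial (Fin m) k) ^ e) =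
          ∑ j, pderiv j ((MvPolynomial.X i : MvPolynomial (Fin m) k) ^ e) • Δ (MvPolynomial.X j) := by
        rw [Finset.sum_eq_single i (fun j _ hji => by
            rw [Derivation.leibniz_pow, MvPolynomial.pderiv_X_of_ne (Ne.symm hji)]; simp)
          (by simp), Derivation.leibniz_pow, Derivation.leibniz_pow, MvPolynomial.pderiv_X_self]
        rw [smul_eq_mul, mul_one, smul_assoc]
      simp only [Derivation.leibniz, ih, hX, Finset.smul_sum, ← Finset.sum_add_distrib, add_smul,
        smul_smul, smul_eq_mul]
  have hterm : ∀ a ∈ f.support, Δ (MvPolynomial.monomial a (f.coeff a)) =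
      α (algebraMap (MvPolynomial (Fin m) k) Q (MvPolynomial.monomial a 1) ⊗ₜ[k]
        KaehlerDifferential.D k₀ k (f.coeff a)) +
      ∑ j, pderiv j (MvPolynomial.monomial a (f.coeff a)) • Δ (MvPolynomial.X j) := by
    intro a _
    have h1 : MvPolynomial.monomial a (f.coeff a) =
        MvPolynomial.C (f.coeff a) * MvPolynomial.monomial a 1 := by
      rw [MvPolynomial.C_mul_monomial, mul_one]
    rw [h1, Derivation.leibniz, hmon, ← algebraMap_smul Q (MvPolynomial.monomial a (1 : k)), ← hα,
      ← map_smul, TensorProduct.smul_tmul', smul_eq_mul, mul_one, add_comm, Finset.smul_sum]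
    congr 1
    exact Finset.sum_congr rfl fun j _ => by
      rw [smul_smul, Derivation.leibniz, MvPolynomial.pderiv_C, smul_zero, add_zero, smul_eq_mul]
  conv_lhs => rw [MvPolynomial.as_sum f]
  rw [map_sum, Finset.sum_congr rfl hterm, Finset.sum_add_distrib, ← map_sum, Finset.sum_comm]
  refine add_eq_left.2 (Finset.sum_eq_zero fun j _ => ?_)
  rw [← Finset.sum_smul, ← map_sum, ← MvPolynomial.as_sum, ← algebraMap_smul Q (pderiv j f), hf,
    zero_smul]

/-- Independent vectors stay independent after extending the field. -/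
theorem indep_baseChange {L K : Type u} [Field L] [Field K] [Algebra L K] {M : Type u} [AddCommGroup M]
    [Module L M] {ι : Type*} {v : ι → M} (hv : LinearIndependent L v) :
    LinearIndependent K fun i => (1 : K) ⊗ₜ[L] v i := by
  let b := Module.Basis.extend hv.linearIndepOn_id
  have h1 : LinearIndependent K fun i =>
      (b.baseChange K) ⟨v i, hv.linearIndepOn_id.subset_extend _ ⟨i, rfl⟩⟩ :=
    (b.baseChange K).linearIndependent.comp _ fun i j h => hv.injective (congrArg Subtype.val h)
  convert h1 using 1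
  funext i
  rw [Module.Basis.baseChange_apply, Module.Basis.extend_apply_self]

/-- Differentials of elements of `𝔪 ^ 2` vanish at the closed point. -/
theorem tmul_D_eq_zero {S : Type u} [CommRing S] [IsLocalRing S] [Algebra k₀ S] {y : S}
    (hy : y ∈ maximalIdeal S ^ 2) :
    (1 : ResidueField S) ⊗ₜ[S] KaehlerDifferential.D k₀ S y = 0 := by
  have h : ∀ (a : S) (w : Ω[S⁄k₀]), a ∈ maximalIdeal S → (1 : ResidueField S) ⊗ₜ[S] (a • w) = 0 :=
    fun a w ha => by
      rw [← TensorProduct.smul_tmul, Algebra.smul_def, mul_one, ResidueField.algebraMap_eq,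
        (residue_eq_zero_iff a).2 ha, TensorProduct.zero_tmul]
  rw [pow_two] at hy
  refine Submodule.mul_induction_on hy (fun a ha b hb => ?_) fun a b ha hb => ?_
  · rw [Derivation.leibniz, TensorProduct.tmul_add, h a _ ha, h b _ hb, add_zero]
  · rw [map_add, TensorProduct.tmul_add, ha, hb, add_zero]

/-- A formally smooth quotient makes the conormal map injective. -/
theorem mem_sq_of_surjective {P L : Type u} [CommRing P] [CommRing L] [Algebra k₀ P] [Algebra k₀ L]
    [Algebra P L] [IsScalarTower k₀ P L] [Algebra.FormallySmooth k₀ L]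
    (hf : Function.Surjective (algebraMap P L)) {y : P} (hy : y ∈ RingHom.ker (algebraMap P L))
    (h : (1 : L) ⊗ₜ[P] KaehlerDifferential.D k₀ P y = 0) : y ∈ RingHom.ker (algebraMap P L) ^ 2 := by
  let g := (IsScalarTower.toAlgHom k₀ P L).kerSquareLift
  have hs : Function.Surjective g := Function.Surjective.of_comp (g := Ideal.Quotient.mk _) hf
  have hn : IsNilpotent (RingHom.ker g.toRingHom) := ⟨2, by
    rw [AlgHom.ker_kerSquareLift]
    exact Ideal.cotangentIdeal_square _⟩
  obtain ⟨r, hr⟩ := (retractionKerCotangentToTensorEquivSection (R := k₀) hf).symm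
    ⟨Algebra.FormallySmooth.liftOfSurjective (AlgHom.id k₀ L) g hs hn,
      Algebra.FormallySmooth.comp_liftOfSurjective (AlgHom.id k₀ L) g hs hn⟩
  have h1 := LinearMap.congr_fun hr (Ideal.toCotangent _ (⟨y, hy⟩ : RingHom.ker (algebraMap P L)))
  rw [LinearMap.comp_apply, KaehlerDifferential.kerCotangentToTensor_toCotangent, h, map_zero,
    LinearMap.id_apply, eq_comm, Ideal.toCotangent_eq_zero] at h1
  exact h1

/-- Conversely when the residue field is formally smooth. -/
theorem mem_sq_of_tmul_D_eq_zero {S : Type u} [CommRing S] [IsLocalRing S] [Algebra k₀ S]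
    [Algebra.FormallySmooth k₀ (ResidueField S)] {y : S} (hy : y ∈ maximalIdeal S)
    (h : (1 : ResidueField S) ⊗ₜ[S] KaehlerDifferential.D k₀ S y = 0) : y ∈ maximalIdeal S ^ 2 := by
  have hker : RingHom.ker (algebraMap S (ResidueField S)) = maximalIdeal S := IsLocalRing.ker_residue
  rw [← hker] at hy ⊢
  exact mem_sq_of_surjective residue_surjective hy h

/-- The differential of a combination at the closed point. -/
theorem tmul_D_sum {S : Type u} [CommRing S] [IsLocalRing S] [Algebra k₀ S] {c : ℕ} (s u : Fin c → S)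
    (hu : ∀ i, u i ∈ maximalIdeal S) :
    (1 : ResidueField S) ⊗ₜ[S] KaehlerDifferential.D k₀ S (∑ i, s i * u i) =
      ∑ i, residue S (s i) • ((1 : ResidueField S) ⊗ₜ[S] KaehlerDifferential.D k₀ S (u i)) := by
  rw [map_sum, TensorProduct.tmul_sum]
  refine Finset.sum_congr rfl fun i _ => ?_
  rw [Derivation.leibniz, TensorProduct.tmul_add, ← TensorProduct.smul_tmul, ← TensorProduct.smul_tmul,
    Algebra.smul_def, Algebra.smul_def, mul_one, mul_one, ResidueField.algebraMap_eq,
    (residue_eq_zero_iff (u i)).2 (hu i), TensorProduct.zero_tmul, add_zero, TensorProduct.smul_tmul',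
    smul_eq_mul, mul_one]

/-- Independence of coefficient parts persists in an extension field. -/
theorem coeffPart_indep {L K : Type u} [Field L] [Field K] [Algebra L K] [Algebra k L] [Algebra k K]
    [IsScalarTower k L K] [Algebra (MvPolynomial (Fin m) k) L] [Algebra (MvPolynomial (Fin m) k) K]
    [IsScalarTower (MvPolynomial (Fin m) k) L K] {c : ℕ} (u : Fin c → MvPolynomial (Fin m) k)
    (hv : LinearIndependent L fun i => coeffPart (k₀ := k₀) L (u i)) :
    LinearIndependent K fun i => coeffPart (k₀ := k₀) K (u i) := by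
  have hK : ∀ i, coeffPart (k₀ := k₀) K (u i) =
      TensorProduct.AlgebraTensorModule.cancelBaseChange k L K K (Ω[k⁄k₀])
        ((1 : K) ⊗ₜ[L] coeffPart (k₀ := k₀) L (u i)) := fun i => by
    simp only [coeffPart, TensorProduct.tmul_sum, map_sum,
      TensorProduct.AlgebraTensorModule.cancelBaseChange_tmul]
    refine Finset.sum_congr rfl fun a _ => ?_
    rw [Algebra.smul_def, mul_one, ← IsScalarTower.algebraMap_apply]
  simp only [hK]
  exact (indep_baseChange (K := K) hv).map'
    (TensorProduct.AlgebraTensorModule.cancelBaseChange k L K K (Ω[k⁄k₀])).toLinearMap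
    (LinearEquiv.ker _)

/-- The images of a regular system of parameters at the centre are part of one upstairs. -/
theorem indep_image {S A : Type u} [CommRing S] [IsLocalRing S] [CommRing A] [IsLocalRing A]
    [Algebra k₀ S] [Algebra k S] [IsScalarTower k₀ k S]
    [Algebra k₀ A] [Algebra k A] [IsScalarTower k₀ k A]
    [Algebra (MvPolynomial (Fin m) k) S] [IsScalarTower k (MvPolynomial (Fin m) k) S]
    [IsScalarTower k₀ (MvPolynomial (Fin m) k) S]
    [Algebra (MvPolynomial (Fin m) k) A] [IsScalarTower k (MvPolynomial (Fin m) k) A]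
    [IsScalarTower k₀ (MvPolynomial (Fin m) k) A]
    [Algebra S A] [IsScalarTower (MvPolynomial (Fin m) k) S A] [IsScalarTower k S A]
    [IsLocalHom (algebraMap S A)]
    [Algebra.FormallySmooth k₀ (ResidueField S)]
    (hinj : Function.Injective ((KaehlerDifferential.mapBaseChange k₀ k A).lTensor (ResidueField A)))
    (hpart : ∀ f : MvPolynomial (Fin m) k, algebraMap _ (ResidueField S) f = 0 →
      ∀ j, algebraMap (MvPolynomial (Fin m) k) (ResidueField S) (pderiv j f) = 0)
    {c : ℕ} (u : Fin c → MvPolynomial (Fin m) k)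
    (hu : ∀ i, algebraMap _ S (u i) ∈ maximalIdeal S)
    (hli : LinearIndependent (ResidueField S)
      fun i => (maximalIdeal S).toCotangent ⟨_, hu i⟩) :
    LinearIndependent (ResidueField A) fun i => (maximalIdeal A).toCotangent
      (⟨algebraMap _ A (u i), by
        rw [IsScalarTower.algebraMap_apply (MvPolynomial (Fin m) k) S A]
        exact IsLocalRing.map_maximalIdeal_le (algebraMap S A) (Ideal.mem_map_of_mem _ (hu i))⟩ :
        maximalIdeal A) := by
  classical
  let L := ResidueField S
  let K := ResidueField A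
  have hres : ∀ x : S, residue S x = algebraMap S L x := fun _ => rfl
  -- downstairs: independence of the coefficient parts
  have hv : LinearIndependent L fun i => coeffPart (k₀ := k₀) L (u i) := by
    rw [Fintype.linearIndependent_iff]
    intro l hl
    let α : L ⊗[k] Ω[k⁄k₀] →ₗ[L] L ⊗[S] Ω[S⁄k₀] :=
      (((TensorProduct.mk S L (Ω[S⁄k₀]) 1).restrictScalars k).comp
        (KaehlerDifferential.map k₀ k₀ k S)).liftBaseChange L
    let Δ : Derivation k₀ (MvPolynomial (Fin m) k) (L ⊗[S] Ω[S⁄k₀]) :=
      ((((TensorProduct.mk S L (Ω[S⁄k₀]) 1).restrictScalars (MvPolynomial (Fin m) k))).comp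
        (KaehlerDifferential.map k₀ k₀ (MvPolynomial (Fin m) k) S)).compDer
        (KaehlerDifferential.D k₀ (MvPolynomial (Fin m) k))
    have hΔ : ∀ f, Δ f = (1 : L) ⊗ₜ[S] KaehlerDifferential.D k₀ S (algebraMap _ S f) := fun f => by
      simp [Δ]
    have hexp : ∀ i, (1 : L) ⊗ₜ[S] KaehlerDifferential.D k₀ S (algebraMap _ S (u i)) =
        α (coeffPart L (u i)) := fun i => by
      rw [← hΔ]
      refine expand Δ α (fun c => ?_) _ (hpart _ ?_)
      · rw [hΔ, ← MvPolynomial.algebraMap_eq, ← IsScalarTower.algebraMap_apply]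
        simp [α]
      · rw [IsScalarTower.algebraMap_apply _ S L, ← hres, residue_eq_zero_iff]
        exact hu i
    choose s hs using fun i => residue_surjective (R := S) (l i)
    have hy : (1 : L) ⊗ₜ[S] KaehlerDifferential.D k₀ S (∑ i, s i * algebraMap _ S (u i)) = 0 := by
      rw [tmul_D_sum s _ hu]
      have h1 := congrArg α hl
      rw [map_sum, map_zero] at h1
      refine Eq.trans (Finset.sum_congr rfl fun i _ => ?_) h1
      rw [map_smul, hexp, hs]
    have hy' := mem_sq_of_tmul_D_eq_zero (Ideal.sum_mem _ fun i _ => Ideal.mul_mem_left _ _ (hu i)) hy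
    have h0 : ∑ i, l i • (maximalIdeal S).toCotangent ⟨_, hu i⟩ = 0 := by
      rw [← (Ideal.toCotangent_eq_zero _ (∑ i, s i • (⟨_, hu i⟩ : maximalIdeal S))).2 (by
        simpa [Submodule.coe_sum] using hy'), map_sum]
      exact Finset.sum_congr rfl fun i _ => by rw [map_smul, ← hs]; rfl
    exact Fintype.linearIndependent_iff.1 hli l h0
  -- upstairs
  have hLK : ∀ x : S, algebraMap (ResidueField S) (ResidueField A) (residue S x) = residue A (algebraMap S A x) :=
    fun x => rfl
  haveI : IsScalarTower k (ResidueField S) (ResidueField A) := IsScalarTower.of_algebraMap_eq fun x => by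
    rw [IsScalarTower.algebraMap_apply k S (ResidueField S), ResidueField.algebraMap_eq, hLK,
      ← IsScalarTower.algebraMap_apply k S A, IsScalarTower.algebraMap_apply k A (ResidueField A)]
    rfl
  haveI : IsScalarTower (MvPolynomial (Fin m) k) (ResidueField S) (ResidueField A) :=
    IsScalarTower.of_algebraMap_eq fun x => by
      rw [IsScalarTower.algebraMap_apply _ S (ResidueField S), ResidueField.algebraMap_eq, hLK,
        ← IsScalarTower.algebraMap_apply, IsScalarTower.algebraMap_apply _ A (ResidueField A)]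
      rfl
  have hvK : LinearIndependent K fun i => coeffPart (k₀ := k₀) K (u i) :=
    coeffPart_indep (L := ResidueField S) (K := ResidueField A) u hv
  let α : K ⊗[k] Ω[k⁄k₀] →ₗ[K] K ⊗[A] Ω[A⁄k₀] :=
    (((TensorProduct.mk A K (Ω[A⁄k₀]) 1).restrictScalars k).comp
      (KaehlerDifferential.map k₀ k₀ k A)).liftBaseChange K
  have hαinj : Function.Injective α := by
    have h1 : ∀ x, α x = (KaehlerDifferential.mapBaseChange k₀ k A).lTensor K
        ((TensorProduct.AlgebraTensorModule.cancelBaseChange k A K K (Ω[k⁄k₀])).symm x) := fun x => by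
      induction x with
      | zero => simp
      | tmul y w => simp [α, TensorProduct.smul_tmul']
      | add y z hy hz => simp [map_add, hy, hz]
    intro x y hxy
    rw [h1, h1] at hxy
    exact (LinearEquiv.injective _) (hinj hxy)
  let Δ : Derivation k₀ (MvPolynomial (Fin m) k) (K ⊗[A] Ω[A⁄k₀]) :=
    ((((TensorProduct.mk A K (Ω[A⁄k₀]) 1).restrictScalars (MvPolynomial (Fin m) k))).comp
      (KaehlerDifferential.map k₀ k₀ (MvPolynomial (Fin m) k) A)).compDer
      (KaehlerDifferential.D k₀ (MvPolynomial (Fin m) k))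
  have hΔ : ∀ f, Δ f = (1 : K) ⊗ₜ[A] KaehlerDifferential.D k₀ A (algebraMap _ A f) := fun f => by
    simp [Δ]
  have hexp : ∀ i, (1 : K) ⊗ₜ[A] KaehlerDifferential.D k₀ A (algebraMap _ A (u i)) =
      α (coeffPart K (u i)) := fun i => by
    rw [← hΔ]
    refine expand Δ α (fun c => ?_) _ fun j => ?_
    · rw [hΔ, ← MvPolynomial.algebraMap_eq, ← IsScalarTower.algebraMap_apply]
      simp [α]
    · have h1 := congrArg (algebraMap L K) (hpart _ (by
        rw [IsScalarTower.algebraMap_apply _ S L, ← hres, residue_eq_zero_iff]; exact hu i) j)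
      rw [IsScalarTower.algebraMap_apply (MvPolynomial (Fin m) k) S L, ← hres, hLK, map_zero,
        ← IsScalarTower.algebraMap_apply] at h1
      rw [IsScalarTower.algebraMap_apply (MvPolynomial (Fin m) k) A K]
      exact h1
  rw [Fintype.linearIndependent_iff]
  intro l hl
  choose s hs using fun i => residue_surjective (R := A) (l i)
  refine Fintype.linearIndependent_iff.1 hvK l (hαinj ?_)
  rw [map_zero, map_sum]
  have hmem : ∀ i, algebraMap (MvPolynomial (Fin m) k) A (u i) ∈ maximalIdeal A := fun i => by
    rw [IsScalarTower.algebraMap_apply (MvPolynomial (Fin m) k) S A]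
    exact IsLocalRing.map_maximalIdeal_le (algebraMap S A) (Ideal.mem_map_of_mem _ (hu i))
  have hy : (∑ i, s i * algebraMap (MvPolynomial (Fin m) k) A (u i)) ∈ maximalIdeal A ^ 2 := by
    have h1 : (maximalIdeal A).toCotangent (∑ i, s i • (⟨_, hmem i⟩ : maximalIdeal A)) = 0 := by
      rw [map_sum, ← hl]
      exact Finset.sum_congr rfl fun i _ => by rw [map_smul, ← hs]; rfl
    simpa [Submodule.coe_sum] using (Ideal.toCotangent_eq_zero _ _).1 h1
  refine Eq.trans (Finset.sum_congr rfl fun i _ => ?_) ((tmul_D_sum s _ hmem).symm.trans (tmul_D_eq_zero hy))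
  rw [map_smul, hexp, hs]

end Groth.Agent.H19.EGA.DiffBasisFlat
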