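import Groth.Agent.H19.EGA.CompKaehler
import Groth.Agent.Lib.FSAdic.Basic
import Groth.Agent.H24.PowerSeries
import Mathlib.LinearAlgebra.Basis.VectorSpace
import Mathlib.Data.Finsupp.Antidiagonal
import Mathlib.RingTheory.MvPowerSeries.Basic

/-!
# Formally smooth local algebras with given residue field
-/

set_option autoImplicit false
set_option linter.style.haveILetI false

universe u

open IsLocalRing TensorProduct
open Groth.Agent.Lib

namespace Groth.Agent.H19.EGA.FSExist

section Field

variable {k A K : Type u} [Field k] [CommRing A] [IsLocalRing A] [Algebra k A] [Field K] [Algebra A K]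
  [Algebra k K] [IsScalarTower k A K]

/-- The comparison map from the imperfection module. -/
noncomputable def beta (k A K : Type u) [Field k] [CommRing A] [Algebra k A] [Field K] [Algebra A K]
    [Algebra k K] [IsScalarTower k A K] : K ⊗[k] Ω[k⁄ℤ] →ₗ[A] K ⊗[A] Ω[A⁄ℤ] :=
  ((KaehlerDifferential.mapBaseChange ℤ k A).lTensor K) ∘ₗ
    ((AlgebraTensorModule.cancelBaseChange k A A K Ω[k⁄ℤ]).symm.toLinearMap)

theorem beta_tmul (c : K) (a : k) : beta k A K (c ⊗ₜ[k] KaehlerDifferential.D ℤ k a) =
    c ⊗ₜ[A] KaehlerDifferential.D ℤ A (algebraMap k A a) := by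
  simp only [beta, LinearMap.comp_apply, LinearEquiv.coe_coe,
    AlgebraTensorModule.cancelBaseChange_symm_tmul, LinearMap.lTensor_tmul,
    KaehlerDifferential.mapBaseChange_tmul, one_smul, KaehlerDifferential.map_D]

theorem eq_of_forall_tmul_D {M : Type u} [AddCommGroup M] [Module K M]
    (f g : K ⊗[k] Ω[k⁄ℤ] →+ M)
    (h : ∀ (c : K) (a : k), f (c ⊗ₜ[k] KaehlerDifferential.D ℤ k a) = g (c ⊗ₜ[k] KaehlerDifferential.D ℤ k a)) :
    ∀ z, f z = g z := fun z ↦ by
  induction z with
  | zero => simp
  | add x y hx hy => simp only [map_add, hx, hy]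
  | tmul c ω =>
    have hω : ω ∈ Submodule.span k (Set.range (KaehlerDifferential.D ℤ k)) := by
      rw [KaehlerDifferential.span_range_derivation]; trivial
    induction hω using Submodule.span_induction generalizing c with
    | mem w hw => obtain ⟨a, rfl⟩ := hw; exact h c a
    | zero => simp
    | add a b _ _ ha hb => simp only [tmul_add, map_add, ha, hb]
    | smul r a _ ha => rw [← smul_tmul]; exact ha _

theorem mapBaseChange_beta (z : K ⊗[k] Ω[k⁄ℤ]) :
    KaehlerDifferential.mapBaseChange ℤ A K (beta k A K z) =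
      KaehlerDifferential.mapBaseChange ℤ k K z :=
  eq_of_forall_tmul_D ((KaehlerDifferential.mapBaseChange ℤ A K).toAddMonoidHom.comp (beta k A K).toAddMonoidHom)
    (KaehlerDifferential.mapBaseChange ℤ k K).toAddMonoidHom (fun c a ↦ by
      show KaehlerDifferential.mapBaseChange ℤ A K (beta k A K (c ⊗ₜ[k] KaehlerDifferential.D ℤ k a)) =
        KaehlerDifferential.mapBaseChange ℤ k K (c ⊗ₜ[k] KaehlerDifferential.D ℤ k a)
      rw [beta_tmul]
      simp only [KaehlerDifferential.mapBaseChange_tmul, KaehlerDifferential.map_D]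
      rw [← IsScalarTower.algebraMap_apply]) z

/-- Injectivity can be tested on any copy of the residue field. -/
theorem injective_beta_iff (hAK : Function.Surjective (algebraMap A K)) :
    Function.Injective ((KaehlerDifferential.mapBaseChange ℤ k A).lTensor (ResidueField A)) ↔
      Function.Injective (beta k A K) := by
  have hker : RingHom.ker (algebraMap A K) = maximalIdeal A :=
    IsLocalRing.eq_maximalIdeal (RingHom.ker_isMaximal_of_surjective _ hAK)
  let e : ResidueField A ≃ₗ[A] K :=
    (Submodule.quotEquivOfEq (maximalIdeal A) (LinearMap.ker (Algebra.linearMap A K)) hker.symm).trans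
      (LinearMap.quotKerEquivOfSurjective (Algebra.linearMap A K) hAK)
  let eL := TensorProduct.congr e (LinearEquiv.refl A (A ⊗[k] Ω[k⁄ℤ]))
  let eR := TensorProduct.congr e (LinearEquiv.refl A Ω[A⁄ℤ])
  have h : ∀ x, (KaehlerDifferential.mapBaseChange ℤ k A).lTensor K (eL x) =
      eR ((KaehlerDifferential.mapBaseChange ℤ k A).lTensor (ResidueField A) x) := fun x ↦ by
    induction x with
    | zero => simp
    | add x y hx hy => simp only [map_add, hx, hy]
    | tmul c ω => rfl
  have h1 : Function.Injective ((KaehlerDifferential.mapBaseChange ℤ k A).lTensor (ResidueField A)) ↔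
      Function.Injective ((KaehlerDifferential.mapBaseChange ℤ k A).lTensor K) := by
    constructor
    · intro hi x y hxy
      obtain ⟨x, rfl⟩ := eL.surjective x
      obtain ⟨y, rfl⟩ := eL.surjective y
      rw [h, h] at hxy
      rw [hi (eR.injective hxy)]
    · intro hi x y hxy
      exact eL.injective (hi (by rw [h, h, hxy]))
  rw [h1]
  exact (Function.Injective.of_comp_iff' _
    (AlgebraTensorModule.cancelBaseChange k A A K Ω[k⁄ℤ]).symm.bijective).symm

/-- The imperfection module of the residue field is finite. -/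
theorem finite_imperfection [IsNoetherianRing A] (hAK : Function.Surjective (algebraMap A K))
    (hinj : Function.Injective (beta k A K)) : Module.Finite K (EGA41.imperfection ℤ k K) := by
  have hexz := KaehlerDifferential.exact_kerCotangentToTensor_mapBaseChange ℤ A K hAK
  let δ := KaehlerDifferential.kerCotangentToTensor ℤ A K
  haveI : Module.Finite A (RingHom.ker (algebraMap A K)) :=
    Module.Finite.iff_fg.2 (IsNoetherian.noetherian _)
  haveI : Module.Finite A (RingHom.ker (algebraMap A K)).Cotangent :=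
    Module.Finite.of_surjective _ (RingHom.ker (algebraMap A K)).toCotangent_surjective
  haveI : IsNoetherian A (RingHom.ker (algebraMap A K)).Cotangent := isNoetherian_of_isNoetherianRing_of_finite A _
  haveI : IsNoetherian A (LinearMap.range δ) := isNoetherian_range δ
  let f : ((EGA41.imperfection ℤ k K).restrictScalars A) →ₗ[A] LinearMap.range δ :=
    ((beta k A K).comp ((EGA41.imperfection ℤ k K).restrictScalars A).subtype).codRestrict _
      fun z ↦ (hexz _).1 ((mapBaseChange_beta z.1).trans z.2)
  have hf : Function.Injective f := fun x y h ↦ Subtype.ext (hinj (congrArg Subtype.val h))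
  haveI : IsNoetherian A ((EGA41.imperfection ℤ k K).restrictScalars A) := isNoetherian_of_injective f hf
  haveI : Module.Finite A (EGA41.imperfection ℤ k K) :=
    inferInstanceAs (Module.Finite A ((EGA41.imperfection ℤ k K).restrictScalars A))
  exact Module.Finite.of_restrictScalars_finite A K _

/-- A derivation realizing a functional injective on the imperfection module gives injectivity. -/
theorem injective_beta {n : ℕ} (c : A →+ (Fin n → K))
    (hc : ∀ f g, c (f * g) = algebraMap A K f • c g + algebraMap A K g • c f)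
    (L : K ⊗[k] Ω[k⁄ℤ] →ₗ[K] (Fin n → K))
    (hcL : ∀ a : k, c (algebraMap k A a) = L ((1 : K) ⊗ₜ[k] KaehlerDifferential.D ℤ k a))
    (hL : ∀ z ∈ EGA41.imperfection ℤ k K, L z = 0 → z = 0) : Function.Injective (beta k A K) := by
  let D1 : Derivation ℤ A (Fin n → K) := Derivation.mk' c.toIntLinearMap fun f g ↦ by
    show c (f * g) = f • c g + g • c f
    rw [hc, algebraMap_smul, algebraMap_smul]
  let lz : Ω[A⁄ℤ] →ₗ[A] (Fin n → K) := D1.liftKaehlerDifferential
  have hlz : ∀ x, lz (KaehlerDifferential.D ℤ A x) = c x := fun x ↦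
    Derivation.liftKaehlerDifferential_comp_D D1 x
  let bil : K →ₗ[A] Ω[A⁄ℤ] →ₗ[A] (Fin n → K) := LinearMap.mk₂ A (fun c ω ↦ c • lz ω)
    (fun c c' ω ↦ add_smul c c' _) (fun a c ω ↦ smul_assoc a c _)
    (fun c ω ω' ↦ by simp [smul_add]) (fun a c ω ↦ by rw [map_smul, smul_comm])
  let Ψ : K ⊗[A] Ω[A⁄ℤ] →ₗ[A] (Fin n → K) := TensorProduct.lift bil
  have hΨ : ∀ z, Ψ (beta k A K z) = L z := fun z ↦
    eq_of_forall_tmul_D (Ψ.toAddMonoidHom.comp (beta k A K).toAddMonoidHom) L.toAddMonoidHom (fun c' a ↦ by
      show Ψ (beta k A K (c' ⊗ₜ[k] KaehlerDifferential.D ℤ k a)) = L (c' ⊗ₜ[k] KaehlerDifferential.D ℤ k a)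
      rw [beta_tmul, show c' ⊗ₜ[k] KaehlerDifferential.D ℤ k a =
        c' • ((1 : K) ⊗ₜ[k] KaehlerDifferential.D ℤ k a) by rw [smul_tmul', smul_eq_mul, mul_one], map_smul,
        ← hcL, ← hlz]
      rfl) z
  rw [injective_iff_map_eq_zero]
  intro z hz
  refine hL z ?_ (by rw [← hΨ, hz, map_zero])
  show KaehlerDifferential.mapBaseChange ℤ k K z = 0
  rw [← mapBaseChange_beta (A := A), hz, map_zero]

end Field

section Series

variable {k K : Type u} [Field k] [Field K] [Algebra k K] (n : ℕ)

/-- The linear coefficients, as a derivation at the origin. -/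
theorem coeff_single_mul (i : Fin n) (f g : MvPowerSeries (Fin n) K) :
    MvPowerSeries.coeff (Finsupp.single i 1) (f * g) =
      MvPowerSeries.constantCoeff f * MvPowerSeries.coeff (Finsupp.single i 1) g +
        MvPowerSeries.constantCoeff g * MvPowerSeries.coeff (Finsupp.single i 1) f := by
  classical
  rw [MvPowerSeries.coeff_mul, Finsupp.antidiagonal_single, Finset.sum_map]
  rw [show Finset.antidiagonal 1 = {((0 : ℕ), 1), (1, 0)} from rfl, Finset.sum_pair (by decide)]
  simp [mul_comm]

/-- A map into coordinates which is injective on a small subspace. -/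
theorem exists_functional {V : Type u} [AddCommGroup V] [Module K V] (W : Submodule K V)
    [Module.Finite K W] (n : ℕ) (hn : Module.finrank K W ≤ n) :
    ∃ L : V →ₗ[K] (Fin n → K), ∀ z ∈ W, L z = 0 → z = 0 := by
  obtain ⟨Q, hQ⟩ := Submodule.exists_isCompl W
  let b := Module.finBasis K W
  let emb : W →ₗ[K] (Fin n → K) := b.constr K fun j ↦ Pi.single (Fin.castLE hn j) 1
  refine ⟨emb.comp (Submodule.projectionOnto W Q hQ), fun z hz h0 ↦ ?_⟩
  rw [LinearMap.comp_apply, show Submodule.projectionOnto W Q hQ z = ⟨z, hz⟩ from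
    Submodule.projectionOnto_apply_left hQ ⟨z, hz⟩] at h0
  have h : ∀ (w : W) (j : Fin (Module.finrank K W)), emb w (Fin.castLE hn j) = b.repr w j := fun w j ↦ by
    rw [show emb w = ∑ i, b.repr w i • (Pi.single (Fin.castLE hn i) 1 : Fin n → K) by
      conv_lhs => rw [← b.sum_repr w]
      simp only [emb, map_sum, map_smul, Module.Basis.constr_basis],
      Finset.sum_apply, Finset.sum_eq_single j]
    · simp
    · intro i _ hij
      rw [Pi.smul_apply, Pi.single_eq_of_ne (fun h ↦ hij (Fin.castLE_injective hn h).symm), smul_zero]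
    · exact fun h ↦ absurd (Finset.mem_univ j) h
  exact congrArg Subtype.val (b.ext_elem (x := (⟨z, hz⟩ : W)) (y := 0) fun j ↦ by
    rw [← h, ← h, h0, map_zero])

/-- A power series ring realizing the imperfection module in its tangent space. -/
theorem exists_algebra [Module.Finite K (EGA41.imperfection ℤ k K)]
    (hn : Module.finrank K (EGA41.imperfection ℤ k K) ≤ n) :
    ∃ (A : Type u) (_ : CommRing A) (_ : IsLocalRing A) (_ : IsNoetherianRing A) (_ : Algebra k A),
      IsAdicComplete (maximalIdeal A) A ∧ CAlgX.IsAdicFormallySmooth k A (maximalIdeal A) ∧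
      Nonempty (ResidueField A ≃ₐ[k] K) ∧ ringKrullDim A = n := by
  classical
  let A := MvPowerSeries (Fin n) K
  let m := maximalIdeal A
  haveI := H24.PowerSeries.isRegularLocalRing_fin K n
  haveI : IsAdicComplete m A := H24.PowerSeries.isAdicComplete K (Fin n)
  -- a functional injective on the imperfection module
  let Υ := EGA41.imperfection ℤ k K
  obtain ⟨L, hL⟩ := exists_functional (V := K ⊗[k] Ω[k⁄ℤ]) Υ n hn
  let Dv : k → Fin n → K := fun a ↦ L ((1 : K) ⊗ₜ[k] KaehlerDifferential.D ℤ k a)
  have hDmul : ∀ a b, Dv (a * b) = algebraMap k K a • Dv b + algebraMap k K b • Dv a := fun a b ↦ by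
    simp only [Dv, Derivation.leibniz, tmul_add, map_add, tmul_smul]
    rw [← algebraMap_smul K a, ← algebraMap_smul K b, map_smul, map_smul]
  -- the first order map
  have hX : ∀ i, (MvPowerSeries.X i : A) ∈ m := fun i ↦ H24.PowerSeries.X_mem K i
  let lin : (Fin n → K) → A := fun v ↦ ∑ i, MvPowerSeries.C (v i) * MvPowerSeries.X i
  have hlin : ∀ v w, lin v * lin w ∈ m ^ 2 := fun v w ↦ by
    rw [pow_two]
    exact Ideal.mul_mem_mul (sum_mem fun i _ ↦ m.mul_mem_left _ (hX i))
      (sum_mem fun i _ ↦ m.mul_mem_left _ (hX i))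
  have hlin_add : ∀ v w, lin (v + w) = lin v + lin w := fun v w ↦ by
    simp [lin, map_add, add_mul, Finset.sum_add_distrib]
  have hlin_smul : ∀ (c : K) v, lin (c • v) = MvPowerSeries.C c * lin v := fun c v ↦ by
    simp [lin, map_mul, Finset.mul_sum, mul_assoc]
  have hlin_zero : lin 0 = 0 := by simp [lin]
  let u₀ : k →+* A ⧸ m ^ 2 :=
    { toFun := fun a ↦ Ideal.Quotient.mk _ (MvPowerSeries.C (algebraMap k K a) + lin (Dv a))
      map_one' := by
        rw [show Dv 1 = 0 by simp [Dv], hlin_zero, map_one, map_one, add_zero, map_one]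
      map_mul' := fun a b ↦ by
        rw [← map_mul, Ideal.Quotient.eq, hDmul, hlin_add, hlin_smul, hlin_smul, map_mul, map_mul]
        have e : MvPowerSeries.C (algebraMap k K a) * MvPowerSeries.C (algebraMap k K b) +
            (MvPowerSeries.C (algebraMap k K a) * lin (Dv b) + MvPowerSeries.C (algebraMap k K b) * lin (Dv a)) -
            (MvPowerSeries.C (algebraMap k K a) + lin (Dv a)) * (MvPowerSeries.C (algebraMap k K b) + lin (Dv b)) =
            -(lin (Dv a) * lin (Dv b)) := by ring
        rw [e]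
        exact neg_mem (hlin _ _)
      map_zero' := by
        rw [show Dv 0 = 0 by simp [Dv], hlin_zero, map_zero, map_zero, add_zero, map_zero]
      map_add' := fun a b ↦ by
        rw [show Dv (a + b) = Dv a + Dv b by simp [Dv, tmul_add], hlin_add, ← map_add (Ideal.Quotient.mk _),
          map_add (algebraMap k K), map_add MvPowerSeries.C, add_add_add_comm] }
  -- lift to the complete ring
  letI : Algebra (⊥ : Subfield k) A :=
    ((MvPowerSeries.C (σ := Fin n) (R := K)).comp ((algebraMap k K).comp (⊥ : Subfield k).subtype)).toAlgebra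
  haveI : Algebra.FormallySmooth (⊥ : Subfield k) k := SymGr.OverField.formallySmooth_bot k
  let u : k →ₐ[(⊥ : Subfield k)] A ⧸ m ^ 2 :=
    { u₀ with
      commutes' := fun x ↦ by
        show Ideal.Quotient.mk _ (MvPowerSeries.C (algebraMap k K (x : k)) + lin (Dv x)) = _
        rw [show Dv (x : k) = 0 by
          simp only [Dv]
          rw [show KaehlerDifferential.D ℤ k (x : k) = 0 from SymGr.OverField.D_bot_algebraMap x,
            tmul_zero, map_zero], hlin_zero, add_zero]
        rfl }
  haveI : IsHausdorff (m.map (Ideal.Quotient.mk (m ^ 2))) (A ⧸ m ^ 2) := ⟨fun x hx ↦ by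
    have h := hx 2
    rwa [← Ideal.map_pow, Ideal.map_quotient_self, Submodule.bot_smul, SModEq.bot] at h⟩
  obtain ⟨v, -, hv⟩ := FSAdic.Basic.exists_lift_complete
    (FSAdic.Basic.of_formallySmooth (A := ↥(⊥ : Subfield k)) (B := k)
      (𝔞 := Ideal.span (∅ : Set ↥(⊥ : Subfield k))) (𝔟 := Ideal.span (∅ : Set k))) m
    ⟨1, by rw [pow_one, Ideal.map_span, Set.image_empty, Ideal.span_le]; exact Set.empty_subset _⟩ (m ^ 2)
    ⟨1, by rw [pow_one]; exact Ideal.pow_le_self two_ne_zero⟩ u
    ⟨1, by rw [pow_one, Ideal.map_span, Set.image_empty, Ideal.span_le]; exact Set.empty_subset _⟩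
  letI : Algebra k A := v.toRingHom.toAlgebra
  have hv' : ∀ a, algebraMap k A a - (MvPowerSeries.C (algebraMap k K a) + lin (Dv a)) ∈ m ^ 2 :=
    fun a ↦ Ideal.Quotient.eq.1 (AlgHom.congr_fun hv a)
  -- the residue field
  have hm : ∀ f : A, f ∈ m ↔ MvPowerSeries.constantCoeff f = 0 := fun f ↦ by
    rw [mem_maximalIdeal, mem_nonunits_iff, MvPowerSeries.isUnit_iff_constantCoeff,
      isUnit_iff_ne_zero, not_not]
  letI : Algebra A K := (MvPowerSeries.constantCoeff (σ := Fin n) (R := K)).toAlgebra
  have hAK : Function.Surjective (algebraMap A K) := fun c ↦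
    ⟨MvPowerSeries.C c, MvPowerSeries.constantCoeff_C c⟩
  have hccm : ∀ f ∈ m ^ 2, MvPowerSeries.constantCoeff f = 0 := fun f hf ↦
    (hm f).1 (Ideal.pow_le_self two_ne_zero hf)
  have hcclin : ∀ w, MvPowerSeries.constantCoeff (lin w) = 0 := fun w ↦ by simp [lin]
  haveI : IsScalarTower k A K := IsScalarTower.of_algebraMap_eq fun a ↦ by
    have h := hccm _ (hv' a)
    rw [map_sub, map_add, MvPowerSeries.constantCoeff_C, hcclin, add_zero, sub_eq_zero] at h
    exact h.symm
  -- linear coefficients
  have hc2 : ∀ i, ∀ f ∈ m ^ 2, MvPowerSeries.coeff (Finsupp.single i 1) f = 0 := fun i f hf ↦ by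
    rw [pow_two] at hf
    induction hf using Submodule.mul_induction_on' with
    | mem_mul_mem a ha b hb => rw [coeff_single_mul, (hm a).1 ha, (hm b).1 hb, zero_mul, zero_mul, add_zero]
    | add a _ b _ iha ihb => rw [map_add, iha, ihb, add_zero]
  have hclin : ∀ w i, MvPowerSeries.coeff (Finsupp.single i 1) (lin w) = w i := fun w i ↦ by
    simp only [lin, map_sum]
    rw [Finset.sum_eq_single i]
    · rw [coeff_single_mul]; simp
    · intro j _ hj
      rw [coeff_single_mul, MvPowerSeries.constantCoeff_X, zero_mul, add_zero, MvPowerSeries.coeff_X,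
        if_neg (fun h ↦ hj (Finsupp.single_left_injective one_ne_zero h).symm), mul_zero]
    · exact fun h ↦ absurd (Finset.mem_univ i) h
  have hcv : ∀ a i, MvPowerSeries.coeff (Finsupp.single i 1) (algebraMap k A a) = Dv a i := fun a i ↦ by
    have h := hc2 i _ (hv' a)
    rw [map_sub, map_add, hclin, MvPowerSeries.coeff_C, if_neg (by simp), zero_add, sub_eq_zero] at h
    exact h
  -- injectivity
  have hinj : Function.Injective (beta k A K) := injective_beta
    ({ toFun := fun f i ↦ MvPowerSeries.coeff (Finsupp.single i 1) f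
       map_zero' := funext fun i ↦ map_zero _
       map_add' := fun f g ↦ funext fun i ↦ map_add _ f g } : A →+ (Fin n → K))
    (fun f g ↦ funext fun i ↦ coeff_single_mul n i f g) L (fun a ↦ funext fun i ↦ hcv a i) hL
  refine ⟨A, inferInstance, inferInstance, inferInstance, inferInstance, inferInstance,
    SymGr.RegularField.iff_regular_and_injective_int.2 ⟨inferInstance, (injective_beta_iff hAK).2 hinj⟩,
    ⟨?_⟩, H24.PowerSeries.ringKrullDim_eq K n⟩
  exact (Ideal.quotientEquivAlgOfEq k (IsLocalRing.eq_maximalIdeal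
    (RingHom.ker_isMaximal_of_surjective (IsScalarTower.toAlgHom k A K) hAK)).symm).trans
    (Ideal.quotientKerAlgEquivOfSurjective (f := IsScalarTower.toAlgHom k A K) hAK)

end Series

/-- The theorem. -/
theorem main {k K : Type u} [Field k] [Field K] [Algebra k K] :
    ((∃ (A : Type u) (_ : CommRing A) (_ : IsLocalRing A) (_ : IsNoetherianRing A) (_ : Algebra k A),
        CAlgX.IsAdicFormallySmooth k A (maximalIdeal A) ∧ Nonempty (ResidueField A ≃ₐ[k] K)) ↔
      Module.Finite K (EGA41.imperfection ℤ k K)) ∧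
    (Module.Finite K (EGA41.imperfection ℤ k K) → ∀ n : ℕ, Module.finrank K (EGA41.imperfection ℤ k K) ≤ n →
      ∃ (A : Type u) (_ : CommRing A) (_ : IsLocalRing A) (_ : IsNoetherianRing A) (_ : Algebra k A),
        IsAdicComplete (maximalIdeal A) A ∧ CAlgX.IsAdicFormallySmooth k A (maximalIdeal A) ∧
        Nonempty (ResidueField A ≃ₐ[k] K) ∧ ringKrullDim A = n) := by
  refine ⟨⟨?_, fun h ↦ ?_⟩, fun h n hn ↦ exists_algebra n hn⟩
  · rintro ⟨A, _, _, _, _, hfs, ⟨e⟩⟩
    letI : Algebra A K := (e.toRingHom.comp (residue A)).toAlgebra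
    haveI : IsScalarTower k A K := IsScalarTower.of_algebraMap_eq fun a ↦ (e.commutes a).symm
    have hAK : Function.Surjective (algebraMap A K) := e.surjective.comp residue_surjective
    exact finite_imperfection hAK
      ((injective_beta_iff hAK).1 (SymGr.RegularField.iff_regular_and_injective_int.1 hfs).2)
  · obtain ⟨A, i1, i2, i3, i4, -, hfs, he, -⟩ := exists_algebra (k := k) (K := K) _ le_rfl
    exact ⟨A, i1, i2, i3, i4, hfs, he⟩

end Groth.Agent.H19.EGA.FSExist
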