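import Groth.Prelude.Def_EGA41
import Groth.Agent.Lib.GRing.Complete
import Groth.Agent.Lib.Excellent.GRingStability
import Groth.Agent.Lib.Cohen.NagataGlobal
import Groth.Agent.H68.FlatFibre
import Groth.Agent.S9259

/-!
# Formal smoothness of localized completions over the localized base
-/

set_option autoImplicit false
set_option linter.style.haveILetI false

universe u

open IsLocalRing
open scoped TensorProduct nonZeroDivisors

namespace Groth.Agent.H19.EGA.FormalFibreSmooth

/-- A regular map induces adically formally smooth maps of local rings. -/
theorem local_of_isRegularHom {R S : Type u} [CommRing R] [CommRing S] [Algebra R S]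
    [IsNoetherianRing S] (h : CAlg.IsRegularHom R S) (q : Ideal S) [q.IsPrime]
    [inst : Algebra (Localization.AtPrime (q.comap (algebraMap R S))) (Localization.AtPrime q)]
    [IsScalarTower R (Localization.AtPrime (q.comap (algebraMap R S))) (Localization.AtPrime q)] :
    EGA41.IsFormallySmoothAdic (Localization.AtPrime (q.comap (algebraMap R S))) (maximalIdeal _)
      (Localization.AtPrime q) (maximalIdeal _) := by
  have hmap : algebraMap (Localization.AtPrime (q.comap (algebraMap R S))) (Localization.AtPrime q) =
      Localization.localRingHom (q.comap (algebraMap R S)) q (algebraMap R S) rfl := by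
    refine IsLocalization.ringHom_ext (Ideal.comap (algebraMap R S) q).primeCompl (RingHom.ext fun r => ?_)
    rw [RingHom.comp_apply, RingHom.comp_apply, Localization.localRingHom_to_map,
      ← IsScalarTower.algebraMap_apply, ← IsScalarTower.algebraMap_apply]
  have hinst : inst = (Localization.localRingHom (q.comap (algebraMap R S)) q (algebraMap R S) rfl).toAlgebra :=
    Algebra.algebra_ext _ _ fun r => RingHom.congr_fun hmap r
  haveI : IsLocalHom (algebraMap (Localization.AtPrime (q.comap (algebraMap R S))) (Localization.AtPrime q)) := by
    rw [hmap]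
    exact Localization.isLocalHom_localRingHom _ _ _ rfl
  have hq : CAlg.IsRegularHom (Localization.AtPrime (q.comap (algebraMap R S))) (Localization.AtPrime q) := by
    have h' := (Groth.Agent.S9259.result R S).1.mp h q
    rw [hinst]
    exact h'
  haveI : Module.Flat (Localization.AtPrime (q.comap (algebraMap R S))) (Localization.AtPrime q) := hq.1
  haveI : IsNoetherianRing (Localization.AtPrime q) :=
    IsLocalization.isNoetherianRing q.primeCompl _ inferInstance
  exact H68.FlatFibre.isFormallySmoothAdic_of_adic _
    (H68.FlatFibre.adic_of_flat_of_isGeometricallyRegular (hq.2 _).2)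

/-- If the base changes of `T` to finite extensions of `Frac B` are regular, the local rings of the
generic fibre are formally smooth over `Frac B`. -/
theorem generic_of_isRegularRing {B T L : Type u} [CommRing B] [CommRing T] [Field L] [Algebra B L]
    [IsFractionRing B L] [Algebra B T] [IsNoetherianRing T] (q : Ideal T) [q.IsPrime]
    [Algebra L (Localization.AtPrime q)] [IsScalarTower B L (Localization.AtPrime q)]
    (h : ∀ (K : Type u) [Field K] [Algebra L K] [Algebra B K] [IsScalarTower B L K],
      Module.Finite L K → IsRegularRing (K ⊗[B] T)) :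
    CAlgX.IsAdicFormallySmooth L (Localization.AtPrime q) (maximalIdeal (Localization.AtPrime q)) := by
  haveI : IsNoetherianRing (Localization.AtPrime q) :=
    IsLocalization.isNoetherianRing q.primeCompl _ inferInstance
  refine H68.FlatFibre.adic_iff_isGeometricallyRegular.mpr fun K _ _ hfin => ?_
  letI : Algebra B K := ((algebraMap L K).comp (algebraMap B L)).toAlgebra
  haveI : IsScalarTower B L K := .of_algebraMap_eq' rfl
  have h1 : IsRegularRing (K ⊗[B] Localization.AtPrime q) :=
    Lib.GRing.Component.isRegularRing_tensor_localization (T := T) (L := Localization.AtPrime q)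
      q.primeCompl (h K hfin) AlgEquiv.refl
  haveI : TensorProduct.CompatibleSMul B L K (Localization.AtPrime q) :=
    IsLocalization.tensorProduct_compatibleSMul B⁰ L K (Localization.AtPrime q)
  exact IsRegularRing.of_ringEquiv
    (Algebra.TensorProduct.equivOfCompatibleSMul B L L K (Localization.AtPrime q)).symm.toRingEquiv

/-- Regularity of `K ⊗ Â_p` for finite extensions of the fraction field of a G-ring domain. -/
theorem regular_of_isGRing {A L : Type u} [CommRing A] [IsDomain A] (hA : CAlg.IsGRing A)
    (p : Ideal A) [p.IsPrime] [Field L] [Algebra A L] [IsFractionRing A L]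
    (K : Type u) [Field K] [Algebra L K] [Algebra A K] [IsScalarTower A L K] [Module.Finite L K] :
    IsRegularRing (K ⊗[A] EGA4.Cpl (Localization.AtPrime p)) := by
  let R := Localization.AtPrime p
  have hle : p.primeCompl ≤ A⁰ := le_nonZeroDivisors_of_noZeroDivisors fun h => h p.zero_mem
  letI : Algebra R L := (IsLocalization.lift (M := p.primeCompl) (S := R) (g := algebraMap A L)
    fun s => IsLocalization.map_units L ⟨(s : A), hle s.2⟩).toAlgebra
  haveI : IsScalarTower A R L := .of_algebraMap_eq fun a => (IsLocalization.lift_eq _ a).symm
  haveI : IsDomain R := IsLocalization.isDomain_of_le_nonZeroDivisors R hle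
  haveI : IsFractionRing R L :=
    IsFractionRing.isFractionRing_of_isDomain_of_isLocalization p.primeCompl R L
  letI : Algebra R K := ((algebraMap L K).comp (algebraMap R L)).toAlgebra
  haveI : IsScalarTower R L K := .of_algebraMap_eq' rfl
  haveI : IsScalarTower A R K := .of_algebraMap_eq fun a => by
    rw [IsScalarTower.algebraMap_apply A L K, IsScalarTower.algebraMap_apply A R L]
    rfl
  obtain ⟨B, hB, hfr⟩ := Lib.Cohen.NagataGlobal.exists_finite_subalgebra (A := R) L K
  have hK : Lib.Excellent.FormalFibre.IsFinPoint R K := ⟨B, hB, hfr⟩
  have h : IsRegularRing (K ⊗[R] EGA4.Cpl R) :=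
    (Lib.Excellent.FormalFibre.forall_fibre_iff (P := fun R [CommRing R] => IsRegularRing R)
      Lib.Excellent.Transport.isoInvariant_isRegularRing (EGA4.Cpl R)).1
      (fun P _ => ((hA.2 p).2 P).2) K hK
  haveI : TensorProduct.CompatibleSMul A R K (EGA4.Cpl R) :=
    IsLocalization.tensorProduct_compatibleSMul p.primeCompl R K (EGA4.Cpl R)
  exact IsRegularRing.of_ringEquiv
    (Algebra.TensorProduct.equivOfCompatibleSMul A R R K (EGA4.Cpl R)).toRingEquiv

/-- Regularity of `K ⊗ B̂_n` for a finite domain over a characteristic zero regular ring. -/
theorem regular_of_finite_charZero {A B L : Type u} [CommRing A] [IsDomain A] [IsRegularRing A]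
    [CharZero A] [CommRing B] [IsDomain B] [Algebra A B] [Module.Finite A B]
    (hinj : Function.Injective (algebraMap A B)) (n : Ideal B) [n.IsPrime]
    [Field L] [Algebra B L] [IsFractionRing B L]
    (K : Type u) [Field K] [Algebra L K] [Algebra B K] [IsScalarTower B L K] [Module.Finite L K] :
    IsRegularRing (K ⊗[B] EGA4.Cpl (Localization.AtPrime n)) := by
  let LA := FractionRing A
  haveI : FaithfulSMul A B := (faithfulSMul_iff_algebraMap_injective _ _).2 hinj
  letI : Algebra A L := ((algebraMap B L).comp (algebraMap A B)).toAlgebra
  haveI : IsScalarTower A B L := .of_algebraMap_eq' rfl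
  haveI : FaithfulSMul A L := (faithfulSMul_iff_algebraMap_injective _ _).2
    ((IsFractionRing.injective B L).comp hinj)
  letI : Algebra LA L := FractionRing.liftAlgebra A L
  haveI : Module.Finite LA L := Module.Finite.of_isLocalization A B (Rₚ := LA) (Sₚ := L) A⁰
  letI : Algebra LA K := ((algebraMap L K).comp (algebraMap LA L)).toAlgebra
  haveI : IsScalarTower LA L K := .of_algebraMap_eq' rfl
  haveI : Module.Finite LA K := Module.Finite.trans L K
  letI : Algebra A K := ((algebraMap L K).comp (algebraMap A L)).toAlgebra
  haveI : IsScalarTower A LA K := .of_algebraMap_eq fun a => by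
    change algebraMap L K (algebraMap A L a) = algebraMap L K (algebraMap LA L (algebraMap A LA a))
    rw [← IsScalarTower.algebraMap_apply A LA L]
  haveI : IsScalarTower A B K := .of_algebraMap_eq fun a => by
    change algebraMap L K (algebraMap A L a) = _
    rw [IsScalarTower.algebraMap_apply B L K, ← IsScalarTower.algebraMap_apply A B L]
  let P := n.comap (algebraMap A B)
  refine Lib.GRing.Component.isRegularRing_component A B P n rfl K ?_
  haveI : CharZero LA := charZero_of_injective_algebraMap (IsFractionRing.injective A LA)
  haveI := Lib.GRing.Engine.separable LA K _ (Lib.GRing.Engine.base A P LA)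
  exact IsRegularRing.of_ringEquiv
    (Algebra.TensorProduct.cancelBaseChange A LA K K (EGA4.Cpl (Localization.AtPrime P))).toRingEquiv

end Groth.Agent.H19.EGA.FormalFibreSmooth
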