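import Groth.Agent.H19.EGA.FormalFibreSmooth
import Groth.Agent.H19.EGA.CompDerivation
import Groth.Agent.Lib.Regular.Indep
import Groth.Agent.Lib.GRing.Extend
import Groth.Agent.Lib.Cohen.PSRegular
import Mathlib.LinearAlgebra.Matrix.NonsingularInverse

/-!
# The Jacobian criterion: sufficiency, and the regular-quotient ideal
-/

set_option autoImplicit false
set_option linter.style.haveILetI false

universe u

open IsLocalRing
open scoped TensorProduct

namespace Groth.Agent.H19.EGA.JacobianSmooth

/-- A `k`-derivation extends to a localization. -/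
theorem exists_localization {k A T : Type u} [CommRing k] [CommRing A] [CommRing T] [Algebra k A]
    [Algebra k T] [Algebra A T] [IsScalarTower k A T] (M : Submonoid A) [IsLocalization M T]
    (D : Derivation k A A) :
    ∃ D' : Derivation k T T, ∀ a, D' (algebraMap A T a) = algebraMap A T (D a) := by
  let D₀ : Derivation ℤ A A := Derivation.mk' D.toLinearMap.toAddMonoidHom.toIntLinearMap
    fun a b => D.leibniz a b
  obtain ⟨D', hD'⟩ := Lib.GRing.Extend.exists_localization (T := T) M D₀
  have hc : ∀ c : k, D' (algebraMap k T c) = 0 := fun c => by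
    rw [IsScalarTower.algebraMap_apply k A T, hD']
    exact (congrArg (algebraMap A T) (D.map_algebraMap c)).trans (map_zero _)
  refine ⟨Derivation.mk' ⟨⟨D', map_add D'⟩, fun c x => ?_⟩ fun a b => D'.leibniz a b, hD'⟩
  change D' (c • x) = c • D' x
  rw [Algebra.smul_def, D'.leibniz, hc, smul_zero, add_zero, smul_eq_mul,
    ← Algebra.smul_def]

/-- Quotient of an adically smooth local algebra by elements with unit Jacobian. -/
theorem of_det_isUnit {k U : Type u} [CommRing k] [CommRing U] [IsLocalRing U] [Algebra k U]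
    (hU : CAlgX.IsAdicFormallySmooth k U (maximalIdeal U)) (J : Ideal U) [IsLocalRing (U ⧸ J)]
    {m : ℕ} (D : Fin m → Derivation k U U) (f : Fin m → U) (hJ : J = Ideal.span (Set.range f))
    (hdet : IsUnit (Matrix.det (Matrix.of fun i j => D i (f j)))) :
    CAlgX.IsAdicFormallySmooth k (U ⧸ J) (maximalIdeal (U ⧸ J)) := by
  intro C _ _ N hN ψ hψ
  obtain ⟨n, hn⟩ := hψ
  haveI : IsLocalHom (Ideal.Quotient.mk J) := IsLocalHom.of_surjective _ Ideal.Quotient.mk_surjective
  obtain ⟨χ, hχ⟩ := hU C N hN (ψ.comp (Ideal.Quotient.mkₐ k J)) ⟨n, fun x hx => hn _ <| by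
    refine Ideal.pow_right_mono (IsLocalRing.map_maximalIdeal_le (Ideal.Quotient.mk J)) n ?_
    rw [← Ideal.map_pow]
    exact Ideal.mem_map_of_mem _ hx⟩
  have hχ' : ∀ x, Ideal.Quotient.mk N (χ x) = ψ (Ideal.Quotient.mk J x) := fun x => AlgHom.congr_fun hχ x
  have hfN : ∀ j, χ (f j) ∈ N := fun j => by
    rw [← Ideal.Quotient.eq_zero_iff_mem, hχ', Ideal.Quotient.eq_zero_iff_mem.2
      (show f j ∈ J from hJ ▸ Ideal.subset_span ⟨j, rfl⟩), map_zero]
  let M : Matrix (Fin m) (Fin m) C := Matrix.of fun j i => χ (D i (f j))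
  have hM : IsUnit M.det := by
    have e : M = (Matrix.transpose (Matrix.of fun i j => D i (f j))).map χ := rfl
    rw [e]
    have := hdet.map χ.toRingHom
    rw [RingHom.map_det, ← Matrix.det_transpose] at this
    exact this
  let c : Fin m → C := fun i => -(∑ j, M⁻¹ i j * χ (f j))
  have hcN : ∀ i, c i ∈ N := fun i =>
    neg_mem (Ideal.sum_mem _ fun j _ => Ideal.mul_mem_left _ _ (hfN j))
  have hc : ∀ j, χ (f j) + ∑ i, c i * χ (D i (f j)) = 0 := fun j => by
    have h1 : M.mulVec c = -(fun j => χ (f j)) := by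
      have : c = -(M⁻¹.mulVec fun j => χ (f j)) := rfl
      rw [this, Matrix.mulVec_neg, Matrix.mulVec_mulVec, Matrix.mul_nonsing_inv _ hM,
        Matrix.one_mulVec]
    have h2 := congrFun h1 j
    change ∑ i, χ (D i (f j)) * c i = -χ (f j) at h2
    simp only [mul_comm (c _)]
    rw [h2, add_neg_cancel]
  have hNN : ∀ a ∈ N, ∀ b ∈ N, a * b = 0 := fun a ha b hb => by
    rw [← Ideal.mem_bot, ← hN, pow_two]
    exact Ideal.mul_mem_mul ha hb
  let δ : U → C := fun x => ∑ i, c i * χ (D i x)
  have hδN : ∀ x, δ x ∈ N := fun x => Ideal.sum_mem _ fun i _ => Ideal.mul_mem_right _ _ (hcN i)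
  let χ₁ : U →ₐ[k] C :=
    { toFun := fun x => χ x + δ x
      map_one' := by simp [δ]
      map_zero' := by simp [δ]
      map_add' := fun a b => by simp only [δ, map_add, mul_add, Finset.sum_add_distrib]; ring
      map_mul' := fun a b => by
        have h0 : δ a * δ b = 0 := hNN _ (hδN a) _ (hδN b)
        have h1 : δ (a * b) = χ a * δ b + χ b * δ a := by
          simp only [δ, Derivation.leibniz, smul_eq_mul, map_add, map_mul, mul_add, Finset.mul_sum,
            Finset.sum_add_distrib]
          congr 1 <;> exact Finset.sum_congr rfl fun i _ => by ring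
        change χ (a * b) + δ (a * b) = (χ a + δ a) * (χ b + δ b)
        rw [h1, map_mul]
        linear_combination (-1 : C) * h0
      commutes' := fun r => by simp [δ] }
  have hkill : ∀ x ∈ J, χ₁ x = 0 := by
    intro x hx
    have : J ≤ RingHom.ker χ₁.toRingHom := by
      rw [hJ, Ideal.span_le]
      rintro _ ⟨j, rfl⟩
      exact hc j
    exact this hx
  refine ⟨Ideal.Quotient.liftₐ J χ₁ hkill, AlgHom.ext fun y => ?_⟩
  obtain ⟨x, rfl⟩ := Ideal.Quotient.mk_surjective y
  change Ideal.Quotient.mk N (χ x + δ x) = _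
  rw [map_add, hχ', Ideal.Quotient.eq_zero_iff_mem.2 (hδN x), add_zero]

/-- An ideal with regular quotient in a regular local ring is generated by elements with
independent cotangent classes. -/
theorem exists_indep_gens {R : Type u} [CommRing R] [IsRegularLocalRing R] (J : Ideal R)
    [IsRegularLocalRing (R ⧸ J)] :
    ∃ (c : ℕ) (f : Fin c → maximalIdeal R),
      LinearIndependent (ResidueField R) (fun i => (maximalIdeal R).toCotangent (f i)) ∧
      J = Ideal.span (Set.range fun i => (f i : R)) := by
  classical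
  haveI : Nontrivial (R ⧸ J) := inferInstance
  have hJm : J ≤ maximalIdeal R := le_maximalIdeal (Ideal.Quotient.nontrivial_iff.mp inferInstance)
  let X : Set (CotangentSpace R) := (maximalIdeal R).toCotangent '' {x | (x : R) ∈ J}
  obtain ⟨b, hbX, hbspan, hbli⟩ := exists_linearIndependent (ResidueField R) X
  have hbfin : b.Finite := hbli.setFinite
  let e := hbfin.toFinset.equivFin
  choose g hg hg' using fun i : Fin hbfin.toFinset.card =>
    (hbX (hbfin.mem_toFinset.1 (e.symm i).2) : ((e.symm i : hbfin.toFinset) : CotangentSpace R) ∈ X)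
  have hfg : (fun i => (maximalIdeal R).toCotangent (g i)) =
      fun i => ((e.symm i : hbfin.toFinset) : CotangentSpace R) := funext hg'
  have hli : LinearIndependent (ResidueField R) (fun i => (maximalIdeal R).toCotangent (g i)) := by
    rw [hfg]
    exact hbli.comp (fun i => ⟨_, hbfin.mem_toFinset.1 (e.symm i).2⟩)
      fun i j h => e.symm.injective (Subtype.ext (congrArg (fun z : b => (z : CotangentSpace R)) h))
  refine ⟨_, g, hli, ?_⟩
  let I := Ideal.span (Set.range fun i => (g i : R))
  have hIJ : I ≤ J := Ideal.span_le.2 (Set.range_subset_iff.2 hg)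
  obtain ⟨hreg, hdim⟩ := Lib.Regular.Indep.quotient_of_indep g hli
  haveI := hreg
  haveI : IsDomain (R ⧸ I) := Lib.Regular.Quotient.isDomain _
  haveI : IsLocalHom (Ideal.Quotient.mk J) := IsLocalHom.of_surjective _ Ideal.Quotient.mk_surjective
  -- lift generators of the maximal ideal of the quotient
  obtain ⟨t, htcard, ht⟩ := Submodule.FG.exists_span_finset_card_eq_spanFinrank
    (maximalIdeal (R ⧸ J)).fg_of_isNoetherianRing
  choose l hl using fun y : R ⧸ J => Ideal.Quotient.mk_surjective (I := J) y
  have hlm : ∀ y ∈ t, l y ∈ maximalIdeal R := fun y hy => by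
    have : y ∈ maximalIdeal (R ⧸ J) := ht ▸ Submodule.subset_span hy
    rw [← IsLocalRing.maximalIdeal_comap (Ideal.Quotient.mk J), Ideal.mem_comap, hl]
    exact this
  let T : Set (CotangentSpace R) := Set.range fun y : t => (maximalIdeal R).toCotangent ⟨l y.1, hlm _ y.2⟩
  have htop : Submodule.span (ResidueField R) (T ∪ X) = ⊤ := by
    rw [eq_top_iff]
    rintro z -
    obtain ⟨⟨x, hx⟩, rfl⟩ := (maximalIdeal R).toCotangent_surjective z
    have hx' : Ideal.Quotient.mk J x ∈ Submodule.span (R ⧸ J) (t : Set (R ⧸ J)) := by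
      rw [ht, ← IsLocalRing.map_maximalIdeal_of_surjective _ Ideal.Quotient.mk_surjective]
      exact Ideal.mem_map_of_mem _ hx
    obtain ⟨a, ha⟩ := Submodule.mem_span_finset'.1 hx'
    have hmem : x - ∑ y : t, l (a y) * l y.1 ∈ J := by
      rw [← Ideal.Quotient.eq_zero_iff_mem, map_sub, map_sum, ← ha, sub_eq_zero]
      simp only [map_mul, hl, smul_eq_mul]
    have hmem' : x - ∑ y : t, l (a y) * l y.1 ∈ maximalIdeal R := hJm hmem
    have hdec : (⟨x, hx⟩ : maximalIdeal R) =
        ⟨_, hmem'⟩ + ∑ y : t, l (a y) • (⟨l y.1, hlm _ y.2⟩ : maximalIdeal R) := by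
      refine Subtype.ext ?_
      rw [Submodule.coe_add, Submodule.coe_sum]
      simp
    rw [hdec, map_add, map_sum]
    refine add_mem (Submodule.subset_span (Or.inr ⟨_, hmem, rfl⟩)) (sum_mem fun y _ => ?_)
    rw [map_smul, ← algebraMap_smul (ResidueField R) (l (a y))]
    exact Submodule.smul_mem _ _ (Submodule.subset_span (Or.inl ⟨y, rfl⟩))
  have hrank : (maximalIdeal R).spanFinrank ≤ t.card + hbfin.toFinset.card := by
    rw [spanFinrank_maximalIdeal_eq_finrank_cotangentSpace, ← finrank_top,
      ← htop, Submodule.span_union, ← hbspan, ← Submodule.span_union]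
    let U : Finset (CotangentSpace R) := (Finset.univ.image fun y : t =>
      (maximalIdeal R).toCotangent ⟨l y.1, hlm _ y.2⟩) ∪ hbfin.toFinset
    have hU : T ∪ b = (U : Set (CotangentSpace R)) := by
      simp [U, T, Set.image_univ]
    rw [hU]
    refine (finrank_span_finset_le_card U).trans ((Finset.card_union_le _ _).trans ?_)
    exact Nat.add_le_add (Finset.card_image_le.trans (le_of_eq (Fintype.card_coe t))) le_rfl
  obtain ⟨n₁, hn₁, -⟩ := Lib.Regular.Quotient.exists_dim_eq (R := R ⧸ I)
  have hle : (ringKrullDim (R ⧸ J)) ≤ ringKrullDim (R ⧸ I) :=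
    ringKrullDim_le_of_surjective (Ideal.Quotient.factor hIJ) (Ideal.Quotient.factor_surjective hIJ)
  have h2 : ((maximalIdeal (R ⧸ J)).spanFinrank : WithBot ℕ∞) = ringKrullDim (R ⧸ J) :=
    IsRegularLocalRing.spanFinrank_maximalIdeal
  have h3 : n₁ + hbfin.toFinset.card = (maximalIdeal R).spanFinrank := by
    rw [← IsRegularLocalRing.spanFinrank_maximalIdeal (R := R), hn₁] at hdim
    exact_mod_cast hdim
  have h4 : n₁ ≤ t.card := by omega
  have hJdim : ringKrullDim (R ⧸ J) = n₁ := le_antisymm (hle.trans hn₁.le) (by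
    rw [← h2, ← htcard]
    exact_mod_cast h4)
  have hinj := Lib.Cohen.PSRegular.injective_of_finite (Ideal.Quotient.factor hIJ)
    (RingHom.Finite.of_surjective _ (Ideal.Quotient.factor_surjective hIJ)) hn₁ hJdim
  refine le_antisymm (fun x hx => ?_) hIJ
  rw [← Ideal.Quotient.eq_zero_iff_mem]
  refine hinj ?_
  rw [map_zero]
  exact Ideal.Quotient.eq_zero_iff_mem.2 hx

/-- Adic formal smoothness of local algebras transfers along algebra isomorphisms. -/
theorem of_algEquiv {k B C : Type u} [CommRing k] [CommRing B] [CommRing C] [IsLocalRing B]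
    [IsLocalRing C] [Algebra k B] [Algebra k C] (e : B ≃ₐ[k] C)
    (h : CAlgX.IsAdicFormallySmooth k B (maximalIdeal B)) :
    CAlgX.IsAdicFormallySmooth k C (maximalIdeal C) := by
  intro T _ _ N hN ψ hψ
  obtain ⟨n, hn⟩ := hψ
  haveI : IsLocalHom e.toRingEquiv.toRingHom :=
    IsLocalHom.of_surjective _ e.toRingEquiv.surjective
  obtain ⟨χ, hχ⟩ := h T N hN (ψ.comp e.toAlgHom) ⟨n, fun x hx => hn _ <| by
    refine Ideal.pow_right_mono (IsLocalRing.map_maximalIdeal_le e.toRingEquiv.toRingHom) n ?_
    rw [← Ideal.map_pow]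
    exact Ideal.mem_map_of_mem _ hx⟩
  refine ⟨χ.comp e.symm.toAlgHom, AlgHom.ext fun y => ?_⟩
  exact (AlgHom.congr_fun hχ (e.symm y)).trans (congrArg ψ (e.apply_symm_apply y))

/-- Localizations of geometrically regular algebras are adically smooth. -/
theorem adic_localization {k A : Type u} [Field k] [CommRing A] [IsNoetherianRing A] [Algebra k A]
    (h : CAlg.IsGeometricallyRegular k A) (p : Ideal A) [p.IsPrime] :
    CAlgX.IsAdicFormallySmooth k (Localization.AtPrime p) (maximalIdeal (Localization.AtPrime p)) := by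
  haveI : IsNoetherianRing (Localization.AtPrime p) :=
    IsLocalization.isNoetherianRing p.primeCompl _ inferInstance
  refine H68.FlatFibre.adic_iff_isGeometricallyRegular.mpr fun K _ _ hK => ?_
  exact Lib.GRing.Component.isRegularRing_tensor_localization (T := A)
    (L := Localization.AtPrime p) p.primeCompl (h K hK) AlgEquiv.refl

/-- The localization of a quotient is the quotient of the localization. -/
theorem exists_equiv_quotient {k A : Type u} [CommRing k] [CommRing A] [Algebra k A]
    (q p : Ideal A) [p.IsPrime] (hqp : q ≤ p) [(p.map (Ideal.Quotient.mk q)).IsPrime] :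
    Nonempty (Localization.AtPrime (p.map (Ideal.Quotient.mk q)) ≃ₐ[k]
      Localization.AtPrime p ⧸ q.map (algebraMap A (Localization.AtPrime p))) := by
  let qU := q.map (algebraMap A (Localization.AtPrime p))
  have hM : Algebra.algebraMapSubmonoid (A ⧸ q) p.primeCompl =
      (p.map (Ideal.Quotient.mk q)).primeCompl := by
    have hc : (p.map (Ideal.Quotient.mk q)).comap (Ideal.Quotient.mk q) = p := by
      rw [Ideal.comap_map_of_surjective _ Ideal.Quotient.mk_surjective, ← RingHom.ker_eq_comap_bot,
        Ideal.mk_ker, sup_eq_left.2 hqp]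
    ext y
    obtain ⟨a, rfl⟩ := Ideal.Quotient.mk_surjective y
    constructor
    · rintro ⟨b, hb, hba⟩ hmem
      refine hb ?_
      have : b ∈ (p.map (Ideal.Quotient.mk q)).comap (Ideal.Quotient.mk q) := by
        rw [Ideal.mem_comap]
        exact hba ▸ hmem
      rwa [hc] at this
    · intro h
      exact ⟨a, fun ha => h (Ideal.mem_map_of_mem _ ha), rfl⟩
  haveI : IsLocalization (p.map (Ideal.Quotient.mk q)).primeCompl (Localization.AtPrime p ⧸ qU) :=
    hM ▸ inferInstance
  haveI : IsScalarTower k (A ⧸ q) (Localization.AtPrime p ⧸ qU) := IsScalarTower.of_algebraMap_eq fun c => rfl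
  exact ⟨(IsLocalization.algEquiv (p.map (Ideal.Quotient.mk q)).primeCompl
    (Localization.AtPrime (p.map (Ideal.Quotient.mk q))) (Localization.AtPrime p ⧸ qU)).restrictScalars k⟩

/-- The Jacobian condition gives adic formal smoothness of the local ring of the quotient. -/
theorem of_jacobian {k A : Type u} [Field k] [CommRing A] [IsNoetherianRing A] [Algebra k A]
    (h : CAlg.IsGeometricallyRegular k A)
    (q p : Ideal A) [p.IsPrime] (hqp : q ≤ p) [(p.map (Ideal.Quotient.mk q)).IsPrime]
    {m : ℕ} (D : Fin m → Derivation k A A) (f : Fin m → A)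
    (hspan : q.map (algebraMap A (Localization.AtPrime p)) =
      Ideal.span (Set.range fun i => algebraMap A (Localization.AtPrime p) (f i)))
    (hdet : Matrix.det (Matrix.of fun i j => D i (f j)) ∉ p) :
    CAlgX.IsAdicFormallySmooth k (Localization.AtPrime (p.map (Ideal.Quotient.mk q)))
      (maximalIdeal (Localization.AtPrime (p.map (Ideal.Quotient.mk q)))) := by
  obtain ⟨e⟩ := exists_equiv_quotient (k := k) q p hqp
  haveI : IsLocalRing (Localization.AtPrime p ⧸ q.map (algebraMap A (Localization.AtPrime p))) :=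
    e.toRingEquiv.isLocalRing
  refine of_algEquiv e.symm ?_
  choose D' hD' using fun i => exists_localization (T := Localization.AtPrime p) p.primeCompl (D i)
  refine of_det_isUnit (adic_localization h p) _ D' _ hspan ?_
  have hu : IsUnit (algebraMap A (Localization.AtPrime p) (Matrix.det (Matrix.of fun i j => D i (f j)))) :=
    IsLocalization.map_units (M := p.primeCompl) _ ⟨_, hdet⟩
  rw [RingHom.map_det] at hu
  have hMeq : (Matrix.of fun i j => D' i (algebraMap A (Localization.AtPrime p) (f j))) =
      (algebraMap A (Localization.AtPrime p)).mapMatrix (Matrix.of fun i j => D i (f j)) :=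
    Matrix.ext fun i j => hD' i (f j)
  rw [hMeq]
  exact hu

end Groth.Agent.H19.EGA.JacobianSmooth
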