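import Groth.Agent.H19.EGA.JacobianSmooth
import Groth.Agent.H24.PowerSeries
import Groth.Agent.Lib.LCFin.CMDim
import Groth.Agent.Lib.JacCrit.FlatRegular
import Groth.Agent.Lib.Dim.Integral
import Groth.Agent.S2453
import Groth.Agent.S4512
import Groth.Agent.S2471
import Groth.Agent.S4533
import Groth.Agent.S4537
import Mathlib.RingTheory.MvPowerSeries.Derivative
import Mathlib.LinearAlgebra.Matrix.Rank
import Mathlib.RingTheory.Filtration
import Mathlib.FieldTheory.Separable

/-!
# Nagata's Jacobian criterion for power series rings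
-/

set_option autoImplicit false
set_option linter.style.haveILetI false

universe u

open IsLocalRing
open scoped TensorProduct nonZeroDivisors

namespace Groth.Agent.H19.EGA.NagataPS

open MvPowerSeries (pderiv)

variable {k : Type u} [Field k]

local notation "PS" s => MvPowerSeries (Fin s) k

/-- A derivation of a power series ring into a finite module killing the variables vanishes. -/
theorem derivation_eq_zero {s : ℕ} (M : Type u) [AddCommGroup M] [Module (PS s) M] [Module k M]
    [IsScalarTower k (PS s) M] [Module.Finite (PS s) M]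
    (δ : Derivation k (PS s) M) (hX : ∀ i, δ (MvPowerSeries.X i) = 0) : δ = 0 := by
  let m := maximalIdeal (PS s)
  have hmem : ∀ (n : ℕ) (f : PS s), δ f ∈ (m ^ n • ⊤ : Submodule (PS s) M) := by
    intro n
    induction n with
    | zero => simp
    | succ n ih =>
      intro f
      have hf : f - MvPowerSeries.C (MvPowerSeries.constantCoeff f) ∈ m := by
        rw [mem_maximalIdeal, mem_nonunits_iff, MvPowerSeries.isUnit_iff_constantCoeff]
        simp
      rw [show m = _ from H24.PowerSeries.maximalIdeal_eq k (Fin s)] at hf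
      obtain ⟨g, hg⟩ := Ideal.mem_span_range_iff_exists_fun.1 hf
      have hδC : δ (MvPowerSeries.C (MvPowerSeries.constantCoeff f)) = 0 :=
        δ.map_algebraMap (MvPowerSeries.constantCoeff f)
      have e : δ f = ∑ i, (MvPowerSeries.X i : PS s) • δ (g i) := by
        have h1 : δ (∑ i, g i * MvPowerSeries.X i) = δ f := by rw [hg, map_sub, hδC, sub_zero]
        rw [← h1, map_sum]
        exact Finset.sum_congr rfl fun i _ => by rw [Derivation.leibniz, hX, smul_zero, zero_add]
      rw [e, pow_succ', Submodule.mul_smul]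
      refine Submodule.sum_mem _ fun i _ => Submodule.smul_mem_smul ?_ (ih _)
      rw [show m = _ from H24.PowerSeries.maximalIdeal_eq k (Fin s)]
      exact Ideal.subset_span ⟨i, rfl⟩
  refine Derivation.ext fun f => ?_
  have hbot : (⨅ n : ℕ, m ^ n • ⊤ : Submodule (PS s) M) = ⊥ :=
    Ideal.iInf_pow_smul_eq_bot_of_isLocalRing (M := M) m (maximalIdeal.isMaximal _).ne_top
  exact (Submodule.mem_bot (PS s)).1 (hbot ▸ Submodule.mem_iInf _ |>.2 fun n => hmem n f)

/-- The prime `p` has a Jacobian of rank at least `r - s`. -/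
theorem finrank_quotient_le {r s : ℕ} (p : Ideal (PS r)) [p.IsPrime]
    [Algebra (PS s) ((PS r) ⧸ p)] [IsScalarTower k (PS s) ((PS r) ⧸ p)]
    [Module.Finite (PS s) ((PS r) ⧸ p)]
    (hinj : Function.Injective (algebraMap (PS s) ((PS r) ⧸ p)))
    {L' L : Type u} [Field L'] [Field L]
    [Algebra (PS s) L'] [IsFractionRing (PS s) L']
    [Algebra ((PS r) ⧸ p) L] [IsFractionRing ((PS r) ⧸ p) L]
    [Algebra L' L] [Algebra (PS s) L] [IsScalarTower (PS s) ((PS r) ⧸ p) L]
    [IsScalarTower (PS s) L' L] [Algebra.IsSeparable L' L] :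
    Module.finrank L ((Fin r → L) ⧸ Submodule.span L
      ((fun f : PS r => fun i => algebraMap ((PS r) ⧸ p) L (Ideal.Quotient.mk p (pderiv k i f))) ''
        (p : Set (PS r)))) ≤ s := by
  classical
  let A' := (PS r) ⧸ p
  letI : Algebra k L := ((algebraMap A' L).comp (algebraMap k A')).toAlgebra
  haveI : IsScalarTower k A' L := ⟨fun c x y => by
    rw [Algebra.smul_def (R := A'), Algebra.smul_def (R := A'),
      Algebra.smul_def (R := k) (A := L), ← mul_assoc]
    congr 1
    rw [show c • x = algebraMap k A' c * x from Algebra.smul_def c x, map_mul]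
    rfl⟩
  let V₀ : Submodule L (Fin r → L) := Submodule.span L
      ((fun f : PS r => fun i => algebraMap A' L (Ideal.Quotient.mk p (pderiv k i f))) ''
        (p : Set (PS r)))
  let W := (Fin r → L) ⧸ V₀
  let δ₀ : (PS r) → W := fun f =>
    V₀.mkQ fun i => algebraMap A' L (Ideal.Quotient.mk p (pderiv k i f))
  have hδadd : ∀ f g, δ₀ (f + g) = δ₀ f + δ₀ g := fun f g => by
    simp only [δ₀, ← map_add]
    exact congrArg V₀.mkQ (funext fun i => by simp only [map_add]; rfl)
  have hδp : ∀ f ∈ p, δ₀ f = 0 := fun f hf =>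
    (Submodule.Quotient.mk_eq_zero _).2 (Submodule.subset_span ⟨f, hf, rfl⟩)
  choose l hl using fun a : A' => Ideal.Quotient.mk_surjective (I := p) a
  let δ₁ : A' → W := fun a => δ₀ (l a)
  have hδ₁ : ∀ f, δ₁ (Ideal.Quotient.mk p f) = δ₀ f := fun f => by
    have hmem : l (Ideal.Quotient.mk p f) - f ∈ p := by
      rw [← Ideal.Quotient.eq_zero_iff_mem, map_sub, hl, sub_self]
    have := hδadd (l (Ideal.Quotient.mk p f) - f) f
    rw [sub_add_cancel, hδp _ hmem, zero_add] at this
    exact this
  let δl : A' →ₗ[k] W :=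
    { toFun := δ₁
      map_add' := fun a b => by
        obtain ⟨f, rfl⟩ := Ideal.Quotient.mk_surjective a
        obtain ⟨g, rfl⟩ := Ideal.Quotient.mk_surjective b
        rw [← map_add, hδ₁, hδ₁, hδ₁, hδadd]
      map_smul' := fun c a => by
        obtain ⟨f, rfl⟩ := Ideal.Quotient.mk_surjective a
        rw [RingHom.id_apply, show c • Ideal.Quotient.mk p f = Ideal.Quotient.mk p (c • f) from rfl,
          hδ₁, hδ₁]
        simp only [δ₀]
        rw [← LinearMap.map_smul_of_tower]
        refine congrArg V₀.mkQ (funext fun i => ?_)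
        rw [Pi.smul_apply, Derivation.map_smul,
          show Ideal.Quotient.mk p (c • pderiv k i f) = c • Ideal.Quotient.mk p (pderiv k i f) from rfl,
          ← IsScalarTower.toAlgHom_apply k A' L, map_smul]
        rfl }
  let D : Derivation k A' W := Derivation.mk' δl fun a b => by
    obtain ⟨f, rfl⟩ := Ideal.Quotient.mk_surjective a
    obtain ⟨g, rfl⟩ := Ideal.Quotient.mk_surjective b
    change δ₁ _ = _ • δ₁ _ + _ • δ₁ _
    rw [← map_mul, hδ₁, hδ₁, hδ₁]
    simp only [δ₀]
    rw [← LinearMap.map_smul_of_tower, ← LinearMap.map_smul_of_tower, ← map_add]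
    refine congrArg V₀.mkQ (funext fun i => ?_)
    simp only [Derivation.leibniz, smul_eq_mul, map_add, map_mul, Pi.add_apply, Pi.smul_apply,
      Algebra.smul_def]
  -- the lattice
  let e : Fin r → W := fun i => V₀.mkQ (Pi.single i 1)
  let N₀ : Submodule A' W := Submodule.span A' (Set.range fun j : Fin s =>
    D (algebraMap (PS s) A' (MvPowerSeries.X j)))
  let M₀ : Submodule A' W := Submodule.span A' (Set.range e)
  have hM₀ : ∀ a, D a ∈ M₀ := fun a => by
    obtain ⟨f, rfl⟩ := Ideal.Quotient.mk_surjective a
    change δ₁ _ ∈ M₀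
    rw [hδ₁]
    simp only [δ₀]
    have : (fun i => algebraMap A' L (Ideal.Quotient.mk p (pderiv k i f))) =
        ∑ i, (Ideal.Quotient.mk p (pderiv k i f)) • (Pi.single i 1 : Fin r → L) := by
      funext j
      simp [Finset.sum_apply, Pi.single_apply, Algebra.smul_def]
      rfl
    rw [this, map_sum]
    refine Submodule.sum_mem _ fun i _ => ?_
    rw [LinearMap.map_smul_of_tower]
    exact Submodule.smul_mem _ _ (Submodule.subset_span ⟨i, rfl⟩)
  let M₁ : Submodule A' (W ⧸ N₀) := M₀.map N₀.mkQ
  haveI : Module.Finite A' M₀ := Module.Finite.iff_fg.2 (Submodule.fg_span (Set.finite_range e))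
  haveI : Module.Finite A' M₁ := Module.Finite.map M₀ N₀.mkQ
  let d : A' →ₗ[k] M₁ :=
    { toFun := fun a => ⟨N₀.mkQ (D a), Submodule.mem_map_of_mem (hM₀ a)⟩
      map_add' := fun a b => Subtype.ext (by simp)
      map_smul' := fun c a => Subtype.ext (by simp) }
  haveI : Module.Finite (PS s) M₁ := Module.Finite.trans A' M₁
  haveI : IsScalarTower k (PS s) M₁ := ⟨fun c f x => by
    rw [← algebraMap_smul A' (c • f) x, ← algebraMap_smul A' f x, ← smul_assoc]
    exact congrArg (· • x) (LinearMap.map_smul (IsScalarTower.toAlgHom k (PS s) A').toLinearMap c f)⟩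
  let δS : Derivation k (PS s) M₁ := Derivation.mk'
    (d.comp (IsScalarTower.toAlgHom k (PS s) A').toLinearMap) fun a b => Subtype.ext (by
      rw [← algebraMap_smul A' a, ← algebraMap_smul A' b]
      show N₀.mkQ (D (algebraMap (PS s) A' (a * b))) =
        algebraMap (PS s) A' a • N₀.mkQ (D (algebraMap (PS s) A' b)) +
          algebraMap (PS s) A' b • N₀.mkQ (D (algebraMap (PS s) A' a))
      rw [map_mul, Derivation.leibniz, map_add, map_smul, map_smul])
  have hδS : δS = 0 := derivation_eq_zero M₁ δS fun i => Subtype.ext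
    ((Submodule.Quotient.mk_eq_zero _).2 (Submodule.subset_span ⟨i, rfl⟩))
  let V' : Submodule L W := Submodule.span L (Set.range fun j : Fin s =>
    D (algebraMap (PS s) A' (MvPowerSeries.X j)))
  have hN₀ : N₀ ≤ V'.restrictScalars A' := Submodule.span_le.2 Submodule.subset_span
  have hS : ∀ f : PS s, V'.mkQ (D (algebraMap (PS s) A' f)) = 0 := fun f => by
    rw [Submodule.mkQ_apply, Submodule.Quotient.mk_eq_zero]
    refine hN₀ ((Submodule.Quotient.mk_eq_zero _).1 ?_)
    exact congrArg Subtype.val (congrArg (fun δ : Derivation k (PS s) M₁ => δ f) hδS)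
  -- separability
  have hA : ∀ a : A', V'.mkQ (D a) = 0 := by
    intro a
    let al : L := algebraMap A' L a
    obtain ⟨b₀, hb₀, hb⟩ := IsLocalization.integerNormalization_spec (PS s)⁰ (minpoly L' al)
    let P := IsLocalization.integerNormalization (PS s)⁰ (minpoly L' al)
    let DQ : Derivation k A' (W ⧸ V') := (V'.mkQ.restrictScalars A').compDer D
    have hDQ : ∀ f : PS s, DQ (algebraMap (PS s) A' f) = 0 := hS
    have hPa : Polynomial.aeval a P = 0 := by
      refine IsFractionRing.injective A' L ?_
      rw [map_zero, ← Polynomial.aeval_algebraMap_apply, ← Polynomial.aeval_map_algebraMap L', hb,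
        Algebra.smul_def, map_mul, minpoly.aeval, mul_zero]
    have key : ∀ Q : Polynomial (PS s),
        DQ (Polynomial.aeval a Q) = Polynomial.aeval a (Polynomial.derivative Q) • DQ a := by
      intro Q
      induction Q using Polynomial.induction_on' with
      | add x y hx hy =>
        simp only [map_add, hx, hy]
        exact (add_smul (Polynomial.aeval a (Polynomial.derivative x) : A') _ (DQ a)).symm
      | monomial n c =>
        rw [Polynomial.aeval_monomial, Derivation.leibniz, hDQ, smul_zero, add_zero,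
          Derivation.leibniz_pow, Polynomial.derivative_monomial, Polynomial.aeval_monomial,
          map_mul, map_natCast, ← Nat.cast_smul_eq_nsmul A', smul_smul, smul_smul]
    have h0 := key P
    rw [hPa, map_zero] at h0
    have hne : algebraMap A' L (Polynomial.aeval a (Polynomial.derivative P)) ≠ 0 := by
      rw [← Polynomial.aeval_algebraMap_apply, ← Polynomial.aeval_map_algebraMap L',
        ← Polynomial.derivative_map, hb, Polynomial.derivative_smul, Algebra.smul_def, map_mul,
        Polynomial.algebraMap_apply, Polynomial.aeval_C]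
      have h1 : Polynomial.aeval al (Polynomial.derivative (minpoly L' al)) ≠ 0 :=
        (Algebra.IsSeparable.isSeparable L' al).aeval_derivative_ne_zero (minpoly.aeval L' al)
      exact mul_ne_zero ((map_ne_zero _).2 (IsFractionRing.to_map_ne_zero_of_mem_nonZeroDivisors hb₀)) h1
    rw [← IsScalarTower.algebraMap_smul L] at h0
    exact (smul_eq_zero.1 h0.symm).resolve_left hne
  have hV' : V' = ⊤ := by
    rw [eq_top_iff]
    rintro w -
    obtain ⟨v, rfl⟩ := Submodule.mkQ_surjective V₀ w
    have : v = ∑ i, v i • (Pi.single i 1 : Fin r → L) := by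
      funext j
      simp [Finset.sum_apply, Pi.single_apply]
    rw [this, map_sum]
    refine Submodule.sum_mem _ fun i _ => ?_
    rw [map_smul]
    refine Submodule.smul_mem _ _ ?_
    have h1 := hA (Ideal.Quotient.mk p (MvPowerSeries.X i))
    rw [Submodule.mkQ_apply, Submodule.Quotient.mk_eq_zero] at h1
    change δ₁ _ ∈ V' at h1
    rw [hδ₁] at h1
    convert h1 using 1
    refine congrArg V₀.mkQ (funext fun j => ?_)
    rw [MvPowerSeries.pderiv_X]
    by_cases h : j = i
    · subst h; simp
    · simp [Ne.symm h, h]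
  refine le_trans (le_of_eq ?_) (finrank_range_le_card
    (R := L) fun j : Fin s => D (algebraMap (PS s) A' (MvPowerSeries.X j))) |>.trans (by simp)
  change Module.finrank L W = Module.finrank L V'
  rw [hV', finrank_top]

/-- Independent vectors in `L ^ r` have a nonzero maximal minor. -/
theorem exists_minor {L : Type*} [Field L] {r c : ℕ} (v : Fin c → Fin r → L)
    (hv : LinearIndependent L v) :
    ∃ σ : Fin c → Fin r, Matrix.det (Matrix.of fun i j => v j (σ i)) ≠ 0 := by
  classical
  let M : Matrix (Fin c) (Fin r) L := Matrix.of v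
  have hrank : Module.finrank L (Submodule.span L (Set.range M.col)) = c := by
    rw [← Matrix.rank_eq_finrank_span_cols]
    exact (LinearIndependent.rank_matrix (M := M) hv).trans (Fintype.card_fin c)
  obtain ⟨b, hb, hspan, hli⟩ := exists_linearIndependent L (Set.range M.col)
  have hbfin : b.Finite := hli.setFinite
  have hcard : hbfin.toFinset.card = c := by
    have h := finrank_span_finset_eq_card (R := L) (s := hbfin.toFinset)
      (by rw [Set.Finite.coe_toFinset]; exact hli)
    rw [Set.Finite.coe_toFinset, hspan] at h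
    exact h.symm.trans hrank
  let e := (hbfin.toFinset.equivFin.trans (finCongr hcard)).symm
  choose σ hσ using fun i : Fin c => hb (hbfin.mem_toFinset.1 (e i).2)
  refine ⟨σ, ?_⟩
  have hli' : LinearIndependent L (fun i => M.col (σ i)) := by
    have h1 := hli.comp (fun i => (⟨_, hbfin.mem_toFinset.1 (e i).2⟩ : b)) fun i j h =>
      e.injective (Subtype.ext (congrArg (fun z : b => (z : Fin c → L)) h))
    rw [show (fun i => M.col (σ i)) = fun i => ((e i : hbfin.toFinset) : Fin c → L) from funext hσ]
    exact h1
  have h2 : IsUnit (Matrix.of fun i j => v j (σ i) : Matrix (Fin c) (Fin c) L) :=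
    Matrix.linearIndependent_rows_iff_isUnit.1 hli'
  exact ((Matrix.isUnit_iff_isUnit_det _).1 h2).ne_zero

/-- The Jacobian condition holds when the localized quotient is regular. -/
theorem exists_jacobian {r s : ℕ} (q p : Ideal (PS r)) [p.IsPrime] (hqp : q ≤ p)
    [(p.map (Ideal.Quotient.mk q)).IsPrime]
    [Algebra (PS s) ((PS r) ⧸ p)] [IsScalarTower k (PS s) ((PS r) ⧸ p)]
    [Module.Finite (PS s) ((PS r) ⧸ p)]
    (hinj : Function.Injective (algebraMap (PS s) ((PS r) ⧸ p)))
    {L' L : Type u} [Field L'] [Field L]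
    [Algebra (PS s) L'] [IsFractionRing (PS s) L']
    [Algebra ((PS r) ⧸ p) L] [IsFractionRing ((PS r) ⧸ p) L]
    [Algebra L' L] [Algebra (PS s) L] [IsScalarTower (PS s) ((PS r) ⧸ p) L]
    [IsScalarTower (PS s) L' L] [Algebra.IsSeparable L' L]
    (hreg : IsRegularLocalRing (Localization.AtPrime (p.map (Ideal.Quotient.mk q)))) :
    ∃ (m : ℕ) (D : Fin m → Derivation k (PS r) (PS r)) (f : Fin m → PS r), (∀ i, f i ∈ q) ∧
        q.map (algebraMap (PS r) (Localization.AtPrime p)) =
          Ideal.span (Set.range fun i => algebraMap (PS r) (Localization.AtPrime p) (f i)) ∧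
        Matrix.det (Matrix.of fun i j => D i (f j)) ∉ p := by
  classical
  let U := Localization.AtPrime p
  haveI hA : IsRegularLocalRing (PS r) := H24.PowerSeries.isRegularLocalRing_fin k r
  haveI : IsDomain (PS r) := Lib.Regular.Quotient.isDomain _
  haveI : LocCoh.IsCohenMacaulayLocalRing (PS r) := Lib.JacCrit.FlatRegular.isCohenMacaulayLocalRing _
  haveI hU : IsRegularLocalRing U := Lib.Regular.Serre.isRegularLocalRing_localization p
  have hUinj : Function.Injective (algebraMap (PS r) U) :=
    IsLocalization.injective U p.primeCompl_le_nonZeroDivisors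
  -- dimensions
  obtain ⟨h, e, hh, he, hhe⟩ := Lib.LCFin.CMDim.exists_dims p (H24.PowerSeries.ringKrullDim_eq k r)
  have hes : e = s := by
    haveI : FaithfulSMul (PS s) ((PS r) ⧸ p) := (faithfulSMul_iff_algebraMap_injective _ _).2 hinj
    have h1 : ringKrullDim ((PS r) ⧸ p) = ringKrullDim (PS s) :=
      Lib.Dim.Integral.ringKrullDim_eq_of_isIntegral
    rw [he, H24.PowerSeries.ringKrullDim_eq k s] at h1
    exact_mod_cast h1
  have hUdim : (maximalIdeal U).spanFinrank = h := by
    have h1 := IsRegularLocalRing.spanFinrank_maximalIdeal (R := U)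
    rw [hh] at h1
    exact_mod_cast h1
  -- generators of `q U`
  obtain ⟨eq⟩ := JacobianSmooth.exists_equiv_quotient (k := k) q p hqp
  haveI : IsRegularLocalRing (U ⧸ q.map (algebraMap (PS r) U)) :=
    IsRegularLocalRing.of_ringEquiv
      (R := Localization.AtPrime (p.map (Ideal.Quotient.mk q))) eq.toRingEquiv
  obtain ⟨c, f, hf, hfspan⟩ := JacobianSmooth.exists_indep_gens (q.map (algebraMap (PS r) U))
  have hclear : ∀ j, ∃ (g : PS r) (u : U), g ∈ q ∧ IsUnit u ∧ algebraMap (PS r) U g = u * f j := by
    intro j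
    have hj : (f j : U) ∈ q.map (algebraMap (PS r) U) := hfspan ▸ Ideal.subset_span ⟨j, rfl⟩
    obtain ⟨⟨⟨a, ha⟩, t⟩, hat⟩ := (IsLocalization.mem_map_algebraMap_iff p.primeCompl U).1 hj
    exact ⟨a, algebraMap (PS r) U (t : PS r), ha, IsLocalization.map_units U t, by
      rw [← hat, mul_comm]⟩
  choose g u hgq hu hgu using hclear
  let g' : Fin c → maximalIdeal U := fun j => ⟨algebraMap (PS r) U (g j), by
    rw [hgu]; exact Ideal.mul_mem_left _ _ (f j).2⟩
  have hg' : LinearIndependent (ResidueField U) (fun j => (maximalIdeal U).toCotangent (g' j)) := by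
    have hr : ∀ j, residue U (u j) ≠ 0 := fun j => fun hc => by
      rw [residue_eq_zero_iff] at hc
      exact hc (hu j)
    have h1 := hf.units_smul fun j => Units.mk0 (residue U (u j)) (hr j)
    convert h1 using 1
    funext j
    rw [show g' j = u j • f j from Subtype.ext (hgu j), LinearMap.map_smul, Pi.smul_apply',
      Units.smul_def, Units.val_mk0]
    exact (algebraMap_smul (ResidueField U) (u j) _).symm
  have hgspan : q.map (algebraMap (PS r) U) =
      Ideal.span (Set.range fun j => algebraMap (PS r) U (g j)) := by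
    refine le_antisymm ?_ (Ideal.span_le.2 ?_)
    · rw [hfspan, Ideal.span_le]
      rintro _ ⟨j, rfl⟩
      obtain ⟨w, hw⟩ := (hu j).exists_left_inv
      change (f j : U) ∈ _
      rw [show (f j : U) = w * algebraMap (PS r) U (g j) by
        rw [hgu, ← mul_assoc, hw, one_mul]]
      exact Ideal.mul_mem_left _ _ (Ideal.subset_span ⟨j, rfl⟩)
    · rintro _ ⟨j, rfl⟩
      exact Ideal.mem_map_of_mem _ (hgq j)
  -- the Jacobian vectors
  let A' := (PS r) ⧸ p
  let φ : (PS r) →+* L := (algebraMap A' L).comp (Ideal.Quotient.mk p)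
  have hφ : ∀ x, φ x = 0 ↔ x ∈ p := fun x => by
    rw [RingHom.comp_apply, map_eq_zero_iff _ (IsFractionRing.injective A' L),
      Ideal.Quotient.eq_zero_iff_mem]
  let v : (PS r) → Fin r → L := fun x i => φ (pderiv k i x)
  have hvadd : ∀ x y, v (x + y) = v x + v y := fun x y => funext fun i => by
    simp only [v, map_add, Pi.add_apply]
  have hvmul : ∀ a y, y ∈ p → v (a * y) = φ a • v y := fun a y hy => funext fun i => by
    simp only [v, Derivation.leibniz, smul_eq_mul, map_add, map_mul, (hφ y).2 hy, zero_mul, add_zero,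
      Pi.smul_apply]
  have hv : LinearIndependent L (fun j => v (g j)) := by
    by_contra hdep
    obtain ⟨lam, hsum, j₀, hj₀⟩ := Fintype.not_linearIndependent_iff.1 hdep
    obtain ⟨b, hb⟩ := IsLocalization.exist_integer_multiples_of_finite A'⁰ lam
    choose a ha using hb
    choose a' ha' using fun j => Ideal.Quotient.mk_surjective (I := p) (a j)
    let G := ∑ j, a' j * g j
    have hGq : G ∈ q := Ideal.sum_mem _ fun j _ => Ideal.mul_mem_left _ _ (hgq j)
    have hbne : algebraMap A' L (b : A') ≠ 0 :=
      IsFractionRing.to_map_ne_zero_of_mem_nonZeroDivisors b.2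
    have hφa : ∀ j, φ (a' j) = algebraMap A' L b * lam j := fun j => by
      rw [RingHom.comp_apply, ha', ha, Algebra.smul_def]
    have hvG : v G = 0 := by
      have hvsum : ∀ S : Finset (Fin c), v (∑ j ∈ S, a' j * g j) = ∑ j ∈ S, φ (a' j) • v (g j) := by
        intro S
        induction S using Finset.induction_on with
        | empty => exact funext fun i => by simp [v]
        | insert x S hx ih =>
          rw [Finset.sum_insert hx, Finset.sum_insert hx, hvadd, ih, hvmul _ _ (hqp (hgq x))]
      rw [hvsum]
      simp only [hφa, mul_smul, ← Finset.smul_sum, hsum, smul_zero]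
    let G' : maximalIdeal U := ∑ j, algebraMap (PS r) U (a' j) • g' j
    have hG'val : (G' : U) = algebraMap (PS r) U G := by
      simp only [G', G, g', map_sum, map_mul, Submodule.coe_sum, Submodule.coe_smul, smul_eq_mul]
    have hG'ne : (maximalIdeal U).toCotangent G' ≠ 0 := by
      intro h0
      have hcast : ∑ j, residue U (algebraMap (PS r) U (a' j)) • (maximalIdeal U).toCotangent (g' j)
          = 0 := by
        rw [← h0, map_sum]
        exact Finset.sum_congr rfl fun j _ => by
          rw [LinearMap.map_smul]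
          exact algebraMap_smul (R := U) (ResidueField U) (algebraMap (PS r) U (a' j))
            ((maximalIdeal U).toCotangent (g' j))
      have h1 := Fintype.linearIndependent_iff.1 hg' _ hcast j₀
      rw [residue_eq_zero_iff] at h1
      have h2 : a' j₀ ∈ p := by
        rw [← Localization.AtPrime.comap_maximalIdeal (I := p)]
        exact h1
      exact mul_ne_zero hbne hj₀ ((hφa j₀).symm.trans ((hφ _).2 h2))
    obtain ⟨t, ht, htcard⟩ := Lib.Regular.Indep.exists_gens_extend (fun _ : Fin 1 => G')
      (LinearIndependent.of_subsingleton 0 hG'ne)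
    have htm : ∀ y ∈ t, ∃ (z : PS r) (w : U), z ∈ p ∧ IsUnit w ∧ algebraMap (PS r) U z = w * y := by
      intro y hy
      have hy' : y ∈ maximalIdeal U := ht ▸ Ideal.subset_span (by simp [hy])
      rw [← Localization.AtPrime.map_eq_maximalIdeal] at hy'
      obtain ⟨⟨⟨z, hz⟩, t'⟩, hzt⟩ := (IsLocalization.mem_map_algebraMap_iff p.primeCompl U).1 hy'
      exact ⟨z, algebraMap (PS r) U (t' : PS r), hz, IsLocalization.map_units U t', by
        rw [← hzt, mul_comm]⟩
    choose! z w hzp hw hzw using htm
    let T : Finset (PS r) := t.image z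
    let V₁ : Submodule L (Fin r → L) := Submodule.span L (v '' (T : Set (PS r)))
    let Z : Ideal (PS r) :=
      { carrier := {x | x ∈ p ∧ v x ∈ V₁}
        add_mem' := fun {x y} hx hy => ⟨p.add_mem hx.1 hy.1, hvadd x y ▸ V₁.add_mem hx.2 hy.2⟩
        zero_mem' := ⟨p.zero_mem, by
          have : v 0 = 0 := funext fun i => by simp [v]
          rw [this]; exact V₁.zero_mem⟩
        smul_mem' := fun a x hx => ⟨p.mul_mem_left a hx.1, by
          rw [smul_eq_mul, hvmul a x hx.1]; exact V₁.smul_mem _ hx.2⟩ }
    have hGZ : Ideal.span (insert G (T : Set (PS r))) ≤ Z := by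
      rw [Ideal.span_le]
      rintro x (rfl | hx)
      · exact ⟨hqp hGq, by rw [hvG]; exact V₁.zero_mem⟩
      · obtain ⟨y, hy, rfl⟩ := Finset.mem_image.1 hx
        exact ⟨hzp y hy, Submodule.subset_span ⟨_, hx, rfl⟩⟩
    have hcover : ∀ x ∈ p, v x ∈ V₁ := by
      intro x hx
      have hx' : algebraMap (PS r) U x ∈
          (Ideal.span (insert G (T : Set (PS r)))).map (algebraMap (PS r) U) := by
        have hmax : maximalIdeal U ≤ (Ideal.span (insert G (T : Set (PS r)))).map (algebraMap (PS r) U) := by
          rw [← ht, Ideal.span_le]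
          intro y hy
          rw [Finset.coe_union, Finset.coe_image, Finset.coe_univ, Set.image_univ] at hy
          rcases hy with ⟨i, rfl⟩ | hy
          · rw [SetLike.mem_coe, hG'val]
            exact Ideal.mem_map_of_mem _ (Ideal.subset_span (Set.mem_insert _ _))
          · obtain ⟨w', hw'⟩ := (hw y hy).exists_left_inv
            rw [SetLike.mem_coe, show y = w' * algebraMap (PS r) U (z y) by
              rw [hzw y hy, ← mul_assoc, hw', one_mul]]
            exact Ideal.mul_mem_left _ _ (Ideal.mem_map_of_mem _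
              (Ideal.subset_span (Set.mem_insert_of_mem _ (Finset.mem_image_of_mem z hy))))
        refine hmax ?_
        rw [← Localization.AtPrime.map_eq_maximalIdeal]
        exact Ideal.mem_map_of_mem _ hx
      obtain ⟨⟨⟨y, hy⟩, t'⟩, hyt⟩ := (IsLocalization.mem_map_algebraMap_iff p.primeCompl U).1 hx'
      have hxy : x * (t' : PS r) = y := hUinj (by rw [map_mul]; exact hyt)
      have h1 : v ((t' : PS r) * x) ∈ V₁ := by
        rw [mul_comm, hxy]
        exact (hGZ hy).2
      rw [hvmul _ _ hx] at h1
      have ht' : φ (t' : PS r) ≠ 0 := fun hc => t'.2 ((hφ _).1 hc)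
      exact (V₁.smul_mem_iff ht').1 h1
    have hV₁ : Module.finrank L V₁ ≤ t.card := by
      change Module.finrank L (Submodule.span L (v '' (T : Set (PS r)))) ≤ t.card
      rw [← Finset.coe_image]
      exact (finrank_span_finset_le_card _).trans (Finset.card_image_le.trans Finset.card_image_le)
    have hV₀ : Submodule.span L (v '' (p : Set (PS r))) ≤ V₁ :=
      Submodule.span_le.2 (Set.image_subset_iff.2 hcover)
    have hq' := finrank_quotient_le (L' := L') (L := L) p hinj
    have h5 := Submodule.finrank_quotient_add_finrank (Submodule.span L (v '' (p : Set (PS r))))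
    rw [Module.finrank_fin_fun] at h5
    have h6 : Module.finrank L ((Fin r → L) ⧸ Submodule.span L (v '' (p : Set (PS r)))) ≤ s := hq'
    have h7 := Submodule.finrank_mono hV₀
    rw [hUdim] at htcard
    omega
  obtain ⟨σ, hσ⟩ := exists_minor _ hv
  refine ⟨c, fun i => pderiv k (σ i), g, hgq, hgspan, fun hmem => hσ ?_⟩
  have h1 := (hφ _).2 hmem
  rw [RingHom.map_det] at h1
  exact h1

theorem tfae {r s : ℕ} (q p : Ideal (PS r)) [p.IsPrime] (hqp : q ≤ p)
    [(p.map (Ideal.Quotient.mk q)).IsPrime]
    [Algebra (PS s) ((PS r) ⧸ p)] [IsScalarTower k (PS s) ((PS r) ⧸ p)]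
    [Module.Finite (PS s) ((PS r) ⧸ p)]
    (hinj : Function.Injective (algebraMap (PS s) ((PS r) ⧸ p)))
    {L' L : Type u} [Field L'] [Field L]
    [Algebra (PS s) L'] [IsFractionRing (PS s) L']
    [Algebra ((PS r) ⧸ p) L] [IsFractionRing ((PS r) ⧸ p) L]
    [Algebra L' L] [Algebra (PS s) L] [IsScalarTower (PS s) ((PS r) ⧸ p) L]
    [IsScalarTower (PS s) L' L] [Algebra.IsSeparable L' L] :
    [CAlgX.IsAdicFormallySmooth k (Localization.AtPrime (p.map (Ideal.Quotient.mk q)))
        (maximalIdeal (Localization.AtPrime (p.map (Ideal.Quotient.mk q)))),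
     ∃ (m : ℕ) (D : Fin m → Derivation k (PS r) (PS r))
        (f : Fin m → PS r), (∀ i, f i ∈ q) ∧
        q.map (algebraMap (PS r) (Localization.AtPrime p)) =
          Ideal.span (Set.range fun i => algebraMap (PS r) (Localization.AtPrime p) (f i)) ∧
        Matrix.det (Matrix.of fun i j => D i (f j)) ∉ p,
     IsRegularLocalRing (Localization.AtPrime (p.map (Ideal.Quotient.mk q)))].TFAE := by
  haveI hA : IsRegularLocalRing (PS r) := H24.PowerSeries.isRegularLocalRing_fin k r
  tfae_have 1 → 3 := fun h => by
    haveI : IsNoetherianRing (Localization.AtPrime (p.map (Ideal.Quotient.mk q))) :=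
      IsLocalization.isNoetherianRing (p.map (Ideal.Quotient.mk q)).primeCompl _ inferInstance
    exact (Groth.Agent.S2471.result.1 h).1
  tfae_have 3 → 2 := fun h => exists_jacobian (L' := L') (L := L) q p hqp hinj h
  tfae_have 2 → 1 := fun ⟨m, D, f, _, hspan, hdet⟩ => by
    have h1 := (Groth.Agent.S4537.result (maximalIdeal (PS r))).2 (by
      have h2 := Groth.Agent.S4533.result k (⊥ : Ideal k) r
      convert h2 using 1
      rw [Ideal.map_bot, bot_sup_eq]
      ext x
      rw [mem_maximalIdeal, mem_nonunits_iff, MvPowerSeries.isUnit_iff_constantCoeff, RingHom.mem_ker,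
        isUnit_iff_ne_zero, not_not])
    exact JacobianSmooth.of_jacobian (Groth.Agent.S4512.result h1).1 q p hqp D f hspan hdet
  tfae_finish

end Groth.Agent.H19.EGA.NagataPS
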