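import Groth.Agent.H19.EGA.NagataSep
import Groth.Agent.H19.EGA.NagataPS
import Groth.Agent.S2451
import Mathlib.LinearAlgebra.TensorProduct.Basis
import Mathlib.LinearAlgebra.TensorProduct.Tower

/-!
# Nagata's Jacobian criterion for complete regular local algebras
-/

set_option autoImplicit false
set_option linter.style.haveILetI false

universe u

open IsLocalRing
open scoped TensorProduct nonZeroDivisors

namespace Groth.Agent.H19.EGA.NagataCrit

/-- Adic formal smoothness over a formally smooth extension field descends to the base. -/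
theorem adic_trans {k K₀ A : Type u} [CommRing k] [CommRing K₀] [CommRing A] [Algebra k K₀]
    [Algebra k A] [Algebra K₀ A] [IsScalarTower k K₀ A] [Algebra.FormallySmooth k K₀] {I : Ideal A}
    (h : CAlgX.IsAdicFormallySmooth K₀ A I) : CAlgX.IsAdicFormallySmooth k A I := by
  intro T _ _ J hJ ψ hψ
  obtain ⟨g, hg⟩ := Algebra.FormallySmooth.comp_surjective k K₀ J hJ
    (ψ.comp (IsScalarTower.toAlgHom k K₀ A))
  letI : Algebra K₀ T := g.toRingHom.toAlgebra
  have hψc : ∀ c : K₀, ψ (algebraMap K₀ A c) = algebraMap K₀ (T ⧸ J) c :=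
    fun c => (AlgHom.congr_fun hg c).symm
  let ψ' : A →ₐ[K₀] T ⧸ J := { ψ.toRingHom with commutes' := hψc }
  obtain ⟨χ, hχ⟩ := h T J hJ ψ' hψ
  refine ⟨{ χ.toRingHom with commutes' := fun c => ?_ }, AlgHom.ext fun a => AlgHom.congr_fun hχ a⟩
  show χ (algebraMap k A c) = algebraMap k T c
  rw [IsScalarTower.algebraMap_apply k K₀ A, AlgHom.commutes]
  exact g.commutes c

/-- A localized ideal is spanned by given members iff each element is, up to a denominator, in their span. -/
theorem map_eq_span_iff {A : Type u} [CommRing A] (q 𝔭 : Ideal A) [𝔭.IsPrime] {m : ℕ} (f : Fin m → A)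
    (hf : ∀ i, f i ∈ q) :
    q.map (algebraMap A (Localization.AtPrime 𝔭)) =
        Ideal.span (Set.range fun i => algebraMap A (Localization.AtPrime 𝔭) (f i)) ↔
      ∀ x ∈ q, ∃ t, t ∉ 𝔭 ∧ t * x ∈ Ideal.span (Set.range f) := by
  have hr : Ideal.span (Set.range fun i => algebraMap A (Localization.AtPrime 𝔭) (f i)) =
      (Ideal.span (Set.range f)).map (algebraMap A (Localization.AtPrime 𝔭)) := by
    rw [Ideal.map_span, ← Set.range_comp]
    rfl
  rw [hr]
  constructor
  · intro h x hx
    obtain ⟨t, ht, htx⟩ := (IsLocalization.algebraMap_mem_map_algebraMap_iff 𝔭.primeCompl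
      (Localization.AtPrime 𝔭) _ x).1 (h ▸ Ideal.mem_map_of_mem _ hx)
    exact ⟨t, ht, htx⟩
  · intro h
    refine le_antisymm (Ideal.map_le_iff_le_comap.2 fun x hx => ?_)
      (Ideal.map_mono (Ideal.span_le.2 (Set.range_subset_iff.2 hf)))
    obtain ⟨t, ht, htx⟩ := h x hx
    exact (IsLocalization.algebraMap_mem_map_algebraMap_iff 𝔭.primeCompl
      (Localization.AtPrime 𝔭) _ x).2 ⟨t, ht, htx⟩

/-- Differentials of a field with finite imperfection degree have a finite basis of differentials. -/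
theorem exists_dbasis (p : ℕ) [hp : Fact p.Prime] {k : Type u} [Field k] [CharP k p]
    [Module.Finite (frobenius k p).fieldRange k] :
    ∃ (e : ℕ) (b : Fin e → k) (bd : Module.Basis (Fin e) k (Ω[k⁄ℤ])),
      ∀ l, bd l = KaehlerDifferential.D ℤ k (b l) := by
  classical
  let d := KaehlerDifferential.D ℤ k
  have hpow : ∀ c : k, d (c ^ p) = 0 := fun c => by
    rw [Derivation.leibniz_pow, ← Nat.cast_smul_eq_nsmul k, CharP.cast_eq_zero, zero_smul]
  obtain ⟨S, hS⟩ := (Module.Finite.fg_top : (⊤ : Submodule (frobenius k p).fieldRange k).FG)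
  have hmem : ∀ x, d x ∈ Submodule.span k (d '' (S : Set k)) := by
    intro x
    have hx : x ∈ Submodule.span (frobenius k p).fieldRange (S : Set k) := hS ▸ Submodule.mem_top
    induction hx using Submodule.span_induction with
    | mem y hy => exact Submodule.subset_span ⟨y, hy, rfl⟩
    | zero => rw [map_zero]; exact Submodule.zero_mem _
    | add a b _ _ ha hb => rw [map_add]; exact add_mem ha hb
    | smul c y _ hy =>
      obtain ⟨_, c, rfl⟩ := c
      show d (c ^ p * y) ∈ _
      rw [Derivation.leibniz, hpow, smul_zero, add_zero]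
      exact Submodule.smul_mem _ _ hy
  have htop : Submodule.span k (d '' (S : Set k)) = ⊤ := by
    rw [eq_top_iff, ← KaehlerDifferential.span_range_derivation, Submodule.span_le]
    rintro _ ⟨x, rfl⟩
    exact hmem x
  obtain ⟨T, hTS, hTspan, hTli⟩ := exists_linearIndependent k (d '' (S : Set k))
  have hTfin : T.Finite := (S.finite_toSet.image d).subset hTS
  haveI := hTfin.fintype
  let eT := Fintype.equivFin T
  choose b hb hb' using fun l => hTS (eT.symm l).2
  let B₀ : Module.Basis T k (Ω[k⁄ℤ]) := Module.Basis.mk hTli (by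
    rw [Subtype.range_coe, hTspan, htop])
  exact ⟨_, b, B₀.reindex eT, fun l => by
    rw [Module.Basis.reindex_apply, Module.Basis.mk_apply]; exact (hb' l).symm⟩

/-- Injectivity of the map on differentials gives independence of a basis of differentials. -/
theorem coeff_eq_zero {k B L : Type u} [Field k] [CommRing B] [Algebra k B] [Field L] [Algebra B L]
    (hinj : Function.Injective ((KaehlerDifferential.mapBaseChange ℤ k B).lTensor L))
    {e : ℕ} (b : Fin e → k) (bd : Module.Basis (Fin e) k (Ω[k⁄ℤ]))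
    (hbd : ∀ l, bd l = KaehlerDifferential.D ℤ k (b l)) (μ : Fin e → L)
    (h : ∑ l, μ l • ((1 : L) ⊗ₜ[B] KaehlerDifferential.D ℤ B (algebraMap k B (b l))) = 0) :
    ∀ l, μ l = 0 := by
  letI : Algebra k L := ((algebraMap B L).comp (algebraMap k B)).toAlgebra
  haveI : IsScalarTower k B L := IsScalarTower.of_algebraMap_eq' rfl
  let x : L ⊗[B] (B ⊗[k] Ω[k⁄ℤ]) := ∑ l, μ l ⊗ₜ[B] ((1 : B) ⊗ₜ[k] bd l)
  have hx : x = 0 := by
    refine hinj ?_
    rw [map_zero, map_sum, ← h]
    refine Finset.sum_congr rfl fun l _ => ?_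
    rw [LinearMap.lTensor_tmul, KaehlerDifferential.mapBaseChange_tmul, one_smul, hbd,
      KaehlerDifferential.map_D, TensorProduct.smul_tmul', smul_eq_mul, mul_one]
  have h2 := congrArg (TensorProduct.AlgebraTensorModule.cancelBaseChange k B L L (Ω[k⁄ℤ])) hx
  simp only [x, map_sum, map_zero, TensorProduct.AlgebraTensorModule.cancelBaseChange_tmul,
    one_smul] at h2
  have h3 : ∑ l, μ l • (bd.baseChange L) l = 0 := by
    rw [← h2]
    exact Finset.sum_congr rfl fun l _ => by
      rw [Module.Basis.baseChange_apply, TensorProduct.smul_tmul', smul_eq_mul, mul_one]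
  exact Fintype.linearIndependent_iff.1 (bd.baseChange L).linearIndependent μ h3

/-- Independence of the constants in the Jacobian. -/
theorem coeff_eq_zero_of_relation {R k B L : Type u} [CommRing R] [Field k] [CommRing B] [Algebra k B]
    [Algebra R B] [Field L] [Algebra B L] [Algebra R L] [IsScalarTower R B L]
    (hinj : Function.Injective ((KaehlerDifferential.mapBaseChange ℤ k B).lTensor L))
    {e c : ℕ} (b : Fin e → k) (bd : Module.Basis (Fin e) k (Ω[k⁄ℤ]))
    (hbd : ∀ l, bd l = KaehlerDifferential.D ℤ k (b l))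
    (f : Fin c → R) (hf : ∀ j, algebraMap R B (f j) = 0)
    (bR : Fin e → R) (hbR : ∀ l, algebraMap R B (bR l) = algebraMap k B (b l))
    (lam : Fin c → L) (μ : Fin e → L)
    (h : ∑ j, lam j • ((1 : L) ⊗ₜ[R] KaehlerDifferential.D ℤ R (f j)) +
      ∑ l, μ l • ((1 : L) ⊗ₜ[R] KaehlerDifferential.D ℤ R (bR l)) = 0) :
    ∀ l, μ l = 0 := by
  let δ : Ω[R⁄ℤ] →ₗ[R] L ⊗[B] Ω[B⁄ℤ] :=
    ((TensorProduct.mk B L (Ω[B⁄ℤ]) 1).restrictScalars R).comp (KaehlerDifferential.map ℤ ℤ R B)
  have hδ : ∀ x, δ (KaehlerDifferential.D ℤ R x) =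
      (1 : L) ⊗ₜ[B] KaehlerDifferential.D ℤ B (algebraMap R B x) := fun x => by
    simp [δ, KaehlerDifferential.map_D]
  have h1 := congrArg (δ.liftBaseChange L) h
  simp only [map_add, map_sum, map_smul, map_zero, LinearMap.liftBaseChange_tmul, one_smul, hδ, hf,
    hbR, map_zero, TensorProduct.tmul_zero, smul_zero, Finset.sum_const_zero, zero_add] at h1
  exact coeff_eq_zero hinj b bd hbd μ h1

/-- Linearization: derivations with a nonvanishing minor give a Jacobian over `k`. -/
theorem exists_derivation {k A : Type u} [Field k] [CommRing A] [Algebra k A] (𝔭 : Ideal A) [𝔭.IsPrime]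
    {c e : ℕ} (f : Fin c → A) (b : Fin e → k) (bd : Module.Basis (Fin e) k (Ω[k⁄ℤ]))
    (hbd : ∀ l, bd l = KaehlerDifferential.D ℤ k (b l))
    (E : Fin (c + e) → Derivation ℤ A A)
    (hE : Matrix.det (Matrix.of fun i j => E i (Fin.append f (fun l => algebraMap k A (b l)) j)) ∉ 𝔭) :
    ∃ D : Fin c → Derivation k A A, Matrix.det (Matrix.of fun i j => D i (f j)) ∉ 𝔭 := by
  classical
  let z := Fin.append f (fun l => algebraMap k A (b l))
  let M : Matrix (Fin (c + e)) (Fin (c + e)) A := Matrix.of fun i j => E i (z j)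
  let D₁ : Fin (c + e) → Derivation ℤ A A := fun i => ∑ l, M.adjugate i l • E l
  have hD₁ : ∀ i j, D₁ i (z j) = M.det • (1 : Matrix (Fin (c + e)) (Fin (c + e)) A) i j := fun i j => by
    rw [← Matrix.smul_apply, ← Matrix.adjugate_mul, Matrix.mul_apply]
    show (∑ l, M.adjugate i l • E l) _ = _
    rw [← Derivation.coeFnAddMonoidHom_apply, map_sum, Finset.sum_apply]
    rfl
  have hkill : ∀ (i : Fin c) (x : k), D₁ (Fin.castAdd e i) (algebraMap k A x) = 0 := by
    intro i
    let dk : Derivation ℤ k A := Derivation.mk'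
      (AddMonoidHom.mk' (fun x => D₁ (Fin.castAdd e i) (algebraMap k A x))
        fun x y => by simp only [map_add]).toIntLinearMap
      fun x y => by
        show D₁ (Fin.castAdd e i) (algebraMap k A (x * y)) =
          x • D₁ (Fin.castAdd e i) (algebraMap k A y) + y • D₁ (Fin.castAdd e i) (algebraMap k A x)
        rw [map_mul, Derivation.leibniz]
        simp [Algebra.smul_def]
    haveI := NagataSep.intTower' k A
    have hlift : dk.liftKaehlerDifferential = 0 := bd.ext fun l => by
      rw [hbd, Derivation.liftKaehlerDifferential_comp_D, LinearMap.zero_apply]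
      show D₁ (Fin.castAdd e i) (algebraMap k A (b l)) = 0
      have h1 := hD₁ (Fin.castAdd e i) (Fin.natAdd c l)
      simp only [z, Fin.append_right] at h1
      rw [h1, Matrix.one_apply_ne (Fin.ne_of_lt (Fin.lt_def.2 (by simp; omega))), smul_zero]
    intro x
    exact (Derivation.liftKaehlerDifferential_comp_D dk x).symm.trans (by rw [hlift]; rfl)
  let D : Fin c → Derivation k A A := fun i => Derivation.mk'
    { toFun := fun x => D₁ (Fin.castAdd e i) x
      map_add' := fun x y => map_add _ x y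
      map_smul' := fun r x => by
        rw [RingHom.id_apply, Algebra.smul_def, Derivation.leibniz, hkill, smul_zero, add_zero,
          smul_eq_mul, ← Algebra.smul_def] }
    fun x y => Derivation.leibniz _ x y
  refine ⟨D, ?_⟩
  have hDM : (Matrix.of fun i j => D i (f j)) = M.det • (1 : Matrix (Fin c) (Fin c) A) := by
    ext i j
    have h1 := hD₁ (Fin.castAdd e i) (Fin.castAdd e j)
    simp only [z, Fin.append_left] at h1
    refine h1.trans ?_
    rw [Matrix.smul_apply, Matrix.one_apply, Matrix.one_apply]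
    simp [Fin.castAdd_inj]
  rw [hDM, Matrix.det_smul, Matrix.det_one, mul_one, Fintype.card_fin]
  exact fun hc => hE (Ideal.IsPrime.mem_of_pow_mem inferInstance c hc)

/-- The core: a nonvanishing minor of derivations at the generators and the constants. -/
theorem exists_minor_core (p : ℕ) [hp : Fact p.Prime] {k K A B L : Type u} [Field k] [Field K]
    [CharP K p] [CommRing A] [Algebra k A] [CommRing B] [Algebra k B] [Algebra A B] [IsScalarTower k A B]
    [Field L] [Algebra B L] [Algebra A L] [IsScalarTower A B L]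
    {n : ℕ} (e : A ≃+* MvPowerSeries (Fin n) K) (𝔭 : Ideal A) [𝔭.IsPrime]
    (hker : ∀ x : A, algebraMap A L x = 0 ↔ x ∈ 𝔭)
    (hfrac : ∀ y : L, ∃ a t : A, algebraMap A L t ≠ 0 ∧ y * algebraMap A L t = algebraMap A L a)
    (hinj : Function.Injective ((KaehlerDifferential.mapBaseChange ℤ k B).lTensor L))
    {c d : ℕ} (hdim : ringKrullDim (Localization.AtPrime 𝔭) = (c + d : ℕ))
    (g : Fin (c + d) → A) (hg : ∀ i, g i ∈ 𝔭)
    (hcov : ∀ x ∈ 𝔭, ∃ t, t ∉ 𝔭 ∧ t * x ∈ Ideal.span (Set.range g))
    (f : Fin c → A) (hfg : ∀ j, g (Fin.castAdd d j) = f j) (hf : ∀ j, algebraMap A B (f j) = 0)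
    {eb : ℕ} (b : Fin eb → k) (bd : Module.Basis (Fin eb) k (Ω[k⁄ℤ]))
    (hbd : ∀ l, bd l = KaehlerDifferential.D ℤ k (b l)) :
    ∃ E : Fin (c + eb) → Derivation ℤ A A,
      Matrix.det (Matrix.of fun i j => E i (Fin.append f (fun l => algebraMap k A (b l)) j)) ∉ 𝔭 := by
  classical
  let es : MvPowerSeries (Fin n) K →+* A := e.symm.toRingHom
  have hese : ∀ x, es (e x) = x := fun x => e.symm_apply_apply x
  letI : Algebra (MvPowerSeries (Fin n) K) L := ((algebraMap A L).comp es).toAlgebra
  letI : Algebra (MvPowerSeries (Fin n) K) B := ((algebraMap A B).comp es).toAlgebra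
  haveI : IsScalarTower (MvPowerSeries (Fin n) K) B L :=
    IsScalarTower.of_algebraMap_eq fun x => IsScalarTower.algebraMap_apply A B L (es x)
  let P := 𝔭.comap es
  have hPh : ringKrullDim (Localization.AtPrime P) = (c + d : ℕ) := by
    rw [IsLocalization.AtPrime.ringKrullDim_eq_height P, ← hdim,
      IsLocalization.AtPrime.ringKrullDim_eq_height 𝔭]
    exact congrArg _ (RingEquiv.height_comap e.symm 𝔭)
  let zA : Fin c ⊕ Fin eb → A := Sum.elim f fun l => algebraMap k A (b l)
  obtain ⟨N, Ds, hDg, hDrel⟩ := NagataSep.separation (p := p) P (L := L)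
    (fun y => hker (es y))
    (fun y => by
      obtain ⟨a, t, ht, hat⟩ := hfrac y
      refine ⟨e a, e t, ?_, ?_⟩
      · show algebraMap A L (es (e t)) ≠ 0
        rwa [hese]
      · show y * algebraMap A L (es (e t)) = algebraMap A L (es (e a))
        rwa [hese, hese])
    hPh (fun i => e (g i)) (fun i => by show es (e (g i)) ∈ 𝔭; rw [hese]; exact hg i)
    (fun x hx => by
      obtain ⟨s, hs, hsx⟩ := hcov (es x) hx
      refine ⟨e s, fun h => hs (by have h' : es (e s) ∈ 𝔭 := h; rwa [hese] at h'), ?_⟩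
      have h1 : e (s * es x) ∈ (Ideal.span (Set.range g)).map e.toRingHom := Ideal.mem_map_of_mem _ hsx
      rw [Ideal.map_span, ← Set.range_comp] at h1
      simpa [es, Function.comp_def] using h1)
    (z := fun j : ULift.{u} (Fin c ⊕ Fin eb) => e (zA j.down))
  let E : Fin N → Derivation ℤ A A := fun i => Derivation.mk'
    (AddMonoidHom.mk' (fun x => es (Ds i (e x))) fun x y => by simp only [map_add]).toIntLinearMap
    fun x y => by
      show es (Ds i (e (x * y))) = x • es (Ds i (e y)) + y • es (Ds i (e x))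
      rw [map_mul, Derivation.leibniz, map_add, smul_eq_mul, smul_eq_mul, map_mul, map_mul, hese, hese]
      rfl
  let vec : A → Fin N → L := fun x i => algebraMap A L (E i x)
  have hgi : LinearIndependent L (fun j => vec (f j)) := by
    have h1 := hDg.comp (Fin.castAdd d) (Fin.castAdd_injective _ _)
    convert h1 using 1
    funext j i
    show algebraMap A L (es (Ds i (e (f j)))) = algebraMap A L (es (Ds i (e (g (Fin.castAdd d j)))))
    rw [hfg]
  let zz := Fin.append f (fun l => algebraMap k A (b l))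
  have hzi : LinearIndependent L (fun j => vec (zz j)) := by
    rw [Fintype.linearIndependent_iff]
    intro μ hμ
    have h0 := hDrel (fun j => μ (finSumFinEquiv j.down)) (by
      refine Eq.trans ?_ hμ
      refine Fintype.sum_equiv (Equiv.ulift.trans finSumFinEquiv) _ _ fun j => ?_
      obtain ⟨j | j⟩ := j <;> simp [zA, zz, vec] <;> rfl)
    have h2 : ∑ j : Fin c ⊕ Fin eb, μ (finSumFinEquiv j) •
        ((1 : L) ⊗ₜ[MvPowerSeries (Fin n) K] KaehlerDifferential.D ℤ (MvPowerSeries (Fin n) K) (e (zA j))) = 0 :=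
      (Fintype.sum_equiv Equiv.ulift _ _ fun j => rfl).symm.trans h0
    rw [Fintype.sum_sum_type] at h2
    have hμb := coeff_eq_zero_of_relation hinj b bd hbd (fun j => e (f j)) (fun j => by
        show algebraMap A B (es (e (f j))) = 0
        rw [hese, hf])
      (fun l => e (algebraMap k A (b l))) (fun l => by
        show algebraMap A B (es (e (algebraMap k A (b l)))) = _
        rw [hese, ← IsScalarTower.algebraMap_apply]) _ _ h2
    rw [Fin.sum_univ_add] at hμ
    have hμb' : ∀ l, μ (Fin.natAdd c l) = 0 := fun l => by simpa using hμb l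
    simp only [hμb', zero_smul, Finset.sum_const_zero, add_zero, zz, Fin.append_left] at hμ
    have hμf := Fintype.linearIndependent_iff.1 hgi _ hμ
    intro j
    exact Fin.addCases hμf hμb' j
  obtain ⟨σ, hσ⟩ := NagataPS.exists_minor (fun j => vec (zz j)) hzi
  exact ⟨fun i => E (σ i), fun hc => hσ (by
    have h1 := (hker _).2 hc
    rw [RingHom.map_det] at h1
    exact h1)⟩

/-- The Jacobian condition in characteristic `p`, for an abstract local ring of the quotient. -/
theorem exists_jacobian_aux (p : ℕ) [hp : Fact p.Prime] {k K A B : Type u} [Field k] [CharP k p]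
    [Module.Finite (frobenius k p).fieldRange k] [Field K] [CharP K p] [CommRing A] [Algebra k A]
    [CommRing B] [IsLocalRing B] [Algebra k B] [Algebra A B] [IsScalarTower k A B]
    {n : ℕ} (e : A ≃+* MvPowerSeries (Fin n) K)
    (q 𝔭 : Ideal A) [𝔭.IsPrime] (hq : q ≤ 𝔭)
    [IsRegularLocalRing (Localization.AtPrime 𝔭)]
    [IsRegularLocalRing (Localization.AtPrime 𝔭 ⧸ q.map (algebraMap A (Localization.AtPrime 𝔭)))]
    (hBq : ∀ x ∈ q, algebraMap A B x = 0)
    (hBmem : ∀ x : A, algebraMap A B x ∈ maximalIdeal B ↔ x ∈ 𝔭)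
    (hBfrac : ∀ y : B, ∃ a t : A, t ∉ 𝔭 ∧ y * algebraMap A B t = algebraMap A B a)
    [IsNoetherianRing B] (hFS : CAlgX.IsAdicFormallySmooth k B (maximalIdeal B)) :
    ∃ (m : ℕ) (D : Fin m → Derivation k A A) (f : Fin m → A), (∀ i, f i ∈ q) ∧
        q.map (algebraMap A (Localization.AtPrime 𝔭)) =
          Ideal.span (Set.range fun i => algebraMap A (Localization.AtPrime 𝔭) (f i)) ∧
        Matrix.det (Matrix.of fun i j => D i (f j)) ∉ 𝔭 := by
  classical
  let U := Localization.AtPrime 𝔭
  obtain ⟨c, f₀, hf₀, hf₀span⟩ := JacobianSmooth.exists_indep_gens (q.map (algebraMap A U))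
  obtain ⟨t, ht, htcard⟩ := Lib.Regular.Indep.exists_gens_extend f₀ hf₀
  have hclear : ∀ j, ∃ (a : A) (u : U), a ∈ q ∧ IsUnit u ∧ algebraMap A U a = u * f₀ j := by
    intro j
    have hj : (f₀ j : U) ∈ q.map (algebraMap A U) := hf₀span ▸ Ideal.subset_span ⟨j, rfl⟩
    obtain ⟨⟨⟨a, ha⟩, t'⟩, hat⟩ := (IsLocalization.mem_map_algebraMap_iff 𝔭.primeCompl U).1 hj
    exact ⟨a, algebraMap A U (t' : A), ha, IsLocalization.map_units U t', by rw [← hat, mul_comm]⟩
  choose f u hfq hu hfu using hclear
  have htm : ∀ y : t, ∃ (a : A) (w : U), a ∈ 𝔭 ∧ IsUnit w ∧ algebraMap A U a = w * y := by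
    intro y
    have hy' : (y : U) ∈ maximalIdeal U := ht ▸ Ideal.subset_span (by simp [y.2])
    rw [← Localization.AtPrime.map_eq_maximalIdeal] at hy'
    obtain ⟨⟨⟨z, hz⟩, t'⟩, hzt⟩ := (IsLocalization.mem_map_algebraMap_iff 𝔭.primeCompl U).1 hy'
    exact ⟨z, algebraMap A U (t' : A), hz, IsLocalization.map_units U t', by rw [← hzt, mul_comm]⟩
  choose a w ha hw haw using htm
  let g : Fin (c + t.card) → A := Fin.append f fun i => a (t.equivFin.symm i)
  have hg : ∀ i, g i ∈ 𝔭 := fun i => by
    refine Fin.addCases (fun j => ?_) (fun j => ?_) i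
    · simpa [g] using hq (hfq j)
    · simpa [g] using ha _
  have hfs : ∀ j, (f₀ j : U) ∈ Ideal.span (Set.range fun j => algebraMap A U (f j)) := fun j => by
    obtain ⟨w', hw'⟩ := (hu j).exists_left_inv
    rw [show (f₀ j : U) = w' * algebraMap A U (f j) by rw [hfu, ← mul_assoc, hw', one_mul]]
    exact Ideal.mul_mem_left _ _ (Ideal.subset_span ⟨j, rfl⟩)
  have hfspan : q.map (algebraMap A U) = Ideal.span (Set.range fun j => algebraMap A U (f j)) := by
    refine le_antisymm ?_ (Ideal.span_le.2 (Set.range_subset_iff.2 fun j => Ideal.mem_map_of_mem _ (hfq j)))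
    rw [hf₀span, Ideal.span_le, Set.range_subset_iff]
    exact hfs
  have hcov : ∀ x ∈ 𝔭, ∃ t, t ∉ 𝔭 ∧ t * x ∈ Ideal.span (Set.range g) := by
    refine (map_eq_span_iff 𝔭 𝔭 g hg).1 (le_antisymm ?_
      (Ideal.span_le.2 (Set.range_subset_iff.2 fun j => Ideal.mem_map_of_mem _ (hg j))))
    rw [Localization.AtPrime.map_eq_maximalIdeal, ← ht, Ideal.span_le]
    intro y hy
    rw [Finset.coe_union, Finset.coe_image, Finset.coe_univ, Set.image_univ] at hy
    rcases hy with ⟨i, rfl⟩ | hy
    · refine Ideal.span_mono ?_ (hfs i)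
      rintro _ ⟨j, rfl⟩
      exact ⟨Fin.castAdd _ j, by simp [g]; rfl⟩
    · obtain ⟨w', hw'⟩ := (hw ⟨y, hy⟩).exists_left_inv
      rw [SetLike.mem_coe, show y = w' * algebraMap A U (a ⟨y, hy⟩) by
        rw [haw, ← mul_assoc, hw', one_mul]]
      exact Ideal.mul_mem_left _ _ (Ideal.subset_span ⟨Fin.natAdd _ (t.equivFin ⟨y, hy⟩), by simp [g]; rfl⟩)
  have hdimU : ringKrullDim U = (c + t.card : ℕ) := by
    rw [← IsRegularLocalRing.spanFinrank_maximalIdeal (R := U), ← htcard]
  obtain ⟨eb, b, bd, hbd⟩ := exists_dbasis p (k := k)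
  have hker : ∀ x : A, algebraMap A (ResidueField B) x = 0 ↔ x ∈ 𝔭 := fun x => by
    rw [IsScalarTower.algebraMap_apply A B (ResidueField B), ← hBmem]
    exact residue_eq_zero_iff _
  obtain ⟨E, hE⟩ := exists_minor_core p (B := B) (L := ResidueField B) e 𝔭 hker
    (fun y => by
      obtain ⟨yb, rfl⟩ := residue_surjective y
      obtain ⟨a, t, ht, hat⟩ := hBfrac yb
      refine ⟨a, t, fun hc => ht ((hker t).1 hc), ?_⟩
      rw [IsScalarTower.algebraMap_apply A B (ResidueField B), IsScalarTower.algebraMap_apply A B (ResidueField B)]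
      exact (map_mul (residue B) _ _).symm.trans (congrArg _ hat))
    (Groth.Agent.S2471.result.1 hFS).2 hdimU g hg hcov f (fun j => by simp [g]) (fun j => hBq _ (hfq j)) b bd hbd
  obtain ⟨D, hD⟩ := exists_derivation 𝔭 f b bd hbd E hE
  exact ⟨c, D, f, hfq, hfspan, hD⟩

/-- The Jacobian condition in characteristic `p`. -/
theorem exists_jacobian_charP (p : ℕ) [hp : Fact p.Prime] {k K A : Type u} [Field k] [CharP k p]
    [Module.Finite (frobenius k p).fieldRange k] [Field K] [CharP K p] [CommRing A] [Algebra k A]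
    {n : ℕ} (e : A ≃+* MvPowerSeries (Fin n) K)
    (q 𝔭 : Ideal A) [𝔭.IsPrime] (hq : q ≤ 𝔭) [(𝔭.map (Ideal.Quotient.mk q)).IsPrime]
    (hFS : CAlgX.IsAdicFormallySmooth k (Localization.AtPrime (𝔭.map (Ideal.Quotient.mk q)))
      (maximalIdeal (Localization.AtPrime (𝔭.map (Ideal.Quotient.mk q))))) :
    ∃ (m : ℕ) (D : Fin m → Derivation k A A) (f : Fin m → A), (∀ i, f i ∈ q) ∧
        q.map (algebraMap A (Localization.AtPrime 𝔭)) =
          Ideal.span (Set.range fun i => algebraMap A (Localization.AtPrime 𝔭) (f i)) ∧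
        Matrix.det (Matrix.of fun i j => D i (f j)) ∉ 𝔭 := by
  classical
  haveI : IsRegularLocalRing (MvPowerSeries (Fin n) K) := H24.PowerSeries.isRegularLocalRing_fin K n
  haveI : IsRegularLocalRing A := IsRegularLocalRing.of_ringEquiv e.symm
  let U := Localization.AtPrime 𝔭
  haveI : IsRegularLocalRing U := Lib.Regular.Serre.isRegularLocalRing_localization 𝔭
  let 𝔭' := 𝔭.map (Ideal.Quotient.mk q)
  have hmk : ∀ a, Ideal.Quotient.mk q a ∈ 𝔭' ↔ a ∈ 𝔭 := fun a => by
    rw [← Ideal.mem_comap, Ideal.comap_map_of_surjective _ Ideal.Quotient.mk_surjective,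
      ← RingHom.ker_eq_comap_bot, Ideal.mk_ker, sup_eq_left.2 hq]
  haveI : IsNoetherianRing (Localization.AtPrime 𝔭') :=
    IsLocalization.isNoetherianRing 𝔭'.primeCompl _ inferInstance
  haveI hreg : IsRegularLocalRing (Localization.AtPrime 𝔭') := (Groth.Agent.S2471.result.1 hFS).1
  obtain ⟨eq⟩ := JacobianSmooth.exists_equiv_quotient (k := k) q 𝔭 hq
  haveI : IsRegularLocalRing (U ⧸ q.map (algebraMap A U)) :=
    IsRegularLocalRing.of_ringEquiv (R := Localization.AtPrime 𝔭') eq.toRingEquiv
  refine exists_jacobian_aux p (B := Localization.AtPrime 𝔭') e q 𝔭 hq (fun x hx => ?_) (fun x => ?_)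
    (fun y => ?_) hFS
  · rw [IsScalarTower.algebraMap_apply A (A ⧸ q), Ideal.Quotient.algebraMap_eq,
      Ideal.Quotient.eq_zero_iff_mem.2 hx, map_zero]
  · rw [IsScalarTower.algebraMap_apply A (A ⧸ q), Ideal.Quotient.algebraMap_eq,
      IsLocalization.AtPrime.to_map_mem_maximal_iff (Localization.AtPrime 𝔭') 𝔭', hmk]
  · obtain ⟨y₁, ⟨y₂, hy₂⟩, rfl⟩ := IsLocalization.exists_mk'_eq 𝔭'.primeCompl y
    obtain ⟨a₁, rfl⟩ := Ideal.Quotient.mk_surjective y₁
    obtain ⟨a₂, rfl⟩ := Ideal.Quotient.mk_surjective y₂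
    refine ⟨a₁, a₂, fun hc => hy₂ ((hmk a₂).2 hc), ?_⟩
    rw [IsScalarTower.algebraMap_apply A (A ⧸ q), IsScalarTower.algebraMap_apply A (A ⧸ q),
      Ideal.Quotient.algebraMap_eq]
    exact IsLocalization.mk'_spec _ _ _

end Groth.Agent.H19.EGA.NagataCrit
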