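import Groth.Agent.H19.EGA.NagataField
import Groth.Agent.H24.PowerSeries
import Groth.Agent.Lib.Cohen.PSDerivation
import Mathlib.RingTheory.MvPowerSeries.Derivative
import Mathlib.RingTheory.Filtration

/-!
# Derivations of power series rings killing restricted series
-/

set_option autoImplicit false
set_option linter.style.haveILetI false

universe u

open IsLocalRing
open MvPowerSeries (pderiv)
open scoped TensorProduct

namespace Groth.Agent.H19.EGA.NagataDeriv

open Groth.Agent.Lib.Cohen.PSDerivation (restricted finite_restricted)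

variable {p : ℕ} [hp : Fact p.Prime] {K : Type u} [Field K] [CharP K p] {n : ℕ}

local notation "PS" s => MvPowerSeries (Fin s) K

/-- A map of the coefficients. -/
noncomputable def coeffFun (δ : Derivation ℤ K K) : (PS n) →+ PS n :=
  AddMonoidHom.mk' (fun f m => δ (MvPowerSeries.coeff m f)) fun f g =>
    funext fun m => by simp only [map_add]; rfl

theorem coeff_coeffFun (δ : Derivation ℤ K K) (f : PS n) (m : Fin n →₀ ℕ) :
    MvPowerSeries.coeff m (coeffFun δ f) = δ (MvPowerSeries.coeff m f) := rfl

/-- A derivation of the coefficients acts on power series. -/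
noncomputable def coeffDeriv (δ : Derivation ℤ K K) : Derivation ℤ (PS n) (PS n) :=
  Derivation.mk' (coeffFun δ).toIntLinearMap
    fun f g => by
      classical
      ext m
      change MvPowerSeries.coeff m (coeffFun δ (f * g)) = MvPowerSeries.coeff m
        (f * coeffFun δ g + g * coeffFun δ f)
      rw [coeff_coeffFun, map_add, mul_comm g, MvPowerSeries.coeff_mul, MvPowerSeries.coeff_mul,
        MvPowerSeries.coeff_mul, map_sum, ← Finset.sum_add_distrib]
      refine Finset.sum_congr rfl fun x _ => ?_
      rw [Derivation.leibniz, smul_eq_mul, smul_eq_mul, coeff_coeffFun, coeff_coeffFun]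
      ring

@[simp] theorem coeff_coeffDeriv (δ : Derivation ℤ K K) (f : PS n) (m : Fin n →₀ ℕ) :
    MvPowerSeries.coeff m (coeffDeriv δ f) = δ (MvPowerSeries.coeff m f) := rfl

theorem coeffDeriv_C (δ : Derivation ℤ K K) (c : K) :
    coeffDeriv δ (MvPowerSeries.C c : PS n) = MvPowerSeries.C (δ c) := by
  classical
  ext m
  rw [coeff_coeffDeriv, MvPowerSeries.coeff_C, MvPowerSeries.coeff_C]
  split <;> simp

theorem coeffDeriv_X (δ : Derivation ℤ K K) (j : Fin n) :
    coeffDeriv δ (MvPowerSeries.X j : PS n) = 0 := by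
  classical
  ext m
  rw [coeff_coeffDeriv, MvPowerSeries.coeff_X, map_zero]
  split <;> simp

theorem coeffDeriv_restricted (δ : Derivation ℤ K K) (F : Subfield K) (hδ : ∀ c ∈ F, δ c = 0)
    {a : PS n} (ha : a ∈ restricted F p n) : coeffDeriv δ a = 0 := by
  ext m
  rw [coeff_coeffDeriv, map_zero]
  exact hδ _ (ha m).1

theorem pderiv_restricted (F : Subfield K) {a : PS n} (ha : a ∈ restricted F p n) (j : Fin n) :
    pderiv K j a = 0 := by
  classical
  ext m
  rw [MvPowerSeries.coeff_pderiv, map_zero]
  by_cases h : ∀ i, p ∣ (m + Finsupp.single j 1 : Fin n →₀ ℕ) i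
  · have hj := h j
    rw [Finsupp.add_apply, Finsupp.single_eq_same] at hj
    have h0 : ((m j + 1 : ℕ) : K) = 0 := (CharP.cast_eq_zero_iff K p _).2 hj
    push_cast at h0
    rw [h0, mul_zero]
  · rw [(ha _).2 h, zero_mul]

/-- A derivation with values in a finite lattice, vanishing on constants and variables, vanishes. -/
theorem kills_of_lattice {F : Type u} [Field F] (ι : MvPowerSeries (Fin n) F →+* PS n)
    (hι : ∀ j, ι (MvPowerSeries.X j) ∈ maximalIdeal (PS n))
    {W : Type u} [AddCommGroup W] [Module (PS n) W] (E : Derivation ℤ (PS n) W)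
    (N : Submodule (PS n) W) (hN : N.FG) (hEN : ∀ a, E a ∈ N)
    (hC : ∀ c, E (ι (MvPowerSeries.C c)) = 0) (hX : ∀ j, E (ι (MvPowerSeries.X j)) = 0) :
    ∀ a, E (ι a) = 0 := by
  let m := maximalIdeal (PS n)
  haveI : Module.Finite (PS n) N := Module.Finite.iff_fg.2 hN
  let E' : MvPowerSeries (Fin n) F → N := fun a => ⟨E (ι a), hEN _⟩
  have hmem : ∀ (k : ℕ) a, E' a ∈ (m ^ k • ⊤ : Submodule (PS n) N) := by
    intro k
    induction k with
    | zero => simp
    | succ k ih =>
      intro a
      have hf : a - MvPowerSeries.C (MvPowerSeries.constantCoeff a) ∈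
          maximalIdeal (MvPowerSeries (Fin n) F) := by
        rw [mem_maximalIdeal, mem_nonunits_iff, MvPowerSeries.isUnit_iff_constantCoeff]
        simp
      rw [H24.PowerSeries.maximalIdeal_eq F (Fin n)] at hf
      obtain ⟨g, hg⟩ := Ideal.mem_span_range_iff_exists_fun.1 hf
      have e : E' a = ∑ i, ι (MvPowerSeries.X i) • E' (g i) := by
        apply Subtype.ext
        rw [Submodule.coe_sum]
        have h1 : E (ι (∑ i, g i * MvPowerSeries.X i)) = E (ι a) := by
          rw [hg, map_sub, map_sub, hC, sub_zero]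
        change E (ι a) = _
        rw [← h1, map_sum, map_sum]
        exact Finset.sum_congr rfl fun i _ => by
          rw [map_mul, Derivation.leibniz, hX, smul_zero, zero_add]
          rfl
      rw [e, pow_succ', Submodule.mul_smul]
      exact Submodule.sum_mem _ fun i _ => Submodule.smul_mem_smul (hι i) (ih _)
  intro a
  have hbot : (⨅ k : ℕ, m ^ k • ⊤ : Submodule (PS n) N) = ⊥ :=
    Ideal.iInf_pow_smul_eq_bot_of_isLocalRing (M := N) m (maximalIdeal.isMaximal _).ne_top
  have h0 : E' a = 0 := by
    rw [← Submodule.mem_bot (R := PS n), ← hbot, Submodule.mem_iInf]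
    exact fun k => hmem k a
  simpa [E'] using congrArg (fun z : N => (z : W)) h0

/-- Restricted series are images of series over the subfield. -/
theorem exists_param (F : Subfield K) :
    ∃ ι : MvPowerSeries (Fin n) F →+* PS n,
      (∀ j, ι (MvPowerSeries.X j) = MvPowerSeries.X j ^ p) ∧
      (∀ c : F, ι (MvPowerSeries.C c) = MvPowerSeries.C (c : K)) ∧
      ∀ a ∈ restricted F p n, ∃ b, ι b = a := by
  have hp0 : p ≠ 0 := hp.out.ne_zero
  refine ⟨(MvPowerSeries.expand p hp0).toRingHom.comp (MvPowerSeries.map F.subtype), fun j => ?_,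
    fun c => ?_, fun a ha => ?_⟩
  · change MvPowerSeries.expand p hp0 (MvPowerSeries.map F.subtype (MvPowerSeries.X j)) = _
    rw [MvPowerSeries.map_X, MvPowerSeries.expand_X]
  · change MvPowerSeries.expand p hp0 (MvPowerSeries.map F.subtype (MvPowerSeries.C c)) = _
    rw [MvPowerSeries.map_C, MvPowerSeries.expand_C]
    rfl
  · let b : MvPowerSeries (Fin n) F := fun k => ⟨MvPowerSeries.coeff (p • k) a, (ha _).1⟩
    refine ⟨b, MvPowerSeries.ext fun m => ?_⟩
    change MvPowerSeries.coeff m (MvPowerSeries.expand p hp0 (MvPowerSeries.map F.subtype b)) = _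
    by_cases hm : ∀ i, p ∣ m i
    · obtain ⟨k, rfl⟩ : ∃ k, m = p • k :=
        ⟨m.mapRange (· / p) (Nat.zero_div p), Finsupp.ext fun i => by simp [Nat.mul_div_cancel' (hm i)]⟩
      rw [MvPowerSeries.coeff_expand_smul, MvPowerSeries.coeff_map]
      rfl
    · rw [(ha m).2 hm]
      push Not at hm
      obtain ⟨i, hi⟩ := hm
      exact MvPowerSeries.coeff_expand_of_not_dvd p hp0 _ hi

/-- In a module over a field of characteristic `p`, derivations kill `p`-th powers. -/
theorem derivation_pow_eq_zero {A : Type u} [CommRing A] [Algebra ℤ A] [CharP A p] {W : Type u} [AddCommGroup W]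
    [Module A W] (E : Derivation ℤ A W) (x : A) : E (x ^ p) = 0 := by
  rw [Derivation.leibniz_pow, ← Nat.cast_smul_eq_nsmul A, CharP.cast_eq_zero, zero_smul]

instance charP_powerSeries : CharP (PS n) p :=
  charP_of_injective_ringHom (f := (MvPowerSeries.C : K →+* PS n)) MvPowerSeries.C_injective p

/-- With a lattice, killing the constants of `F` suffices to kill the restricted series. -/
theorem kills_restricted (F : Subfield K) {W : Type u} [AddCommGroup W] [Module (PS n) W]
    (E : Derivation ℤ (PS n) W) (N : Submodule (PS n) W) (hN : N.FG) (hEN : ∀ a, E a ∈ N)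
    (hC : ∀ c ∈ F, E (MvPowerSeries.C c) = 0) : ∀ a ∈ restricted F p n, E a = 0 := by
  obtain ⟨ι, hX, hC', hsurj⟩ := exists_param (p := p) (n := n) F
  intro a ha
  obtain ⟨b, rfl⟩ := hsurj a ha
  refine kills_of_lattice ι (fun j => ?_) E N hN hEN (fun c => by rw [hC']; exact hC _ c.2)
    (fun j => by rw [hX]; exact derivation_pow_eq_zero E _) b
  rw [hX]
  refine Ideal.pow_mem_of_mem _ ?_ p hp.out.pos
  exact H24.PowerSeries.X_mem K j

/-- A derivation killing restricted series has values in a finite lattice. -/
theorem exists_lattice (F : Subfield K) [Module.Finite F K] {W : Type u} [AddCommGroup W]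
    [Module (PS n) W] (E : Derivation ℤ (PS n) W) (hE : ∀ a ∈ restricted F p n, E a = 0) :
    ∃ N : Submodule (PS n) W, N.FG ∧ ∀ a, E a ∈ N := by
  classical
  haveI : Module.Finite (restricted F p n) (PS n) := finite_restricted F
  obtain ⟨gs, hgs⟩ := Module.Finite.fg_top (R := restricted F p n) (M := PS n)
  refine ⟨Submodule.span (PS n) (E '' (gs : Set (PS n))),
    Submodule.fg_span (gs.finite_toSet.image _), fun a => ?_⟩
  have ha : a ∈ Submodule.span (restricted F p n) (gs : Set (PS n)) := hgs ▸ Submodule.mem_top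
  induction ha using Submodule.span_induction with
  | mem x hx => exact Submodule.subset_span ⟨x, hx, rfl⟩
  | zero => rw [map_zero]; exact Submodule.zero_mem _
  | add x y _ _ hx hy => rw [map_add]; exact Submodule.add_mem _ hx hy
  | smul r x _ hx =>
    rw [Subring.smul_def, smul_eq_mul, E.leibniz, hE _ r.2, smul_zero, add_zero]
    exact Submodule.smul_mem _ _ hx

/-- Coordinates of derivations killing the restricted series. -/
theorem exists_coordinates (F : Subfield K) [Module.Finite F K] :
    ∃ (e : ℕ) (β : Fin e → K) (δ : Fin e → Derivation ℤ K K),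
      (∀ l, ∀ c ∈ F, δ l c = 0) ∧ (∀ l l', δ l (β l') = if l = l' then 1 else 0) ∧
      ∀ (n : ℕ) {W : Type u} [AddCommGroup W] [Module (PS n) W] (E : Derivation ℤ (PS n) W),
        (∀ a ∈ restricted F p n, E a = 0) → ∀ x, E x =
          ∑ j, pderiv K j x • E (MvPowerSeries.X j) +
            ∑ l, coeffDeriv (δ l) x • E (MvPowerSeries.C (β l)) := by
  classical
  haveI : Module.Finite K (Ω[K⁄F]) := by
    obtain ⟨t, ht⟩ := Module.Finite.fg_top (R := F) (M := K)
    refine ⟨⟨t.image (KaehlerDifferential.D F K), top_le_iff.1 ?_⟩⟩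
    rw [← KaehlerDifferential.span_range_derivation, Submodule.span_le]
    rintro _ ⟨x, rfl⟩
    have hx : x ∈ Submodule.span F (t : Set K) := ht ▸ Submodule.mem_top
    induction hx using Submodule.span_induction with
    | mem y hy => exact Submodule.subset_span (by simpa using ⟨y, hy, rfl⟩)
    | zero => rw [map_zero]; exact Submodule.zero_mem _
    | add y z _ _ hy hz => rw [map_add]; exact Submodule.add_mem _ hy hz
    | smul c y _ hy =>
      rw [Derivation.map_smul]
      exact Submodule.smul_of_tower_mem _ c hy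
  obtain ⟨S, hS, hspan, hli⟩ := exists_linearIndependent K (Set.range (KaehlerDifferential.D F K))
  have hSfin : S.Finite := hli.setFinite
  let en := hSfin.toFinset.equivFin.symm
  have hmemS : ∀ l, ((en l : hSfin.toFinset) : Ω[K⁄F]) ∈ S := fun l => hSfin.mem_toFinset.1 (en l).2
  choose β hβ using fun l => hS (hmemS l)
  have hli' : LinearIndependent K fun l => KaehlerDifferential.D F K (β l) := by
    rw [funext hβ]
    exact hli.comp (fun l => (⟨_, hmemS l⟩ : S)) fun a b h =>
      en.injective (Subtype.ext (congrArg (fun z : S => (z : Ω[K⁄F])) h))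
  have htop : ⊤ ≤ Submodule.span K (Set.range fun l => KaehlerDifferential.D F K (β l)) := by
    rw [← KaehlerDifferential.span_range_derivation (R := F) (S := K), ← hspan]
    refine Submodule.span_mono fun x hx => ?_
    exact ⟨en.symm ⟨x, hSfin.mem_toFinset.2 hx⟩, by simp [hβ]⟩
  let b := Module.Basis.mk hli' htop
  let δ : Fin _ → Derivation ℤ K K := fun l =>
    Derivation.mk' ((b.coord l).compDer (KaehlerDifferential.D F K)).toLinearMap.toAddMonoidHom.toIntLinearMap
      fun x y => ((b.coord l).compDer (KaehlerDifferential.D F K)).leibniz x y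
  have hδF : ∀ l, ∀ c ∈ F, δ l c = 0 := fun l c hc =>
    ((b.coord l).compDer (KaehlerDifferential.D F K)).map_algebraMap (⟨c, hc⟩ : F)
  have hδβ : ∀ l l', δ l (β l') = if l = l' then 1 else 0 := fun l l' => by
    change b.coord l (KaehlerDifferential.D F K (β l')) = _
    rw [show KaehlerDifferential.D F K (β l') = b l' from (Module.Basis.mk_apply hli' htop l').symm]
    simp [Finsupp.single_apply, eq_comm]
  refine ⟨_, β, δ, hδF, hδβ, ?_⟩
  intro n W _ _ E hE
  let Eadd : (PS n) →+ W :=
    E.toLinearMap.toAddMonoidHom -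
      ((∑ j, (AddMonoidHom.mk' (fun x => pderiv K j x • E (MvPowerSeries.X j))
          fun a c => by simp only [map_add, add_smul])) +
        ∑ l, (AddMonoidHom.mk' (fun x => coeffDeriv (δ l) x • E (MvPowerSeries.C (β l)))
          fun a c => by simp only [map_add, add_smul]))
  have hEadd : ∀ x, Eadd x = E x - (∑ j, pderiv K j x • E (MvPowerSeries.X j) +
      ∑ l, coeffDeriv (δ l) x • E (MvPowerSeries.C (β l))) := fun x => by
    simp only [Eadd, AddMonoidHom.sub_apply, AddMonoidHom.add_apply, AddMonoidHom.finsetSum_apply,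
      AddMonoidHom.mk'_apply]
    rfl
  let E' : Derivation ℤ (PS n) W := Derivation.mk' Eadd.toIntLinearMap fun a c => by
    change Eadd (a * c) = a • Eadd c + c • Eadd a
    simp only [hEadd, Derivation.leibniz, smul_eq_mul, add_smul, mul_smul, Finset.sum_add_distrib,
      smul_add, smul_sub, Finset.smul_sum]
    abel
  have hE'apply : ∀ x, E' x = E x - (∑ j, pderiv K j x • E (MvPowerSeries.X j) +
      ∑ l, coeffDeriv (δ l) x • E (MvPowerSeries.C (β l))) := hEadd
  have hE' : ∀ a ∈ restricted F p n, E' a = 0 := fun a ha => by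
    simp [hE'apply, hE a ha, pderiv_restricted F ha, coeffDeriv_restricted _ F (hδF _) ha]
  obtain ⟨N, hN, hEN⟩ := exists_lattice F E' hE'
  have hXz : ∀ j, E' (MvPowerSeries.X j) = 0 := fun j => by
    simp [hE'apply, MvPowerSeries.pderiv_X, Pi.single_apply, coeffDeriv_X, ite_smul]
  -- on constants
  have hCz : ∀ c, E' (MvPowerSeries.C c) = 0 := by
    letI : Module K W := Module.compHom W (MvPowerSeries.C : K →+* PS n)
    let EC : Derivation ℤ K W := Derivation.mk'
      (AddMonoidHom.mk' (fun c => E' (MvPowerSeries.C c)) fun a c => by simp only [map_add]).toIntLinearMap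
      fun a c => by
        show E' (MvPowerSeries.C (a * c)) = (MvPowerSeries.C a : PS n) • E' (MvPowerSeries.C c) +
          (MvPowerSeries.C c : PS n) • E' (MvPowerSeries.C a)
        rw [map_mul, Derivation.leibniz]
    have hres : ∀ c ∈ F, (MvPowerSeries.C c : PS n) ∈ restricted F p n := fun c hc m => by
      rw [MvPowerSeries.coeff_C]
      refine ⟨by split <;> [exact hc; exact F.zero_mem], fun hm => if_neg fun h => hm ?_⟩
      subst h; simp
    obtain ⟨EF, hEF⟩ := NagataField.exists_subfield_derivation F EC fun c hc => hE' _ (hres c hc)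
    have h0 : EF.liftKaehlerDifferential = 0 := by
      refine b.ext fun l => ?_
      rw [Module.Basis.mk_apply, Derivation.liftKaehlerDifferential_comp_D, hEF, LinearMap.zero_apply]
      change E' (MvPowerSeries.C (β l)) = 0
      have hp0 : ∀ j, pderiv K j (MvPowerSeries.C (β l) : PS n) = 0 := fun j => MvPowerSeries.pderiv_C
      simp [hE'apply, hp0, coeffDeriv_C, hδβ, ite_smul]
    intro c
    have := congrArg (fun φ : Ω[K⁄F] →ₗ[K] W => φ (KaehlerDifferential.D F K c)) h0
    simp only [Derivation.liftKaehlerDifferential_comp_D, hEF, LinearMap.zero_apply] at this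
    exact this
  intro x
  have := kills_of_lattice (RingHom.id (PS n)) (fun j => H24.PowerSeries.X_mem K j) E' N hN hEN hCz hXz x
  rw [RingHom.id_apply, hE'apply, sub_eq_zero] at this
  exact this

end Groth.Agent.H19.EGA.NagataDeriv
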