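import Groth.Agent.Lib.PBasis.Eventual
import Groth.Agent.Lib.PBasis.Cartier
import Groth.Prelude.Def_EGA41

/-!
# Derivations, cofinite subfields and differentials of finite field extensions
-/

set_option autoImplicit false
set_option linter.style.haveILetI false

universe u

open scoped TensorProduct

namespace Groth.Agent.H19.EGA.NagataField

open Groth.Agent.Lib.PBasis

/-- The subfield on which a derivation vanishes. -/
def zeroSubfield {M : Type u} [Field M] {W : Type u} [AddCommGroup W] [Module M W]
    (D : Derivation ℤ M W) : Subfield M where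
  carrier := {x | D x = 0}
  one_mem' := D.map_one_eq_zero
  mul_mem' {a b} ha hb := by
    simp only [Set.mem_ofPred_eq] at *
    rw [D.leibniz, ha, hb, smul_zero, smul_zero, add_zero]
  zero_mem' := map_zero D
  add_mem' {a b} ha hb := by
    simp only [Set.mem_ofPred_eq] at *
    rw [map_add, ha, hb, add_zero]
  neg_mem' {a} ha := by
    simp only [Set.mem_ofPred_eq] at *
    rw [map_neg, ha, neg_zero]
  inv_mem' a ha := by
    simp only [Set.mem_ofPred_eq] at *
    rcases eq_or_ne a 0 with rfl | h0
    · rw [inv_zero, map_zero]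
    have h := D.leibniz a a⁻¹
    rw [mul_inv_cancel₀ h0, D.map_one_eq_zero, ha, smul_zero, add_zero, eq_comm, smul_eq_zero] at h
    exact h.resolve_left h0

/-- A derivation vanishing on a subfield is linear over it. -/
theorem exists_subfield_derivation {M : Type u} [Field M] {W : Type u} [AddCommGroup W] [Module M W]
    (P : Subfield M) (D : Derivation ℤ M W)
    (h : ∀ x ∈ P, D x = 0) : ∃ D' : Derivation P M W, ∀ x, D' x = D x := by
  refine ⟨Derivation.mk' ⟨⟨D, map_add D⟩, fun c x => ?_⟩ fun a b => D.leibniz a b, fun x => rfl⟩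
  rw [RingHom.id_apply]
  show D (c • x) = _
  rw [Subfield.smul_def, smul_eq_mul, D.leibniz, h _ c.2, smul_zero, add_zero]
  rfl

/-- A derivation killing the kernel of a map to a field whose image generates descends to the field. -/
theorem exists_descend {A M : Type u} [CommRing A] [Algebra ℤ A] [Field M] [Algebra A M]
    (hfrac : ∀ x : M, ∃ a s : A, algebraMap A M s ≠ 0 ∧ x * algebraMap A M s = algebraMap A M a)
    {W : Type u} [AddCommGroup W] [Module M W] [Module A W] [IsScalarTower A M W]
    (D : Derivation ℤ A W) (hker : ∀ a, algebraMap A M a = 0 → D a = 0) :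
    ∃ D' : Derivation ℤ M W, ∀ a, D' (algebraMap A M a) = D a := by
  have hsm : ∀ (a : A) (w : W), a • w = algebraMap A M a • w := fun a w => (algebraMap_smul M a w).symm
  choose num den hden heq using hfrac
  let F : M → W := fun x => (algebraMap A M (den x))⁻¹ • (D (num x) - x • D (den x))
  have key : ∀ (x : M) (a s : A), algebraMap A M s ≠ 0 → x * algebraMap A M s = algebraMap A M a →
      F x = (algebraMap A M s)⁻¹ • (D a - x • D s) := by
    intro x a s hs hx
    have h0 := hker (num x * s - a * den x) (by
      rw [map_sub, map_mul, map_mul, ← heq, ← hx]; ring)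
    rw [map_sub, D.leibniz, D.leibniz, sub_eq_zero, hsm, hsm, hsm, hsm, ← heq, ← hx] at h0
    have h1 : algebraMap A M s • (D (num x) - x • D (den x)) =
        algebraMap A M (den x) • (D a - x • D s) := by
      rw [smul_sub, smul_sub, smul_smul, smul_smul, sub_eq_sub_iff_add_eq_add]
      linear_combination (norm := module) h0
    show (algebraMap A M (den x))⁻¹ • _ = _
    apply smul_right_injective W (mul_ne_zero hs (hden x))
    show (_ * _) • _ = (_ * _) • _
    rw [mul_smul, mul_smul, smul_inv_smul₀ (hden x), h1,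
      smul_comm (algebraMap A M s) (algebraMap A M (den x)), smul_inv_smul₀ hs]
  let Fadd : M →+ W := AddMonoidHom.mk' F fun x y => by
    rw [key (x + y) (num x * den y + num y * den x) (den x * den y)
      (by rw [map_mul]; exact mul_ne_zero (hden x) (hden y))
      (by rw [map_add, map_mul, map_mul, map_mul, ← heq, ← heq]; ring)]
    simp only [F, map_add, D.leibniz, hsm, map_mul, ← heq]
    match_scalars <;> field_simp [hden x, hden y] <;> ring
  refine ⟨Derivation.mk' Fadd.toIntLinearMap fun x y => ?_, fun a => ?_⟩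
  · show F (x * y) = x • F y + y • F x
    rw [key (x * y) (num x * num y) (den x * den y)
      (by rw [map_mul]; exact mul_ne_zero (hden x) (hden y))
      (by rw [map_mul, map_mul, ← heq, ← heq]; ring)]
    simp only [F, D.leibniz, hsm, map_mul, ← heq]
    match_scalars <;> field_simp [hden x, hden y] <;> ring
  · show F _ = _
    rw [key (algebraMap A M a) a 1 (by simp) (by simp)]
    simp

variable {p : ℕ} [Fact p.Prime] {M : Type u} [Field M] [CharP M p]

/-- Membership in the intersection gives eventual injectivity on finite spans of differentials. -/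
theorem eventually_inj {ι : Type*} [Preorder ι] [IsDirected ι (· ≤ ·)] [Nonempty ι]
    (P : ι → Type u) [∀ i, Field (P i)] [∀ i, Algebra (P i) M]
    (hanti : ∀ i j, i ≤ j → ∀ y ∈ EGA41.pPowerSubalgebra p (P j) M, y ∈ EGA41.pPowerSubalgebra p (P i) M)
    (hint : ∀ y, (∀ i, y ∈ EGA41.pPowerSubalgebra p (P i) M) → ∃ z, z ^ p = y)
    (s : Finset M) :
    ∃ i₀, ∀ i, i₀ ≤ i → ∀ w ∈ Submodule.span M (KaehlerDifferential.D ℤ M '' (s : Set M)),
      KaehlerDifferential.map ℤ (P i) M M w = 0 → w = 0 := by
  classical
  obtain ⟨b, hb, hspan, hli⟩ := exists_linearIndependent M (KaehlerDifferential.D ℤ M '' (s : Set M))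
  have hbfin : b.Finite := (s.finite_toSet.image _).subset hb
  haveI : Finite b := hbfin.to_subtype
  choose c hcs hc using fun x : b => hb x.2
  -- independence over the prime field
  obtain ⟨D', hD'⟩ := exists_subfield_derivation (⊥ : Subfield M) (KaehlerDifferential.D ℤ M) fun x hx =>
    (bot_le : (⊥ : Subfield M) ≤ zeroSubfield _) hx
  have hli' : LinearIndependent M fun x : b => KaehlerDifferential.D (⊥ : Subfield M) M (c x) := by
    refine LinearIndependent.of_comp D'.liftKaehlerDifferential ?_
    convert hli using 1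
    exact funext fun x => ((Derivation.liftKaehlerDifferential_comp_D D' (c x)).trans (hD' _)).trans (hc x)
  obtain ⟨i₀, hi₀⟩ := Eventual.eventually_linearIndependent_D (P₀ := (⊥ : Subfield M)) P hanti
    (fun y hy => by
      obtain ⟨z, rfl⟩ := hint y hy
      exact Algebra.subset_adjoin ⟨z, rfl⟩) c hli'
  refine ⟨i₀, fun i hi w hw hw0 => ?_⟩
  rw [← hspan, show b = Set.range (Subtype.val : b → Ω[M⁄ℤ]) from Subtype.range_coe.symm] at hw
  haveI := Fintype.ofFinite b
  obtain ⟨a, rfl⟩ := (Submodule.mem_span_range_iff_exists_fun M).1 hw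
  rw [map_sum] at hw0
  have h0 : ∀ x, a x = 0 := Fintype.linearIndependent_iff.1 (hi₀ i hi) a (by
    rw [← hw0]
    refine Finset.sum_congr rfl fun x _ => ?_
    rw [map_smul, ← hc x, KaehlerDifferential.map_D]
    rfl)
  simp [h0]

/-- Finite extensions do not increase the number of differentials over small enough subfields. -/
theorem eventually_finrank_le {M' : Type u} [Field M'] [Algebra M M'] [Module.Finite M M']
    {ι : Type*} [Preorder ι] [IsDirected ι (· ≤ ·)] [Nonempty ι]
    (P : ι → Type u) [∀ i, Field (P i)] [∀ i, Algebra (P i) M] [∀ i, Algebra (P i) M']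
    [∀ i, IsScalarTower (P i) M M'] [∀ i, Module.Finite M (Ω[M⁄P i])]
    (hanti : ∀ i j, i ≤ j → ∀ y ∈ EGA41.pPowerSubalgebra p (P j) M, y ∈ EGA41.pPowerSubalgebra p (P i) M)
    (hint : ∀ y, (∀ i, y ∈ EGA41.pPowerSubalgebra p (P i) M) → ∃ z, z ^ p = y) :
    ∃ i₀, ∀ i, i₀ ≤ i → Module.Finite M' (Ω[M'⁄P i]) ∧
      Module.finrank M' (Ω[M'⁄P i]) ≤ Module.finrank M (Ω[M⁄P i]) := by
  classical
  obtain ⟨hΥfin, hΩfin, hidx⟩ :=
    Cartier.hasIndex_iff.1 (Cartier.hasIndex_trdeg (K := M) (L := M'))
  have htr : Cardinal.toNat (Algebra.trdeg M M') = 0 := by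
    rw [trdeg_eq_zero, map_zero]
  -- the finitely many differentials occurring in the imperfection module
  obtain ⟨T, hT⟩ := (Module.Finite.iff_fg (N := EGA41.imperfection ℤ M M')).1 hΥfin
  have hexp : ∀ w : M' ⊗[M] Ω[M⁄ℤ], ∃ s : Finset M,
      w ∈ Submodule.span M' ((fun m => (1 : M') ⊗ₜ[M] KaehlerDifferential.D ℤ M m) '' (s : Set M)) := by
    intro w
    induction w using TensorProduct.induction_on with
    | zero => exact ⟨∅, Submodule.zero_mem _⟩
    | add x y hx hy =>
      obtain ⟨s, hs⟩ := hx
      obtain ⟨t, ht⟩ := hy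
      refine ⟨s ∪ t, Submodule.add_mem _ ?_ ?_⟩
      · exact Submodule.span_mono (Set.image_mono (by simp)) hs
      · exact Submodule.span_mono (Set.image_mono (by simp)) ht
    | tmul m w =>
      have hw : w ∈ Submodule.span M (Set.range (KaehlerDifferential.D ℤ M)) := by
        rw [KaehlerDifferential.span_range_derivation]; trivial
      obtain ⟨t, ht, hwt⟩ := Submodule.mem_span_finite_of_mem_span hw
      choose g hg using fun x : t => ht x.2
      refine ⟨Finset.univ.image g, ?_⟩
      rw [show m ⊗ₜ[M] w = m • ((1 : M') ⊗ₜ[M] w) by rw [TensorProduct.smul_tmul', smul_eq_mul, mul_one]]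
      refine Submodule.smul_mem _ _ ?_
      have hmem : w ∈ Submodule.comap (TensorProduct.mk M M' (Ω[M⁄ℤ]) 1)
          ((Submodule.span M' ((fun m => (1 : M') ⊗ₜ[M] KaehlerDifferential.D ℤ M m) ''
            ((Finset.univ.image g : Finset M) : Set M))).restrictScalars M) := by
        refine (Submodule.span_le.2 fun x hx => ?_) hwt
        exact Submodule.subset_span ⟨g ⟨x, hx⟩, by simp, by simp only [hg, TensorProduct.mk_apply]⟩
      exact hmem
  choose sf hsf using hexp
  let s : Finset M := T.biUnion sf
  obtain ⟨i₀, hi₀⟩ := eventually_inj P hanti hint s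
  refine ⟨i₀, fun i hi => ?_⟩
  let V : Submodule M (Ω[M⁄ℤ]) := Submodule.span M (KaehlerDifferential.D ℤ M '' (s : Set M))
  let f : Ω[M⁄ℤ] →ₗ[M] Ω[M⁄P i] := KaehlerDifferential.map ℤ (P i) M M
  have hVinj : Function.Injective (f.comp V.subtype) := by
    rw [injective_iff_map_eq_zero]
    exact fun w hw => Subtype.ext (hi₀ i hi w w.2 hw)
  have hVinj' := Module.Flat.lTensor_preserves_injective_linearMap (M := M') (f.comp V.subtype) hVinj
  have hΥV : EGA41.imperfection ℤ M M' ≤ LinearMap.range (V.subtype.baseChange M') := by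
    rw [← hT, Submodule.span_le]
    intro x hx
    refine (Submodule.span_le.2 ?_) (hsf x)
    rintro _ ⟨m, hm, rfl⟩
    exact ⟨1 ⊗ₜ ⟨_, Submodule.subset_span ⟨m, Finset.mem_biUnion.2 ⟨x, hx, hm⟩, rfl⟩⟩, by simp⟩
  let ψ : EGA41.imperfection ℤ M M' →ₗ[M'] M' ⊗[M] Ω[M⁄P i] :=
    (f.baseChange M').comp (EGA41.imperfection ℤ M M').subtype
  have hψinj : Function.Injective ψ := by
    rw [injective_iff_map_eq_zero]
    rintro ⟨x, hx⟩ h0
    obtain ⟨y, rfl⟩ := hΥV hx
    refine Subtype.ext ?_
    have : y = 0 := by
      refine hVinj' ?_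
      rw [map_zero, LinearMap.lTensor_comp, LinearMap.comp_apply]
      exact h0
    simp [this]
  have hψker : LinearMap.range ψ ≤ LinearMap.ker (KaehlerDifferential.mapBaseChange (P i) M M') := by
    have hcomm : (KaehlerDifferential.mapBaseChange (P i) M M').comp (f.baseChange M') =
        (KaehlerDifferential.map ℤ (P i) M' M').comp (KaehlerDifferential.mapBaseChange ℤ M M') := by
      refine LinearMap.ext fun z => ?_
      induction z using TensorProduct.induction_on with
      | zero => simp only [map_zero]
      | add a b ha hb => simp only [map_add, ha, hb]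
      | tmul m w =>
        have hw : w ∈ Submodule.span M (Set.range (KaehlerDifferential.D ℤ M)) := by
          rw [KaehlerDifferential.span_range_derivation]; trivial
        simp only [LinearMap.comp_apply, LinearMap.baseChange_tmul,
          KaehlerDifferential.mapBaseChange_tmul, map_smul]
        congr 1
        induction hw using Submodule.span_induction with
        | mem x hx => obtain ⟨a, rfl⟩ := hx; simp [f]
        | zero => simp
        | add a b _ _ ha hb => simp only [map_add, ha, hb]
        | smul r a _ ha => simp only [map_smul, ha, ← algebraMap_smul M' r]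
    rintro _ ⟨⟨x, hx⟩, rfl⟩
    rw [LinearMap.mem_ker]
    exact (LinearMap.congr_fun hcomm x).trans (by rw [LinearMap.comp_apply, LinearMap.mem_ker.1 hx, map_zero])
  haveI := hΩfin
  haveI : Module.Finite M' (LinearMap.range (KaehlerDifferential.mapBaseChange (P i) M M')) :=
    Module.Finite.range _
  have hker := KaehlerDifferential.range_mapBaseChange (P i) M M'
  haveI hfin : Module.Finite M' (Ω[M'⁄P i]) := by
    refine ⟨?_⟩
    exact Submodule.fg_of_fg_map_of_fg_inf_ker (KaehlerDifferential.map (P i) M M' M')
      (IsNoetherian.noetherian _) (by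
        rw [top_inf_eq, ← hker]
        exact Module.Finite.iff_fg.1 inferInstance)
  refine ⟨hfin, ?_⟩
  haveI := hΥfin
  have h1 := LinearMap.finrank_range_add_finrank_ker (KaehlerDifferential.mapBaseChange (P i) M M')
  have h2 := LinearMap.finrank_range_add_finrank_ker (KaehlerDifferential.map (P i) M M' M')
  rw [LinearMap.range_eq_top.2 (KaehlerDifferential.map_surjective (P i) M M'), finrank_top] at h2
  have h3 : Module.finrank M' (M' ⊗[M] Ω[M⁄P i]) = Module.finrank M (Ω[M⁄P i]) :=
    Module.finrank_baseChange
  have h4 : Module.finrank M' (EGA41.imperfection ℤ M M') ≤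
      Module.finrank M' (LinearMap.ker (KaehlerDifferential.mapBaseChange (P i) M M')) := by
    rw [← LinearMap.finrank_range_of_inj hψinj]
    exact Submodule.finrank_mono hψker
  rw [hker] at h1
  omega

end Groth.Agent.H19.EGA.NagataField
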