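import Groth.Agent.H19.EGA.NagataDeriv

/-!
# Intersections of the cofinite subfields of finite extensions of `K((U))`
-/

set_option autoImplicit false
set_option linter.style.haveILetI false

universe u

open scoped TensorProduct nonZeroDivisors

namespace Groth.Agent.H19.EGA.NagataHint

open Groth.Agent.Lib.Cohen.PSDerivation

variable {p : ℕ} [hp : Fact p.Prime] {K : Type u} [Field K] [CharP K p] {s : ℕ}
  {L' : Type u} [Field L'] [Algebra (MvPowerSeries (Fin s) K) L']
  [IsFractionRing (MvPowerSeries (Fin s) K) L']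

/-- The subfield generated by the restricted series. -/
def G (p : ℕ) [Fact p.Prime] {K : Type u} [Field K] [CharP K p] (s : ℕ) (L' : Type u) [Field L']
    [Algebra (MvPowerSeries (Fin s) K) L'] (F : Subfield K) : Subfield L' :=
  Subfield.closure (algebraMap (MvPowerSeries (Fin s) K) L' ''
    (restricted F p s : Set (MvPowerSeries (Fin s) K)))

theorem G_mono {F F' : Subfield K} (h : F ≤ F') : G p s L' F ≤ G p s L' F' :=
  Subfield.closure_mono (Set.image_mono fun _ hw m => ⟨h (hw m).1, (hw m).2⟩)

theorem pow_mem_G {F : Subfield K} (hF : ∀ c : K, c ^ p ∈ F) (x : L') : x ^ p ∈ G p s L' F := by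
  obtain ⟨a, b, -, rfl⟩ := IsFractionRing.div_surjective (MvPowerSeries (Fin s) K) x
  rw [div_pow, ← map_pow, ← map_pow]
  exact (G p s L' F).div_mem (Subfield.subset_closure ⟨_, pow_mem_restricted hF a, rfl⟩)
    (Subfield.subset_closure ⟨_, pow_mem_restricted hF b, rfl⟩)

theorem exists_pow_of_forall_mem_G {ι : Type u} [Nonempty ι] (F : ι → Subfield K)
    (hpow : ∀ i c, c ^ p ∈ F i) (hint : ∀ y, (∀ i, y ∈ F i) → ∃ c, c ^ p = y)
    {x : L'} (hx : ∀ i, x ∈ G p s L' (F i)) : ∃ z : L', z ^ p = x := by
  let R := MvPowerSeries (Fin s) K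
  have hinj : Function.Injective (algebraMap R L') := IsFractionRing.injective R L'
  obtain ⟨a, b, hb, rfl⟩ := IsFractionRing.div_surjective R x
  have hb0 : b ≠ 0 := nonZeroDivisors.ne_zero hb
  have hb' : algebraMap R L' b ≠ 0 := (map_ne_zero_iff _ hinj).2 hb0
  have hp1 : p - 1 + 1 = p := Nat.succ_pred_eq_of_pos hp.out.pos
  have hw : ∀ i, a * b ^ (p - 1) ∈ restricted (F i) p s := by
    intro i
    obtain ⟨y, hy, z, hz, hyz⟩ := Subfield.mem_closure_iff.1 (hx i)
    rw [← RingHom.map_closure, Subring.closure_eq] at hy hz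
    obtain ⟨y', hy', rfl⟩ := hy
    obtain ⟨z', hz', rfl⟩ := hz
    rcases eq_or_ne z' 0 with rfl | hz0
    · rw [map_zero, div_zero, eq_comm, div_eq_zero_iff] at hyz
      rw [hinj ((hyz.resolve_right hb').trans (map_zero _).symm), zero_mul]
      exact Subring.zero_mem _
    refine mem_restricted_of_mul hz' hz0 ?_
    rw [div_eq_div_iff ((map_ne_zero_iff _ hinj).2 hz0) hb', ← map_mul, ← map_mul] at hyz
    have : a * b ^ (p - 1) * z' = y' * b ^ p := by
      conv_rhs => rw [← hp1, pow_succ', ← mul_assoc, hinj hyz]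
      ring
    rw [this]
    exact Subring.mul_mem _ hy' (pow_mem_restricted (hpow i) b)
  obtain ⟨v, hv⟩ := exists_pow_of_forall F hint hw
  refine ⟨algebraMap R L' v / algebraMap R L' b, ?_⟩
  rw [div_pow, ← map_pow, hv, div_eq_div_iff (pow_ne_zero _ hb') hb', map_mul, map_pow, mul_assoc,
    ← pow_succ, hp1]

/-- The intersection property for finite extensions. -/
theorem hint_finite {ι : Type u} [Preorder ι] [IsDirected ι (· ≤ ·)] [Nonempty ι]
    (F : ι → Subfield K) (hanti : ∀ i j, i ≤ j → F j ≤ F i)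
    (hpow : ∀ i c, c ^ p ∈ F i) (hint : ∀ y, (∀ i, y ∈ F i) → ∃ c, c ^ p = y)
    (M : Type u) [Field M] [CharP M p] [Algebra L' M] [Module.Finite L' M]
    (y : M) (hy : ∀ i, y ∈ EGA41.pPowerSubalgebra p (G p s L' (F i)) M) :
    ∃ z : M, z ^ p = y := by
  classical
  haveI : ExpChar M p := ExpChar.prime hp.out
  let v := Module.finBasis L' M
  let Gm : ι → Subfield M := fun i => (G p s L' (F i)).map (algebraMap L' M)
  have hGanti : ∀ i j, i ≤ j → Gm j ≤ Gm i := by
    rintro i j hij _ ⟨x, hx, rfl⟩
    exact ⟨x, G_mono (hanti i j hij) hx, rfl⟩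
  by_contra hnp
  obtain ⟨i₀, hi₀⟩ := Groth.Agent.Lib.PBasis.Eventual.eventually_relations Gm hGanti
    (fun a : Option (Fin (Module.finrank L' M)) => Option.elim a y fun l => v l ^ p) fun g hg hsum => by
    have hroot : ∀ a, ∃ e : L', algebraMap L' M e ^ p = g a := by
      intro a
      obtain ⟨i₁⟩ := ‹Nonempty ι›
      obtain ⟨x, -, hxa⟩ := hg a i₁
      have hxall : ∀ i, x ∈ G p s L' (F i) := fun i => by
        obtain ⟨x', hx', hx'a⟩ := hg a i
        rw [← (algebraMap L' M).injective (hx'a.trans hxa.symm)]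
        exact hx'
      obtain ⟨z, hz⟩ := exists_pow_of_forall_mem_G F hpow hint hxall
      exact ⟨z, by rw [← map_pow, hz, hxa]⟩
    choose e he using hroot
    have hsum' : algebraMap L' M (e none) ^ p * y + (∑ l, (e (some l)) • v l) ^ p = 0 := by
      rw [sum_pow_char, ← hsum, Fintype.sum_option]
      simp only [Option.elim, ← he, Algebra.smul_def, mul_pow]
    have he0 : e none = 0 := by
      by_contra h0
      refine hnp ⟨-(∑ l, (e (some l)) • v l) / algebraMap L' M (e none), ?_⟩
      have hn : (-(∑ l, (e (some l)) • v l)) ^ p = -((∑ l, (e (some l)) • v l) ^ p) := by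
        rw [neg_pow, show (-1 : M) ^ p = -1 by rw [← frobenius_def, map_neg, map_one], neg_one_mul]
      rw [div_pow, hn, eq_neg_of_add_eq_zero_right hsum', neg_neg,
        mul_div_cancel_left₀ _ (pow_ne_zero _ ((map_ne_zero _).2 h0))]
    have hsum'' : ∑ l, (e (some l)) • v l = 0 := by
      rw [he0, map_zero, zero_pow hp.out.ne_zero, zero_mul, zero_add] at hsum'
      exact eq_zero_of_pow_eq_zero hsum'
    funext a
    cases a with
    | none => rw [← he, he0]; simp [hp.out.ne_zero]
    | some l =>
      rw [← he, Fintype.linearIndependent_iff.1 v.linearIndependent _ hsum'' l]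
      simp [hp.out.ne_zero]
  let G₀ := G p s L' (F i₀)
  let V : Submodule G₀ M := Submodule.span G₀ (Set.range fun l => v l ^ p)
  have hMp : ∀ x : M, x ^ p ∈ V := by
    intro x
    rw [← v.sum_repr x, sum_pow_char]
    refine Submodule.sum_mem _ fun l _ => ?_
    rw [Algebra.smul_def, mul_pow, ← map_pow]
    have : algebraMap L' M (v.repr x l ^ p) * v l ^ p =
        (⟨_, pow_mem_G (hpow i₀) (v.repr x l)⟩ : G₀) • v l ^ p := by
      rw [Subfield.smul_def, Algebra.smul_def]
    rw [this]
    exact Submodule.smul_mem V _ (Submodule.subset_span ⟨l, rfl⟩)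
  have hV : ∀ x ∈ EGA41.pPowerSubalgebra p G₀ M, x ∈ V := by
    have h1 : (1 : M) ∈ V := by simpa using hMp 1
    have hmul : ∀ x ∈ V, ∀ z ∈ V, x * z ∈ V := by
      intro x hx z hz
      induction hx using Submodule.span_induction with
      | mem w hw =>
        obtain ⟨l, rfl⟩ := hw
        induction hz using Submodule.span_induction with
        | mem w hw => obtain ⟨l', rfl⟩ := hw; rw [← mul_pow]; exact hMp _
        | zero => rw [mul_zero]; exact V.zero_mem
        | add a b _ _ ha hb => rw [mul_add]; exact V.add_mem ha hb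
        | smul r a _ ha => rw [mul_smul_comm]; exact V.smul_mem r ha
      | zero => rw [zero_mul]; exact V.zero_mem
      | add a b _ _ ha hb => rw [add_mul]; exact V.add_mem ha hb
      | smul r a _ ha => rw [smul_mul_assoc]; exact V.smul_mem r ha
    intro x hx
    induction hx using Algebra.adjoin_induction with
    | mem w hw => obtain ⟨t, rfl⟩ := hw; exact hMp t
    | algebraMap r => rw [Algebra.algebraMap_eq_smul_one]; exact V.smul_mem r h1
    | add a b _ _ ha hb => exact V.add_mem ha hb
    | mul a b _ _ ha hb => exact hmul a ha b hb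
  obtain ⟨c, hc⟩ := (Submodule.mem_span_range_iff_exists_fun _).1 (hV y (hy i₀))
  have hgm : ∀ a, Option.elim a (-1 : M) (fun l => algebraMap L' M (c l : L')) ∈ Gm i₀ := by
    intro a
    cases a with
    | none => exact (Gm i₀).neg_mem (Gm i₀).one_mem
    | some l => exact ⟨_, (c l).2, rfl⟩
  have h0 := congrFun (hi₀ i₀ le_rfl _ hgm (by
    rw [Fintype.sum_option]
    simp only [Option.elim, neg_mul, one_mul]
    rw [← hc, neg_add_eq_zero]
    exact Finset.sum_congr rfl fun l _ => by rw [Subfield.smul_def, Algebra.smul_def])) none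
  simp at h0

end Groth.Agent.H19.EGA.NagataHint
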