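import Groth.Agent.H19.EGA.NagataCrit
import Groth.Agent.S2453

/-!
# Nagata's Jacobian criterion over a field of finite imperfection degree
-/

set_option autoImplicit false
set_option linter.style.haveILetI false

universe u

open IsLocalRing
open scoped TensorProduct nonZeroDivisors

namespace Groth.Agent.H19.EGA.NagataMain

/-- Noether normalization of a quotient of a power series ring by a prime. -/
theorem exists_noether {K : Type u} [Field K] {n : ℕ} (P : Ideal (MvPowerSeries (Fin n) K)) [P.IsPrime] :
    ∃ (s : ℕ) (w : MvPowerSeries (Fin s) K →ₐ[K] MvPowerSeries (Fin n) K ⧸ P),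
      Function.Injective w ∧ w.toRingHom.Finite := by
  haveI := H24.PowerSeries.isAdicComplete K (Fin n)
  haveI : IsRegularLocalRing (MvPowerSeries (Fin n) K) := H24.PowerSeries.isRegularLocalRing_fin K n
  let R := MvPowerSeries (Fin n) K ⧸ P
  haveI : IsLocalRing R := IsLocalRing.of_surjective' _ Ideal.Quotient.mk_surjective
  haveI : IsLocalHom (Ideal.Quotient.mk P) := IsLocalHom.of_surjective _ Ideal.Quotient.mk_surjective
  have hmR : (maximalIdeal (MvPowerSeries (Fin n) K)).map (Ideal.Quotient.mk P) = maximalIdeal R :=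
    IsLocalRing.map_maximalIdeal_of_surjective _ Ideal.Quotient.mk_surjective
  haveI : IsAdicComplete (maximalIdeal R) R := by
    rw [← hmR]
    exact Lib.Adic.Complete.isAdicComplete_quotient P
  haveI : Module.Finite K (ResidueField R) := by
    refine Module.Finite.of_surjective (Algebra.linearMap K (ResidueField R)) fun x => ?_
    obtain ⟨y, rfl⟩ := residue_surjective x
    obtain ⟨a, rfl⟩ := Ideal.Quotient.mk_surjective y
    obtain ⟨c, hc⟩ := H24.PowerSeries.residue_surjective K (Fin n) (residue _ a)
    refine ⟨c, ?_⟩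
    have hmem : Ideal.Quotient.mk P (algebraMap K (MvPowerSeries (Fin n) K) c - a) ∈ maximalIdeal R := by
      rw [← hmR]
      refine Ideal.mem_map_of_mem _ ?_
      rw [← residue_eq_zero_iff, map_sub, sub_eq_zero]
      exact hc
    rw [← residue_eq_zero_iff, map_sub, map_sub, sub_eq_zero] at hmem
    exact hmem
  obtain ⟨s, w, hwinj, -, hwfin⟩ := Groth.Agent.S2460.result (k₀ := K) (A := R)
  exact ⟨s, w, hwinj, hwfin⟩

/-- The criterion over a coefficient field of characteristic zero. -/
theorem exists_jacobian_charZero {k K A : Type u} [Field k] [Field K] [CharZero K] [Algebra k K]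
    [CommRing A] [Algebra k A] {n : ℕ} (e : A ≃+* MvPowerSeries (Fin n) K)
    (he : ∀ x : k, e (algebraMap k A x) = algebraMap K _ (algebraMap k K x))
    (q 𝔭 : Ideal A) [𝔭.IsPrime] (hq : q ≤ 𝔭) [(𝔭.map (Ideal.Quotient.mk q)).IsPrime]
    (hreg : IsRegularLocalRing (Localization.AtPrime (𝔭.map (Ideal.Quotient.mk q)))) :
    ∃ (m : ℕ) (D : Fin m → Derivation k A A) (f : Fin m → A), (∀ i, f i ∈ q) ∧
        q.map (algebraMap A (Localization.AtPrime 𝔭)) =
          Ideal.span (Set.range fun i => algebraMap A (Localization.AtPrime 𝔭) (f i)) ∧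
        Matrix.det (Matrix.of fun i j => D i (f j)) ∉ 𝔭 := by
  classical
  let es : MvPowerSeries (Fin n) K →+* A := e.symm.toRingHom
  have hese : ∀ x, es (e x) = x := fun x => e.symm_apply_apply x
  have hees : ∀ x, e (es x) = x := fun x => e.apply_symm_apply x
  let P := 𝔭.comap es
  let Q := q.comap es
  have hQP : Q ≤ P := Ideal.comap_mono hq
  have hQe : q = Q.map (e.symm : MvPowerSeries (Fin n) K →+* A) :=
    (Ideal.map_comap_of_surjective _ e.symm.surjective q).symm
  let qe := Ideal.quotientEquiv Q q e.symm hQe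
  haveI : (P.map (Ideal.Quotient.mk Q)).IsPrime :=
    Ideal.map_isPrime_of_surjective Ideal.Quotient.mk_surjective (by rwa [Ideal.mk_ker])
  have hM : (P.map (Ideal.Quotient.mk Q)).primeCompl.map qe.toMonoidHom =
      (𝔭.map (Ideal.Quotient.mk q)).primeCompl := by
    have h1 : ∀ y, (qe (Ideal.Quotient.mk Q y) ∈ 𝔭.map (Ideal.Quotient.mk q)) ↔
        Ideal.Quotient.mk Q y ∈ P.map (Ideal.Quotient.mk Q) := fun y => by
      rw [Ideal.mem_quotient_iff_mem hQP]
      show Ideal.Quotient.mk q (es y) ∈ _ ↔ _
      rw [Ideal.mem_quotient_iff_mem hq]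
      rfl
    ext z
    constructor
    · rintro ⟨x, hx, rfl⟩ hmem
      obtain ⟨y, rfl⟩ := Ideal.Quotient.mk_surjective x
      exact hx ((h1 y).1 hmem)
    · intro hz
      obtain ⟨x, rfl⟩ := qe.surjective z
      obtain ⟨y, rfl⟩ := Ideal.Quotient.mk_surjective x
      exact ⟨_, fun hc => hz ((h1 y).2 hc), rfl⟩
  haveI : IsRegularLocalRing (Localization.AtPrime (P.map (Ideal.Quotient.mk Q))) :=
    IsRegularLocalRing.of_ringEquiv (R := Localization.AtPrime (𝔭.map (Ideal.Quotient.mk q)))
      (IsLocalization.ringEquivOfRingEquiv (Localization.AtPrime (P.map (Ideal.Quotient.mk Q)))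
        (Localization.AtPrime (𝔭.map (Ideal.Quotient.mk q))) qe hM).symm
  obtain ⟨s, w, hwinj, hwfin⟩ := exists_noether P
  let R := MvPowerSeries (Fin n) K ⧸ P
  letI : Algebra (MvPowerSeries (Fin s) K) R := w.toRingHom.toAlgebra
  haveI : Module.Finite (MvPowerSeries (Fin s) K) R := hwfin
  haveI : IsScalarTower K (MvPowerSeries (Fin s) K) R :=
    IsScalarTower.of_algebraMap_eq fun c => (w.commutes c).symm
  haveI : FaithfulSMul (MvPowerSeries (Fin s) K) R := (faithfulSMul_iff_algebraMap_injective _ _).2 hwinj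
  let L := FractionRing R
  haveI : FaithfulSMul (MvPowerSeries (Fin s) K) L :=
    (faithfulSMul_iff_algebraMap_injective _ _).2 (by
      rw [IsScalarTower.algebraMap_eq (MvPowerSeries (Fin s) K) R L]
      exact (IsFractionRing.injective R L).comp hwinj)
  let L' := FractionRing (MvPowerSeries (Fin s) K)
  letI : Algebra L' L := FractionRing.liftAlgebra (MvPowerSeries (Fin s) K) L
  haveI : Module.Finite L' L :=
    Module.Finite.of_isLocalization (MvPowerSeries (Fin s) K) R (Rₚ := L') (Sₚ := L)
      (MvPowerSeries (Fin s) K)⁰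
  haveI : CharZero L' := charZero_of_injective_ringHom
    (f := (algebraMap (MvPowerSeries (Fin s) K) L').comp (MvPowerSeries.C : K →+* MvPowerSeries (Fin s) K))
    (RingHom.injective _)
  obtain ⟨m, D, f, hf, hspan, hdet⟩ := NagataPS.exists_jacobian (L' := L') (L := L) Q P hQP hwinj ‹_›
  let D' : Fin m → Derivation k A A := fun i => Derivation.mk'
    { toFun := fun x => es (D i (e x))
      map_add' := fun x y => by simp only [map_add]
      map_smul' := fun c x => by
        rw [RingHom.id_apply, Algebra.smul_def, Algebra.smul_def, map_mul, he, ← Algebra.smul_def,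
          Derivation.map_smul, Algebra.smul_def, map_mul, ← he, hese] }
    fun x y => by
      show es (D i (e (x * y))) = x • es (D i (e y)) + y • es (D i (e x))
      rw [map_mul, Derivation.leibniz, map_add, smul_eq_mul, smul_eq_mul, map_mul, map_mul, hese, hese]
      rfl
  refine ⟨m, D', fun i => es (f i), hf, ?_, fun hc => hdet ?_⟩
  · refine (NagataCrit.map_eq_span_iff q 𝔭 _ hf).2 fun x hx => ?_
    obtain ⟨t, ht, htx⟩ := (NagataCrit.map_eq_span_iff Q P f hf).1 hspan (e x) (by
      show es (e x) ∈ q
      rwa [hese])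
    refine ⟨es t, ht, ?_⟩
    have h1 : es (t * e x) ∈ (Ideal.span (Set.range f)).map es := Ideal.mem_map_of_mem _ htx
    rw [Ideal.map_span, ← Set.range_comp, map_mul, hese] at h1
    exact h1
  · show es _ ∈ 𝔭
    rw [RingHom.map_det]
    convert hc using 2
    ext i j
    show es (D i (f j)) = es (D i (e (es (f j))))
    rw [hees]

/-- Nagata's Jacobian criterion. -/
theorem criterion (p : ℕ) {k K₀ A : Type u} [Field k] [ExpChar k p]
    (hk : p = 1 ∨ Module.Finite (frobenius k p).fieldRange k)
    [Field K₀] [Algebra k K₀] [Algebra.IsGeometricallyReduced k K₀]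
    [CommRing A] [IsLocalRing A] [IsNoetherianRing A] [IsAdicComplete (maximalIdeal A) A]
    [Algebra k A] [Algebra K₀ A] [IsScalarTower k K₀ A]
    (hA : CAlgX.IsAdicFormallySmooth K₀ A (maximalIdeal A))
    (q 𝔭 : Ideal A) [𝔭.IsPrime] (hq : q ≤ 𝔭) [(𝔭.map (Ideal.Quotient.mk q)).IsPrime] :
    CAlgX.IsAdicFormallySmooth k (Localization.AtPrime (𝔭.map (Ideal.Quotient.mk q)))
        (maximalIdeal (Localization.AtPrime (𝔭.map (Ideal.Quotient.mk q)))) ↔
      ∃ (m : ℕ) (D : Fin m → Derivation k A A) (f : Fin m → A), (∀ i, f i ∈ q) ∧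
        q.map (algebraMap A (Localization.AtPrime 𝔭)) =
          Ideal.span (Set.range fun i => algebraMap A (Localization.AtPrime 𝔭) (f i)) ∧
        Matrix.det (Matrix.of fun i j => D i (f j)) ∉ 𝔭 := by
  haveI : Algebra.FormallySmooth k K₀ := Groth.Agent.S2451.result.2 inferInstance
  have hkA := NagataCrit.adic_trans (k := k) hA
  obtain ⟨hgeo, n, ⟨eC⟩⟩ := Groth.Agent.S4512.result hkA
  constructor
  · intro hFS
    haveI : IsNoetherianRing (Localization.AtPrime (𝔭.map (Ideal.Quotient.mk q))) :=
      IsLocalization.isNoetherianRing (𝔭.map (Ideal.Quotient.mk q)).primeCompl _ inferInstance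
    rcases ‹ExpChar k p› with _ | hp
    · haveI : CharZero (ResidueField A) :=
        charZero_of_injective_algebraMap (algebraMap k (ResidueField A)).injective
      haveI : Algebra.IsGeometricallyReduced k (ResidueField A) :=
        Lib.PBasis.MacLane.isGeometricallyReduced_of_charZero
      haveI : IsRegularLocalRing A := (Groth.Agent.S2471.result.1 hkA).1
      obtain ⟨n', e', he'⟩ := ((Groth.Agent.S2453.result (k := k) (A := A)).out 3 1).1 ‹_›
      exact exists_jacobian_charZero
        ((AdicCompletion.ofAlgEquiv (maximalIdeal A)).toRingEquiv.trans e')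
        (fun x => by
          refine Eq.trans ?_ (he' x)
          rfl)
        q 𝔭 hq (Groth.Agent.S2471.result.1 hFS).1
    · haveI := Fact.mk hp
      haveI : CharP (ResidueField A) p :=
        charP_of_injective_algebraMap (algebraMap k (ResidueField A)).injective p
      haveI : Module.Finite (frobenius k p).fieldRange k := hk.resolve_left hp.ne_one
      exact NagataCrit.exists_jacobian_charP p
        ((AdicCompletion.ofAlgEquiv (maximalIdeal A)).toRingEquiv.trans eC) q 𝔭 hq hFS
  · rintro ⟨m, D, f, -, hspan, hdet⟩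
    exact JacobianSmooth.of_jacobian hgeo q 𝔭 hq D f hspan hdet

end Groth.Agent.H19.EGA.NagataMain
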