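import Groth.Agent.H19.EGA.NagataHint
import Groth.Agent.S2460
import Groth.Agent.Lib.LCFin.CMDim
import Groth.Agent.Lib.JacCrit.FlatRegular
import Groth.Agent.Lib.Dim.Integral
import Groth.Agent.Lib.Adic.Complete
import Mathlib.LinearAlgebra.Dimension.OrzechProperty

/-!
# Separation of differentials at a prime of `K[[T]]` by derivations
-/

set_option autoImplicit false
set_option linter.style.haveILetI false

universe u

open IsLocalRing
open MvPowerSeries (pderiv)
open scoped TensorProduct nonZeroDivisors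

namespace Groth.Agent.H19.EGA.NagataSep

open Groth.Agent.Lib.Cohen.PSDerivation (restricted)

variable {p : ℕ} [hp : Fact p.Prime] {K : Type u} [Field K] [hcp : CharP K p]

local notation "PS" s => MvPowerSeries (Fin s) K

theorem intTower (A : Type u) [CommRing A] (W : Type u) [AddCommGroup W] [Module A W] :
    IsScalarTower ℤ A W :=
  ⟨fun c a w => map_zsmul (AddMonoidHom.mk' (fun a : A => a • w) fun a b => add_smul a b w) c a⟩

theorem sum_smul_apply {R : Type u} [Semiring R] {α : Type*} {J' : Type*} [Fintype J'] (c : J' → R)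
    (w : J' → α → R) (k : α) : (∑ j, c j • w j) k = ∑ j, c j * w j k := by
  simp [Finset.sum_apply]

theorem intTower' (A : Type u) [CommRing A] [alg : Algebra ℤ A] (W : Type u) [AddCommGroup W] [Module A W] :
    @IsScalarTower ℤ A W alg.toSMul _ _ :=
  @IsScalarTower.mk ℤ A W alg.toSMul _ _ fun c a w => by
    rw [Algebra.smul_def, eq_intCast, mul_smul, Int.cast_smul_eq_zsmul]

theorem pPow_mono {M : Type u} [Field M] {L' : Type u} [Field L'] [Algebra L' M] {H H' : Subfield L'}
    (h : H ≤ H') {y : M} (hy : y ∈ EGA41.pPowerSubalgebra p H M) :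
    y ∈ EGA41.pPowerSubalgebra p H' M := by
  induction hy using Algebra.adjoin_induction with
  | mem x hx => exact Algebra.subset_adjoin hx
  | algebraMap r => exact (EGA41.pPowerSubalgebra p H' M).algebraMap_mem (⟨r, h r.2⟩ : H')
  | add a b _ _ ha hb => exact add_mem ha hb
  | mul a b _ _ ha hb => exact mul_mem ha hb

/-- Differentials of `K((U))` over a cofinite subfield. -/
theorem kaehler_L' {s : ℕ} {L' : Type u} [Field L'] [Algebra (PS s) L'] [IsFractionRing (PS s) L']
    (F : Subfield K) [Module.Finite F K] {e : ℕ} (β : Fin e → K) (δ : Fin e → Derivation ℤ K K)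
    (hco : ∀ {W : Type u} [AddCommGroup W] [Module (PS s) W] (E : Derivation ℤ (PS s) W),
        (∀ a ∈ restricted F p s, E a = 0) → ∀ x, E x =
          ∑ j, pderiv K j x • E (MvPowerSeries.X j) +
            ∑ l, NagataDeriv.coeffDeriv (δ l) x • E (MvPowerSeries.C (β l))) :
    Module.Finite L' (Ω[L'⁄NagataHint.G p s L' F]) ∧
      Module.finrank L' (Ω[L'⁄NagataHint.G p s L' F]) ≤ s + e := by
  classical
  let G := NagataHint.G p s L' F
  let dd := KaehlerDifferential.D G L'
  let E : Derivation ℤ (PS s) (Ω[L'⁄G]) := Derivation.mk'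
    ((dd.toLinearMap.toAddMonoidHom.comp (algebraMap (PS s) L').toAddMonoidHom).toIntLinearMap)
    fun a b => by
      show dd (algebraMap (PS s) L' (a * b)) =
        a • dd (algebraMap (PS s) L' b) + b • dd (algebraMap (PS s) L' a)
      rw [map_mul, Derivation.leibniz, algebraMap_smul, algebraMap_smul]
  have hE : ∀ a ∈ restricted F p s, E a = 0 := fun a ha => by
    show dd (algebraMap (PS s) L' a) = 0
    exact dd.map_algebraMap (⟨_, Subfield.subset_closure ⟨a, ha, rfl⟩⟩ : G)
  let gens : Fin s ⊕ Fin e → Ω[L'⁄G] :=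
    Sum.elim (fun j => E (MvPowerSeries.X j)) fun l => E (MvPowerSeries.C (β l))
  have hmem : ∀ x, E x ∈ Submodule.span L' (Set.range gens) := fun x => by
    rw [hco E hE x]
    refine Submodule.add_mem _ (Submodule.sum_mem _ fun j _ => ?_) (Submodule.sum_mem _ fun l _ => ?_)
    · rw [← algebraMap_smul L' (pderiv K j x)]
      exact Submodule.smul_mem _ _ (Submodule.subset_span ⟨Sum.inl j, rfl⟩)
    · rw [← algebraMap_smul L' (NagataDeriv.coeffDeriv (δ l) x)]
      exact Submodule.smul_mem _ _ (Submodule.subset_span ⟨Sum.inr l, rfl⟩)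
  have htop : Submodule.span L' (Set.range gens) = ⊤ := by
    rw [eq_top_iff, ← KaehlerDifferential.span_range_derivation, Submodule.span_le]
    rintro _ ⟨x, rfl⟩
    obtain ⟨a, b, hb, rfl⟩ := IsFractionRing.div_surjective (PS s) x
    have hb' : algebraMap (PS s) L' b ≠ 0 := IsFractionRing.to_map_ne_zero_of_mem_nonZeroDivisors hb
    have h1 : dd (algebraMap (PS s) L' a) = algebraMap (PS s) L' b • dd (algebraMap (PS s) L' a / algebraMap (PS s) L' b) +
        (algebraMap (PS s) L' a / algebraMap (PS s) L' b) • dd (algebraMap (PS s) L' b) := by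
      rw [← Derivation.leibniz, mul_div_cancel₀ _ hb']
    rw [SetLike.mem_coe, ← Submodule.smul_mem_iff _ hb']
    rw [← sub_eq_iff_eq_add] at h1
    show algebraMap (PS s) L' b • dd _ ∈ _
    rw [← h1]
    exact Submodule.sub_mem _ (hmem a) (Submodule.smul_mem _ _ (hmem b))
  refine ⟨⟨htop ▸ Submodule.fg_span (Set.finite_range gens)⟩, ?_⟩
  rw [← finrank_top (R := L') (M := Ω[L'⁄G]), ← htop]
  exact (finrank_range_le_card gens).trans (by simp)

include hp hcp in
/-- Derivations of `K[[T]]` separate differentials at a prime. -/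
theorem separation {n : ℕ} (P : Ideal (PS n)) [P.IsPrime]
    {L : Type u} [Field L] [Algebra (PS n) L]
    (hker : ∀ a : PS n, algebraMap (PS n) L a = 0 ↔ a ∈ P)
    (hfrac : ∀ x : L, ∃ a t : PS n, algebraMap (PS n) L t ≠ 0 ∧
      x * algebraMap (PS n) L t = algebraMap (PS n) L a)
    {h : ℕ} (hh : ringKrullDim (Localization.AtPrime P) = h)
    (g : Fin h → PS n) (hg : ∀ i, g i ∈ P)
    (hcov : ∀ x ∈ P, ∃ t, t ∉ P ∧ t * x ∈ Ideal.span (Set.range g))
    {J : Type u} [Fintype J] (z : J → PS n) :
    ∃ (N : ℕ) (Ds : Fin N → Derivation ℤ (PS n) (PS n)),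
      LinearIndependent L (fun i => fun k => algebraMap (PS n) L (Ds k (g i))) ∧
      ∀ μ : J → L, ∑ j, μ j • (fun k => algebraMap (PS n) L (Ds k (z j))) = 0 →
        ∑ j, μ j • ((1 : L) ⊗ₜ[PS n] KaehlerDifferential.D ℤ (PS n) (z j)) = 0 := by
  classical
  haveI : IsRegularLocalRing (PS n) := H24.PowerSeries.isRegularLocalRing_fin K n
  haveI : LocCoh.IsCohenMacaulayLocalRing (PS n) := Lib.JacCrit.FlatRegular.isCohenMacaulayLocalRing _
  haveI := H24.PowerSeries.isAdicComplete K (Fin n)
  let φ := algebraMap (PS n) L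
  haveI : CharP L p := charP_of_injective_ringHom
    (f := φ.comp (MvPowerSeries.C : K →+* PS n)) (RingHom.injective _) p
  -- the Noether normalization of the quotient
  let R := (PS n) ⧸ P
  haveI : IsLocalRing R := IsLocalRing.of_surjective' _ Ideal.Quotient.mk_surjective
  haveI : IsLocalHom (Ideal.Quotient.mk P) := IsLocalHom.of_surjective _ Ideal.Quotient.mk_surjective
  have hmR : (maximalIdeal (PS n)).map (Ideal.Quotient.mk P) = maximalIdeal R :=
    IsLocalRing.map_maximalIdeal_of_surjective _ Ideal.Quotient.mk_surjective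
  haveI : IsAdicComplete (maximalIdeal R) R := by
    rw [← hmR]
    exact Lib.Adic.Complete.isAdicComplete_quotient P
  haveI : Module.Finite K (ResidueField R) := by
    refine Module.Finite.of_surjective (Algebra.linearMap K (ResidueField R)) fun x => ?_
    obtain ⟨y, rfl⟩ := residue_surjective x
    obtain ⟨a, rfl⟩ := Ideal.Quotient.mk_surjective y
    obtain ⟨c, hc⟩ := H24.PowerSeries.residue_surjective K (Fin n) (residue _ a)
    refine ⟨c, ?_⟩
    have hmem : Ideal.Quotient.mk P (algebraMap K (PS n) c - a) ∈ maximalIdeal R := by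
      rw [← hmR]
      refine Ideal.mem_map_of_mem _ ?_
      rw [← residue_eq_zero_iff, map_sub, sub_eq_zero]
      exact hc
    rw [← residue_eq_zero_iff, map_sub, map_sub, sub_eq_zero] at hmem
    exact hmem
  obtain ⟨s, w, hwinj, hwloc, hwfin⟩ := Groth.Agent.S2460.result (k₀ := K) (A := R)
  have hwX : ∀ j, w (MvPowerSeries.X j) ∈ maximalIdeal R := fun j => by
    haveI := hwloc
    exact map_nonunit w.toRingHom _ (H24.PowerSeries.X_mem K j)
  have hlift : ∀ j, ∃ x ∈ maximalIdeal (PS n), Ideal.Quotient.mk P x = w (MvPowerSeries.X j) :=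
    fun j => by
      have h1 := hwX j
      rw [← hmR, Ideal.mem_map_iff_of_surjective _ Ideal.Quotient.mk_surjective] at h1
      exact h1
  choose x hx hxw using hlift
  obtain ⟨ρ, hρ⟩ := H24.PowerSeries.exists_hom (A := K) (maximalIdeal (PS n)) x hx
  have hwρ : ∀ a, Ideal.Quotient.mk P (ρ a) = w a := by
    have h1 : (Ideal.Quotient.mkₐ K P).comp ρ = w := by
      refine H24.PowerSeries.hom_ext (maximalIdeal R) (fun j => ?_) fun j => ?_
      · show Ideal.Quotient.mk P (ρ _) ∈ _
        rw [hρ, hxw]; exact hwX j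
      · show Ideal.Quotient.mk P (ρ _) = _
        rw [hρ, hxw]
    exact fun a => AlgHom.congr_fun h1 a
  -- dimensions
  have hsn : h + s = n := by
    obtain ⟨h', e', h1, h2, h3⟩ := Lib.LCFin.CMDim.exists_dims P (H24.PowerSeries.ringKrullDim_eq K n)
    letI := w.toRingHom.toAlgebra
    haveI : Module.Finite (PS s) R := hwfin
    haveI : FaithfulSMul (PS s) R := (faithfulSMul_iff_algebraMap_injective _ _).2 hwinj
    have h4 : ringKrullDim R = ringKrullDim (PS s) := Lib.Dim.Integral.ringKrullDim_eq_of_isIntegral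
    rw [h2, H24.PowerSeries.ringKrullDim_eq K s] at h4
    rw [h1] at hh
    have : h' = h := by exact_mod_cast hh
    have : e' = s := by exact_mod_cast h4
    omega
  -- fields
  letI algRL : Algebra R L := (Ideal.Quotient.lift P φ fun a ha => (hker a).2 ha).toAlgebra
  haveI : IsScalarTower (PS n) R L := ⟨fun a y l => by
    obtain ⟨b, rfl⟩ := Ideal.Quotient.mk_surjective y
    rw [show a • Ideal.Quotient.mk P b = Ideal.Quotient.mk P (a * b) from rfl, Algebra.smul_def,
      Algebra.smul_def, Algebra.smul_def]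
    show φ (a * b) * l = φ a * (φ b * l)
    rw [map_mul, mul_assoc]⟩
  have hRLinj : Function.Injective (algebraMap R L) := by
    rw [injective_iff_map_eq_zero]
    intro y hy
    obtain ⟨a, rfl⟩ := Ideal.Quotient.mk_surjective y
    exact Ideal.Quotient.eq_zero_iff_mem.2 ((hker a).1 hy)
  haveI : FaithfulSMul R L := (faithfulSMul_iff_algebraMap_injective _ _).2 hRLinj
  haveI : IsFractionRing R L := IsFractionRing.of_field _ _ fun y => by
    obtain ⟨a, t, ht, hat⟩ := hfrac y
    exact ⟨Ideal.Quotient.mk P a, Ideal.Quotient.mk P t, by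
      show y = φ a / φ t
      rw [← hat]; exact (mul_div_cancel_right₀ y ht).symm⟩
  letI algSR : Algebra (PS s) R := w.toRingHom.toAlgebra
  haveI : Module.Finite (PS s) R := hwfin
  letI algSL : Algebra (PS s) L := ((algebraMap R L).comp w.toRingHom).toAlgebra
  haveI : IsScalarTower (PS s) R L := IsScalarTower.of_algebraMap_eq' rfl
  haveI : FaithfulSMul (PS s) L := (faithfulSMul_iff_algebraMap_injective _ _).2 (hRLinj.comp hwinj)
  haveI : FaithfulSMul (PS s) R := (faithfulSMul_iff_algebraMap_injective _ _).2 hwinj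
  let L' := FractionRing (PS s)
  letI : Algebra L' L := FractionRing.liftAlgebra (PS s) L
  haveI : Module.Finite L' L := Module.Finite.of_isLocalization (PS s) R (Rₚ := L') (Sₚ := L) (PS s)⁰
  haveI : CharP L' p := charP_of_injective_algebraMap (IsFractionRing.injective (PS s) L') p
  have hφρ : ∀ a, φ (ρ a) = algebraMap (PS s) L a := fun a => by
    show φ (ρ a) = algebraMap R L (w a)
    rw [← hwρ]
    rfl
  -- the family
  obtain ⟨ι, _, _, _, F, hanti, hfin, hpow, hint⟩ := Lib.Cohen.CofiniteSubfields.exists_family p K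
  haveI : ∀ i, Module.Finite L' (Ω[L'⁄NagataHint.G p s L' (F i)]) := fun i => by
    haveI := hfin i
    obtain ⟨e, β, δ, -, -, hco⟩ := NagataDeriv.exists_coordinates (p := p) (F i)
    exact (kaehler_L' (F i) β δ (hco s)).1
  obtain ⟨i₁, hi₁⟩ := NagataField.eventually_finrank_le (p := p) (M := L') (M' := L)
    (fun i => NagataHint.G p s L' (F i))
    (fun i j hij y hy => pPow_mono (NagataHint.G_mono (hanti i j hij)) hy)
    (fun y hy => NagataHint.hint_finite F hanti hpow hint L' y hy)
  obtain ⟨i₂, hi₂⟩ := NagataField.eventually_inj (p := p) (M := L)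
    (fun i => NagataHint.G p s L' (F i))
    (fun i j hij y hy => pPow_mono (NagataHint.G_mono (hanti i j hij)) hy)
    (fun y hy => NagataHint.hint_finite F hanti hpow hint L y hy)
    (Finset.univ.image fun j => φ (z j))
  obtain ⟨i, hi1, hi2⟩ := directed_of (· ≤ ·) i₁ i₂
  haveI := hfin i
  let G := NagataHint.G p s L' (F i)
  obtain ⟨hΩfin, hΩrank⟩ := hi₁ i hi1
  haveI := hΩfin
  obtain ⟨e, β, δ, hδF, hδβ, hco⟩ := NagataDeriv.exists_coordinates (p := p) (F i)
  let Dk : Fin n ⊕ Fin e → Derivation ℤ (PS n) (PS n) :=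
    Sum.elim (fun j => Derivation.mk' (pderiv K j).toLinearMap.toAddMonoidHom.toIntLinearMap
        fun a b => (pderiv K j).leibniz a b)
      fun l => NagataDeriv.coeffDeriv (δ l)
  have hDk : ∀ k, ∀ a ∈ restricted (F i) p n, Dk k a = 0 := by
    rintro (j | l) a ha
    · exact NagataDeriv.pderiv_restricted (F i) ha j
    · exact NagataDeriv.coeffDeriv_restricted _ (F i) (hδF l) ha
  let W := Fin n ⊕ Fin e → L
  let v : Derivation ℤ (PS n) W := Derivation.mk'
    (AddMonoidHom.mk' (fun a k => φ (Dk k a)) fun a b => funext fun k => by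
      simp only [map_add]; rfl).toIntLinearMap
    fun a b => funext fun k => by
      show φ (Dk k (a * b)) = a • φ (Dk k b) + b • φ (Dk k a)
      rw [Derivation.leibniz, map_add, smul_eq_mul, smul_eq_mul, map_mul, map_mul, Algebra.smul_def,
        Algebra.smul_def]
  have hvapp : ∀ a k, v a k = φ (Dk k a) := fun _ _ => rfl
  have hsm : ∀ (a : PS n) (y : W), a • y = φ a • y := fun a y => (algebraMap_smul L a y).symm
  let gen : Fin n ⊕ Fin e → PS n := Sum.elim MvPowerSeries.X fun l => MvPowerSeries.C (β l)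
  have hgen : ∀ k k', Dk k (gen k') = if k = k' then 1 else 0 := by
    rintro (j | l) (j' | l')
    · show pderiv K j (MvPowerSeries.X j') = _
      rw [MvPowerSeries.pderiv_X]
      by_cases hjj : j = j'
      · subst hjj; simp
      · simp [hjj, Ne.symm hjj]
    · show pderiv K j (MvPowerSeries.C (β l')) = _
      rw [MvPowerSeries.pderiv_C, if_neg Sum.inl_ne_inr]
    · show NagataDeriv.coeffDeriv (δ l) (MvPowerSeries.X j') = _
      rw [NagataDeriv.coeffDeriv_X, if_neg Sum.inr_ne_inl]
    · show NagataDeriv.coeffDeriv (δ l) (MvPowerSeries.C (β l')) = _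
      rw [NagataDeriv.coeffDeriv_C, hδβ]
      by_cases hll : l = l'
      · subst hll; simp
      · simp [hll]
  -- (1) the Jacobian of the generators of `P` has full rank
  let V₀ : Submodule L W := Submodule.span L (Set.range fun i => v (g i))
  have hVP : ∀ a ∈ P, v a ∈ V₀ := by
    intro a ha
    obtain ⟨t, ht, hta⟩ := hcov a ha
    have hgS : ∀ b ∈ Ideal.span (Set.range g), b ∈ P ∧ v b ∈ V₀ := by
      intro b hb
      induction hb using Submodule.span_induction with
      | mem y hy => obtain ⟨i, rfl⟩ := hy; exact ⟨hg i, Submodule.subset_span ⟨i, rfl⟩⟩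
      | zero => exact ⟨P.zero_mem, by rw [map_zero]; exact V₀.zero_mem⟩
      | add y z _ _ hy hz => exact ⟨P.add_mem hy.1 hz.1, by rw [map_add]; exact V₀.add_mem hy.2 hz.2⟩
      | smul c y _ hy =>
        refine ⟨P.mul_mem_left c hy.1, ?_⟩
        rw [smul_eq_mul, Derivation.leibniz, hsm, hsm, (hker y).2 hy.1, zero_smul, add_zero]
        exact V₀.smul_mem _ hy.2
    have h1 := (hgS _ hta).2
    rw [Derivation.leibniz, hsm, hsm, (hker a).2 ha, zero_smul, add_zero] at h1
    exact (V₀.smul_mem_iff fun hc => ht ((hker t).1 hc)).1 h1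
  haveI := intTower (PS n) W
  let Q := W ⧸ V₀
  let vQ : Derivation ℤ (PS n) Q := Derivation.mk'
    (AddMonoidHom.mk' (fun a => V₀.mkQ (v a)) fun a b => by simp only [map_add]).toIntLinearMap
    fun a b => by
      show V₀.mkQ (v (a * b)) = a • V₀.mkQ (v b) + b • V₀.mkQ (v a)
      rw [Derivation.leibniz, map_add, LinearMap.map_smul_of_tower, LinearMap.map_smul_of_tower]
  obtain ⟨δQ, hδQ⟩ := NagataField.exists_descend (M := L) hfrac vQ fun a ha =>
    (Submodule.Quotient.mk_eq_zero _).2 (hVP a ((hker a).1 ha))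
  have hQT : ∀ a ∈ restricted (F i) p s, δQ (algebraMap (PS s) L a) = 0 := by
    -- the lift of a restricted series of `S` is restricted in `K[[T]]`
    have hρres : ∀ a ∈ restricted (F i) p s, ∀ k, Dk k (ρ a) = 0 := by
      intro a ha k
      let Eρ : Derivation ℤ (PS n) (PS n) := Dk k
      letI : Module (PS s) (PS n) := Module.compHom _ ρ.toRingHom
      let E : Derivation ℤ (PS s) (PS n) := Derivation.mk'
        (AddMonoidHom.mk' (fun b => Eρ (ρ b)) fun b c => by simp only [map_add]).toIntLinearMap
        fun b c => by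
          show Eρ (ρ (b * c)) = ρ b * Eρ (ρ c) + ρ c * Eρ (ρ b)
          rw [map_mul, Derivation.leibniz]; rfl
      obtain ⟨ιF, hιX, hιC, hιsurj⟩ := NagataDeriv.exists_param (p := p) (n := s) (F i)
      obtain ⟨b, rfl⟩ := hιsurj a ha
      have hbot : ∀ (k' : ℕ) b, Eρ (ρ (ιF b)) ∈ maximalIdeal (PS n) ^ k' := by
        intro k'
        induction k' with
        | zero => simp
        | succ k' ih =>
          intro b
          have hf : b - MvPowerSeries.C (MvPowerSeries.constantCoeff b) ∈
              maximalIdeal (MvPowerSeries (Fin s) (F i)) := by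
            rw [mem_maximalIdeal, mem_nonunits_iff, MvPowerSeries.isUnit_iff_constantCoeff]
            simp
          rw [H24.PowerSeries.maximalIdeal_eq (F i) (Fin s)] at hf
          obtain ⟨c, hc⟩ := Ideal.mem_span_range_iff_exists_fun.1 hf
          have hCc : Eρ (ρ (ιF (MvPowerSeries.C (MvPowerSeries.constantCoeff b)))) = 0 := by
            rw [hιC]
            refine hDk k _ ?_
            rw [show ρ (MvPowerSeries.C ((MvPowerSeries.constantCoeff b : F i) : K)) =
              MvPowerSeries.C ((MvPowerSeries.constantCoeff b : F i) : K) from ρ.commutes _]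
            intro m
            rw [MvPowerSeries.coeff_C]
            refine ⟨by split <;> [exact (MvPowerSeries.constantCoeff b).2; exact (F i).zero_mem],
              fun hm => if_neg fun h0 => hm ?_⟩
            subst h0; simp
          have e : Eρ (ρ (ιF b)) = ∑ j, x j ^ p * Eρ (ρ (ιF (c j))) := by
            have h1 : Eρ (ρ (ιF (∑ j, c j * MvPowerSeries.X j))) = Eρ (ρ (ιF b)) := by
              rw [hc, map_sub, map_sub, map_sub, hCc, sub_zero]
            rw [← h1, map_sum, map_sum, map_sum]
            refine Finset.sum_congr rfl fun j _ => ?_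
            rw [map_mul, map_mul, hιX, map_pow, hρ, Derivation.leibniz,
              NagataDeriv.derivation_pow_eq_zero Eρ (x j), smul_zero, zero_add]
            rfl
          rw [e, pow_succ']
          exact Ideal.sum_mem _ fun j _ =>
            Ideal.mul_mem_mul (Ideal.pow_mem_of_mem _ (hx j) p hp.out.pos) (ih _)
      show Eρ (ρ (ιF b)) = 0
      have hK : (⨅ k' : ℕ, maximalIdeal (PS n) ^ k') = ⊥ :=
        Ideal.iInf_pow_eq_bot_of_isLocalRing _ (maximalIdeal.isMaximal _).ne_top
      rw [← Ideal.mem_bot, ← hK, Submodule.mem_iInf]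
      exact fun k' => hbot k' b
    intro a ha
    rw [← hφρ, hδQ]
    show V₀.mkQ (v (ρ a)) = 0
    rw [show v (ρ a) = 0 from funext fun k => by
      rw [hvapp, hρres a ha k, map_zero]; rfl, map_zero]
  have hQG : ∀ y ∈ (G.map (algebraMap L' L)), δQ y = 0 := by
    have hle : G.map (algebraMap L' L) ≤ NagataField.zeroSubfield δQ := by
      rw [Subfield.map_le_iff_le_comap]
      show NagataHint.G p s L' (F i) ≤ _
      rw [NagataHint.G, Subfield.closure_le]
      rintro _ ⟨a, ha, rfl⟩
      show δQ (algebraMap L' L (algebraMap (PS s) L' a)) = 0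
      rw [← IsScalarTower.algebraMap_apply (PS s) L' L]
      exact hQT a ha
    exact fun y hy => hle hy
  let δQG : Derivation G L Q := Derivation.mk' ⟨⟨δQ, map_add δQ⟩, fun c y => by
    show δQ (c • y) = c • δQ y
    rw [Algebra.smul_def, δQ.leibniz,
      show δQ (algebraMap G L c) = 0 from hQG _ ⟨(c : L'), c.2, rfl⟩, smul_zero, add_zero, algebraMap_smul]⟩
    fun a b => δQ.leibniz a b
  have hQsurj : Function.Surjective δQG.liftKaehlerDifferential := by
    rw [← LinearMap.range_eq_top, eq_top_iff]
    rintro y -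
    obtain ⟨u, rfl⟩ := Submodule.mkQ_surjective V₀ y
    have hu : u = ∑ k, u k • v (gen k) := by
      funext k'
      refine Eq.trans ?_ (sum_smul_apply _ _ k').symm
      simp [hvapp, hgen]
    rw [hu, map_sum]
    refine Submodule.sum_mem _ fun k _ => ?_
    rw [map_smul]
    refine Submodule.smul_mem _ _ ⟨KaehlerDifferential.D G L (φ (gen k)), ?_⟩
    rw [Derivation.liftKaehlerDifferential_comp_D]
    exact hδQ (gen k)
  have hrankg : LinearIndependent L (fun i => v (g i)) := by
    rw [linearIndependent_iff_card_le_finrank_span, Fintype.card_fin, Set.finrank]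
    have h1 := LinearMap.finrank_le_finrank_of_surjective hQsurj
    have h2 := Submodule.finrank_quotient_add_finrank V₀
    rw [Module.finrank_fintype_fun_eq_card, Fintype.card_sum, Fintype.card_fin, Fintype.card_fin] at h2
    have h3 := (kaehler_L' (L' := L') (F i) β δ (hco s)).2
    show h ≤ Module.finrank L V₀
    have h4 : Module.finrank L (W ⧸ V₀) ≤ s + e := h1.trans (hΩrank.trans h3)
    omega
  -- (2) projection to the differentials over `G`
  let dL := KaehlerDifferential.D G L
  let Eπ : Derivation ℤ (PS n) (Ω[L⁄G]) := Derivation.mk'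
    (AddMonoidHom.mk' (fun a => dL (φ a)) fun a b => by simp only [map_add]).toIntLinearMap
    fun a b => by
      show dL (φ (a * b)) = a • dL (φ b) + b • dL (φ a)
      rw [map_mul, Derivation.leibniz, algebraMap_smul, algebraMap_smul]
  have hEπ : ∀ a ∈ restricted (F i) p n, Eπ a = 0 := by
    -- `dL` of the image of `S` lies in a finite lattice
    let dd' : Derivation ℤ (PS s) (Ω[L⁄G]) := Derivation.mk'
      (AddMonoidHom.mk' (fun a => dL (algebraMap (PS s) L a)) fun a b => by simp only [map_add]).toIntLinearMap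
      fun a b => by
        show dL (algebraMap (PS s) L (a * b)) = a • dL (algebraMap (PS s) L b) + b • dL (algebraMap (PS s) L a)
        rw [map_mul, Derivation.leibniz, algebraMap_smul, algebraMap_smul]
    have hdd' : ∀ a ∈ restricted (F i) p s, dd' a = 0 := fun a ha => by
      show dL (algebraMap (PS s) L a) = 0
      rw [IsScalarTower.algebraMap_apply (PS s) L' L]
      exact dL.map_algebraMap (⟨_, Subfield.subset_closure ⟨a, ha, rfl⟩⟩ : G)
    obtain ⟨Ns, hNs, hdNs⟩ := NagataDeriv.exists_lattice (F i) dd' hdd'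
    obtain ⟨T₁, hT₁⟩ := hNs
    obtain ⟨T₂, hT₂⟩ := (Module.Finite.fg_top : (⊤ : Submodule (PS s) R).FG)
    choose lf hlf using fun y : R => Ideal.Quotient.mk_surjective (I := P) y
    let N : Submodule (PS n) (Ω[L⁄G]) :=
      Submodule.span (PS n) ((T₁ : Set (Ω[L⁄G])) ∪ (fun y => dL (algebraMap R L y)) '' (T₂ : Set R))
    have hNs' : ∀ y ∈ Ns, y ∈ N := by
      intro y hy
      rw [← hT₁] at hy
      induction hy using Submodule.span_induction with
      | mem y hy => exact Submodule.subset_span (Or.inl hy)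
      | zero => exact N.zero_mem
      | add a b _ _ ha hb => exact N.add_mem ha hb
      | smul c y _ hy =>
        rw [← algebraMap_smul L c y, ← hφρ, algebraMap_smul]
        exact N.smul_mem _ hy
    have hRN : ∀ y : R, dL (algebraMap R L y) ∈ N := by
      intro y
      have hy : y ∈ Submodule.span (PS s) (T₂ : Set R) := hT₂ ▸ Submodule.mem_top
      induction hy using Submodule.span_induction with
      | mem y hy => exact Submodule.subset_span (Or.inr ⟨y, hy, rfl⟩)
      | zero => rw [map_zero, map_zero]; exact N.zero_mem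
      | add a b _ _ ha hb => rw [map_add, map_add]; exact N.add_mem ha hb
      | smul c y _ hy =>
        rw [Algebra.smul_def, map_mul, ← IsScalarTower.algebraMap_apply, Derivation.leibniz]
        refine N.add_mem ?_ ?_
        · rw [← hφρ, algebraMap_smul]; exact N.smul_mem _ hy
        · rw [← hlf y]
          show φ (lf y) • _ ∈ N
          rw [algebraMap_smul]
          exact N.smul_mem _ (hNs' _ (hdNs c))
    refine NagataDeriv.kills_restricted (F i) Eπ N ?_ (fun a => hRN (Ideal.Quotient.mk P a)) fun c hc => ?_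
    · exact Submodule.fg_span (T₁.finite_toSet.union (T₂.finite_toSet.image _))
    · show dL (φ (MvPowerSeries.C c)) = 0
      have hmem : (MvPowerSeries.C c : PS s) ∈ restricted (F i) p s := fun m => by
        rw [MvPowerSeries.coeff_C]
        refine ⟨by split <;> [exact hc; exact (F i).zero_mem], fun hm => if_neg fun h0 => hm ?_⟩
        subst h0; simp
      rw [show (MvPowerSeries.C c : PS n) = ρ (MvPowerSeries.C c) from (ρ.commutes c).symm, hφρ]
      exact hdd' _ hmem
  refine ⟨_, fun k => Dk ((Fintype.equivFin (Fin n ⊕ Fin e)).symm k), ?_, fun μ hμ => ?_⟩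
  · let re : W ≃ₗ[L] (Fin _ → L) := LinearEquiv.funCongrLeft L L (Fintype.equivFin (Fin n ⊕ Fin e)).symm
    exact hrankg.map' re.toLinearMap re.ker
  have hμv : ∑ j, μ j • v (z j) = 0 := funext fun k => by
    have := congrFun hμ (Fintype.equivFin _ k)
    refine (sum_smul_apply μ (fun j => v (z j)) k).trans ?_
    refine Eq.trans ?_ this
    exact (sum_smul_apply μ (fun j k => φ (Dk ((Fintype.equivFin _).symm k) (z j))) _).trans
      (Finset.sum_congr rfl fun j _ => by simp [hvapp]) |>.symm
  -- the image in `Ω[L/G]` vanishes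
  have hπ : ∑ j, μ j • dL (φ (z j)) = 0 := by
    let π : W →ₗ[L] Ω[L⁄G] := ∑ k, (LinearMap.proj k).smulRight (dL (φ (gen k)))
    have hπv : ∀ a, π (v a) = dL (φ a) := fun a => by
      have h1 := hco n Eπ hEπ a
      refine Eq.trans ?_ h1.symm
      show (∑ k, (LinearMap.proj k).smulRight (dL (φ (gen k)))) (v a) = _
      rw [LinearMap.sum_apply, Fintype.sum_sum_type]
      simp only [LinearMap.smulRight_apply, LinearMap.proj_apply, hvapp]
      congr 1 <;> exact Finset.sum_congr rfl fun k _ => algebraMap_smul L _ _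
    have := congrArg π hμv
    simpa [map_sum, hπv] using this
  have habs : ∑ j, μ j • KaehlerDifferential.D ℤ L (φ (z j)) = 0 := by
    refine hi₂ i hi2 _ (Submodule.sum_mem _ fun j _ => Submodule.smul_mem _ _
      (Submodule.subset_span ⟨φ (z j), by simp, rfl⟩)) ?_
    rw [map_sum, ← hπ]
    exact Finset.sum_congr rfl fun j _ => by rw [map_smul, KaehlerDifferential.map_D]; rfl
  -- the conormal sequence
  let U := L ⊗[PS n] Ω[PS n⁄ℤ]
  haveI := intTower (PS n) U
  let dU : Derivation ℤ (PS n) U := Derivation.mk'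
    (AddMonoidHom.mk' (fun a => (1 : L) ⊗ₜ[PS n] KaehlerDifferential.D ℤ (PS n) a)
      fun a b => by simp only [map_add, TensorProduct.tmul_add]).toIntLinearMap
    fun a b => by
      show (1 : L) ⊗ₜ[PS n] KaehlerDifferential.D ℤ (PS n) (a * b) = a • _ + b • _
      rw [Derivation.leibniz, TensorProduct.tmul_add, TensorProduct.tmul_smul, TensorProduct.tmul_smul]
      rfl
  let U₀ : Submodule L U := Submodule.span L (Set.range fun i => dU (g i))
  have hsmU : ∀ (a : PS n) (y : U), a • y = φ a • y := fun a y => (algebraMap_smul L a y).symm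
  have hUP : ∀ a ∈ P, dU a ∈ U₀ := by
    intro a ha
    obtain ⟨t, ht, hta⟩ := hcov a ha
    have hgS : ∀ b ∈ Ideal.span (Set.range g), b ∈ P ∧ dU b ∈ U₀ := by
      intro b hb
      induction hb using Submodule.span_induction with
      | mem y hy => obtain ⟨i, rfl⟩ := hy; exact ⟨hg i, Submodule.subset_span ⟨i, rfl⟩⟩
      | zero => exact ⟨P.zero_mem, by rw [map_zero]; exact U₀.zero_mem⟩
      | add y z _ _ hy hz => exact ⟨P.add_mem hy.1 hz.1, by rw [map_add]; exact U₀.add_mem hy.2 hz.2⟩
      | smul c y _ hy =>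
        refine ⟨P.mul_mem_left c hy.1, ?_⟩
        rw [smul_eq_mul, Derivation.leibniz, hsmU, hsmU, (hker y).2 hy.1, zero_smul, add_zero]
        exact U₀.smul_mem _ hy.2
    have h1 := (hgS _ hta).2
    rw [Derivation.leibniz, hsmU, hsmU, (hker a).2 ha, zero_smul, add_zero] at h1
    exact (U₀.smul_mem_iff fun hc => ht ((hker t).1 hc)).1 h1
  let dUQ : Derivation ℤ (PS n) (U ⧸ U₀) := Derivation.mk'
    (AddMonoidHom.mk' (fun a => U₀.mkQ (dU a)) fun a b => by simp only [map_add]).toIntLinearMap
    fun a b => by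
      show U₀.mkQ (dU (a * b)) = a • U₀.mkQ (dU b) + b • U₀.mkQ (dU a)
      rw [Derivation.leibniz, map_add, LinearMap.map_smul_of_tower, LinearMap.map_smul_of_tower]
  obtain ⟨δU, hδU⟩ := NagataField.exists_descend (M := L) hfrac dUQ fun a ha =>
    (Submodule.Quotient.mk_eq_zero _).2 (hUP a ((hker a).1 ha))
  have hxU : ∑ j, μ j • dU (z j) ∈ U₀ := by
    rw [← Submodule.Quotient.mk_eq_zero, ← Submodule.mkQ_apply, map_sum]
    have := congrArg δU.liftKaehlerDifferential habs
    rw [map_sum, map_zero] at this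
    rw [← this]
    exact Finset.sum_congr rfl fun j _ => by
      rw [map_smul, map_smul, Derivation.liftKaehlerDifferential_comp_D, hδU]; rfl
  obtain ⟨ν, hν⟩ := (Submodule.mem_span_range_iff_exists_fun L).1 hxU
  haveI := intTower' (PS n) W
  let Φ : U →ₗ[L] W := v.liftKaehlerDifferential.liftBaseChange L
  have hΦ : ∀ a, Φ (dU a) = v a := fun a => by
    show Φ ((1 : L) ⊗ₜ KaehlerDifferential.D ℤ (PS n) a) = _
    rw [LinearMap.liftBaseChange_tmul, one_smul, Derivation.liftKaehlerDifferential_comp_D]
  have h0 := congrArg Φ hν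
  simp only [map_sum, map_smul, hΦ, hμv] at h0
  have hν0 := Fintype.linearIndependent_iff.1 hrankg ν h0
  show ∑ j, μ j • dU (z j) = 0
  rw [← hν]
  simp [hν0]

end Groth.Agent.H19.EGA.NagataSep
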